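import Cfsg.Agent.Lib.Twisted.FixedU
import Cfsg.Agent.Lib.Chev.BN

/-!
The (B, N)-pair of a twisted group: intersections with B and N, the generators `n_J`, the double
coset condition from the identity in the rank one subgroups.
-/

set_option autoImplicit false
set_option linter.unusedSectionVars false

namespace CfsgLib.Twisted

open Cfsg.Lie CfsgLib.Chev CfsgLib.Chevalley

variable {D : ChevalleyDatum} {T : Tabs} (S : TwistSym D)

/-- The nodes whose fundamental root represents its orbit. -/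
def TwistSym.repNodes : List ℕ := (List.range D.rank).filter fun i => S.isRep (D.simple i)

/-- The test: every node lies in the orbit of a representing node, the fundamental roots of an orbit
are fixed by the other reflections of the orbit, and the reflection of an orbit leaves positive the
roots outside the orbit. -/
def TwistSym.bnTest : Bool :=
  (List.range D.rank).all (fun i =>
    (S.repNodes.any fun i₀ => (List.range (S.olen (D.simple i₀))).any fun k =>
      decide (S.imgIter k (D.simple i₀) = D.simple i)) &&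
    (List.range (S.olen (D.simple i))).all fun j => (List.range (S.olen (D.simple i))).all fun k =>
      decide (j = k ∨
        D.reflectRoot (S.nodeIter k i) (D.simple (S.nodeIter j i)) = D.simple (S.nodeIter j i))) &&
  S.repNodes.all fun i => S.repList.all fun r =>
    decide (r = D.simple i ∨ D.nroots / 2 ≤ S.wO i r)

variable {S} {H : List ℤ}

theorem mem_repNodes {i : ℕ} (h : i ∈ S.repNodes) :
    i < D.rank ∧ S.isRep (D.simple i) = true := by
  simpa [TwistSym.repNodes] using h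

section
variable (hT : S.bnTest = true)
include hT

theorem TwistSym.node_cover {i : ℕ} (hi : i < D.rank) : ∃ i₀ ∈ S.repNodes,
    ∃ k < S.olen (D.simple i₀), S.imgIter k (D.simple i₀) = D.simple i := by
  simp only [TwistSym.bnTest, Bool.and_eq_true, List.all_eq_true, List.mem_range, List.any_eq_true,
    decide_eq_true_eq] at hT
  exact (hT.1 i hi).1

theorem TwistSym.node_fixed {i j k : ℕ} (hi : i < D.rank) (hj : j < S.olen (D.simple i))
    (hk : k < S.olen (D.simple i)) (hjk : j ≠ k) :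
    D.reflectRoot (S.nodeIter k i) (D.simple (S.nodeIter j i)) = D.simple (S.nodeIter j i) := by
  simp only [TwistSym.bnTest, Bool.and_eq_true, List.all_eq_true, List.mem_range, List.any_eq_true,
    decide_eq_true_eq] at hT
  exact ((hT.1 i hi).2 j hj k hk).resolve_left hjk

theorem TwistSym.wO_pos {i r : ℕ} (hi : i ∈ S.repNodes) (hr : r ∈ S.repList)
    (hne : r ≠ D.simple i) : D.nroots / 2 ≤ S.wO i r := by
  simp only [TwistSym.bnTest, Bool.and_eq_true, List.all_eq_true, decide_eq_true_eq] at hT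
  exact (hT.2 i hi r hr).resolve_left hne

end

variable {K : Type*} [Field K]

/-- The intersection of the twisted group with `B`. -/
noncomputable def twistB (hS : S.test = true) (φ : K ≃+* K) : Subgroup (GL D.Idx K) :=
  D.borelSubgroup K ⊓ twistGrp hS φ

/-- The intersection of the twisted group with `N`. -/
noncomputable def twistN (hS : S.test = true) (φ : K ≃+* K) : Subgroup (GL D.Idx K) :=
  D.monomialSubgroup K ⊓ twistGrp hS φ

section
variable (hc : Checked D T) (hS : S.test = true) (φ : K ≃+* K)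
include hc

theorem sgn_cast {r : ℕ} (hS : S.test = true) (hr : r < D.nroots) :
    (S.sgn r : K) = 1 ∨ (S.sgn r : K) = -1 := by
  have h : S.sgn r * S.sgn r = 1 := (symTest_sign (TwistSym.symOK hS) r hr).1
  rcases Int.eq_one_or_neg_one_of_mul_eq_one h with e | e <;> simp [e]

theorem twistSigma_elN {r : ℕ} (hr : r < D.nroots) (t : K) :
    twistSigma S hS φ (elN D K r t) = elN D K (S.img r) ((S.sgn r : ℤ) * φ t) := by
  rw [elN, map_mul, map_mul, twistSigma_elX hc hS φ hr, twistSigma_elX hc hS φ (neg_lt hc hr),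
    TwistSym.sgn_neg hS hr, ← TwistSym.neg_img hS hr, map_neg, map_inv₀, elN]
  rcases sgn_cast hc (K := K) hS hr with e | e <;> simp [e, inv_neg]

include hS

theorem twistSigma_mem_pos {u : GL D.Idx K} (hu : u ∈ D.posUnipotent K) :
    twistSigma S hS φ u ∈ D.posUnipotent K := by
  rw [posUnipotent_eq hc] at hu ⊢
  induction hu using Subgroup.closure_induction with
  | mem x hx =>
    obtain ⟨r, t, hr, hp, rfl⟩ := hx
    rw [twistSigma_elX hc hS φ hr]
    exact elX_mem_uGen (TwistSym.img_lt hS hr) (P := fun r => D.nroots / 2 ≤ r)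
      ((TwistSym.orbit_spec hS hr).2.2.1.1 hp) _
  | one => rw [map_one]; exact one_mem _
  | mul x y _ _ hx hy => rw [map_mul]; exact mul_mem hx hy
  | inv x _ hx => rw [map_inv]; exact inv_mem hx

theorem twistSigma_mem_diag {g : GL D.Idx K} (hg : g ∈ D.diagonalSubgroup K) :
    twistSigma S hS φ g ∈ D.diagonalSubgroup K := by
  induction hg using Subgroup.closure_induction with
  | mem x hx =>
    obtain ⟨r, t, hr, ht, hx⟩ := hx
    have hx' : x = elN D K r t * elN D K r (-1) := by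
      ext1; rw [hx]; exact (coe_elH hc hr t).symm
    have hu := TwistSym.img_lt hS hr
    have hne : (S.sgn r : K) ≠ 0 := by rcases sgn_cast hc (K := K) hS hr with e | e <;> simp [e]
    rw [hx', map_mul, twistSigma_elN hc hS φ hr, twistSigma_elN hc hS φ hr, map_neg, map_one,
      show ((S.sgn r : ℤ) : K) * -1 = -((S.sgn r : ℤ) : K) by ring, ← elN_inv hc hu]
    exact elN_div_mem hc hu (mul_ne_zero hne (by simpa using ht)) hne
  | one => rw [map_one]; exact one_mem _
  | mul x y _ _ hx hy => rw [map_mul]; exact mul_mem hx hy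
  | inv x _ hx => rw [map_inv]; exact inv_mem hx

theorem orbProd_elN_mem_monomial {r : ℕ} (hr : r < D.nroots) {a : K} (ha : a ≠ 0) (n : ℕ) :
    orbProd (⇑(twistSigma S hS φ)) n (elN D K r a) ∈ D.monomialSubgroup K := by
  have hstep : ∀ (k : ℕ), ∃ v b, v < D.nroots ∧ b ≠ 0 ∧
      (⇑(twistSigma S hS φ))^[k] (elN D K r a) = elN D K v b := by
    intro k
    induction k with
    | zero => exact ⟨r, a, hr, ha, rfl⟩
    | succ k ih =>
      obtain ⟨v, b, hv, hb, e⟩ := ih
      refine ⟨S.img v, _, TwistSym.img_lt hS hv, ?_, by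
        rw [Function.iterate_succ_apply', e, twistSigma_elN hc hS φ hv]⟩
      refine mul_ne_zero ?_ (by simpa using hb)
      rcases sgn_cast hc (K := K) hS hv with e | e <;> simp [e]
  induction n with
  | zero => simp [orbProd, one_mem]
  | succ n ih =>
    rw [orbProd_succ]
    obtain ⟨v, b, hv, hb, e⟩ := hstep n
    rw [e]
    refine mul_mem ih ?_
    have h := mul_mem (diagonal_le_monomial hc (elN_div_mem hc (F := K) hv hb one_ne_zero))
      (elN_mem_monomial hc (F := K) hv)
    rwa [inv_mul_cancel_right] at h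

theorem nOrb_mem_monomial {i : ℕ} (hi : i < D.rank) : nOrb hS φ i ∈ D.monomialSubgroup K :=
  orbProd_elN_mem_monomial hc hS φ (simple_lt hc hi) one_ne_zero _

theorem orbProd_elN_div {r : ℕ} (hr : r < D.nroots) {a b : K} (ha : a ≠ 0) (hb : b ≠ 0) (n : ℕ) :
    orbProd (⇑(twistSigma S hS φ)) n (elN D K r a) *
      (orbProd (⇑(twistSigma S hS φ)) n (elN D K r b))⁻¹ ∈ D.diagonalSubgroup K := by
  induction n with
  | zero => simp [orbProd, one_mem]
  | succ n ih =>
    have hx : (⇑(twistSigma S hS φ))^[n] (elN D K r a) *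
        ((⇑(twistSigma S hS φ))^[n] (elN D K r b))⁻¹ ∈ D.diagonalSubgroup K := by
      rw [← iterate_map_inv, ← iterate_map_mul]
      exact (show ∀ m, (⇑(twistSigma S hS φ))^[m] (elN D K r a * (elN D K r b)⁻¹) ∈
          D.diagonalSubgroup K from fun m => by
        induction m with
        | zero => exact elN_div_mem hc hr ha hb
        | succ m ih => rw [Function.iterate_succ_apply']; exact twistSigma_mem_diag hc hS φ ih) n
    rw [orbProd_succ, orbProd_succ]
    have hA := orbProd_elN_mem_monomial hc hS φ hr ha n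
    rw [show ∀ A B x y : GL D.Idx K, A * x * (B * y)⁻¹ = A * (x * y⁻¹) * A⁻¹ * (A * B⁻¹) from
      fun A B x y => by group]
    exact mul_mem (monomial_conj_diagonal hc hA hx) ih

/-- A fixed element preserves the lengths of the orbits of the roots it permutes. -/
theorem fixed_conj_olen {g : GL D.Idx K} (hg : g ∈ fixedSub S hS φ) {r v : ℕ} (hr : r < D.nroots)
    (hv : v < D.nroots) {c : Kˣ} (h : ∀ t, g * elX D K r t * g⁻¹ = elX D K v ((c : K) * t)) :
    S.olen v = S.olen r := by
  have hσ : ∀ t, g * elX D K (S.img r) ((S.sgn r : ℤ) * φ t) * g⁻¹ =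
      elX D K (S.img v) ((S.sgn v : ℤ) * φ ((c : K) * t)) := by
    intro t
    rw [← twistSigma_elX hc hS φ hr, ← twistSigma_elX hc hS φ hv, ← h t, map_mul, map_mul, map_inv,
      mem_fixedSub.mp hg]
  have hone : (S.sgn v : K) ≠ 0 := by rcases sgn_cast hc (K := K) hS hv with e | e <;> simp [e]
  have key : S.img v = v ↔ S.img r = r := by
    constructor
    · intro e
      have h1 := hσ 1
      rw [e] at h1
      have h2 := h ((c : K)⁻¹ * ((S.sgn v : ℤ) * φ ((c : K) * 1)))
      rw [← mul_assoc (c : K), mul_inv_cancel₀ c.ne_zero, one_mul, ← h1] at h2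
      have h3 := mul_left_cancel (mul_right_cancel h2)
      refine (elX_root_unique hc hr (TwistSym.img_lt hS hr) ?_ h3).symm
      simp [hone, c.ne_zero]
    · intro e
      have h1 := hσ 1
      rw [e, h] at h1
      refine (elX_root_unique hc (TwistSym.img_lt hS hv) hv ?_ h1.symm)
      simp [hone, c.ne_zero]
  unfold TwistSym.olen
  exact if_congr key rfl rfl

theorem fixed_orbX_conj {g : GL D.Idx K} (hg : g ∈ fixedSub S hS φ) {r v : ℕ} (hr : r < D.nroots)
    (hv : v < D.nroots) {c : Kˣ} (h : ∀ t, g * elX D K r t * g⁻¹ = elX D K v ((c : K) * t))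
    {t : K} (ht : IsPar S φ r t) :
    IsPar S φ v ((c : K) * t) ∧ g * orbX hS φ r t * g⁻¹ = orbX hS φ v ((c : K) * t) :=
  have hl := fixed_conj_olen hc hS φ hg hr hv h
  ⟨isPar_conj hc hS φ hg hr hv (h t) hl ht, conj_orbX hc hS φ hg (h t) hl⟩

theorem simple_img_image {L : List (Fin D.rank)} {h : GL D.Idx K}
    (hh : h ∈ D.diagonalSubgroup K) (hn : h * nProd D K L ∈ fixedSub S hS φ) {r : ℕ}
    (hr : r < D.nroots) : sigs D T L (S.img r) = S.img (sigs D T L r) := by
  have hu := sigs_lt hc L hr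
  obtain ⟨c, -, hcx⟩ := nProd_conj_elX hc (F := K) L hr
  obtain ⟨d, hd⟩ := diagonal_conj_elX hc hh hu
  have hr' := TwistSym.img_lt hS hr
  obtain ⟨c', -, hcx'⟩ := nProd_conj_elX hc (F := K) L hr'
  obtain ⟨d', hd'⟩ := diagonal_conj_elX hc hh (sigs_lt hc L hr')
  have hassoc : ∀ a b x : GL D.Idx K, a * b * x * (a * b)⁻¹ = a * (b * x * b⁻¹) * a⁻¹ :=
    fun a b x => by group
  have h2 : twistSigma S hS φ (h * nProd D K L * elX D K r 1 * (h * nProd D K L)⁻¹) =
      h * nProd D K L * elX D K (S.img r) ((S.sgn r : ℤ) * φ 1) * (h * nProd D K L)⁻¹ := by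
    conv_lhs => rw [map_mul, map_inv, map_mul _ (h * nProd D K L), mem_fixedSub.mp hn,
      twistSigma_elX hc hS φ hr]
  rw [hassoc, hcx, hd, hassoc, hcx', hd', twistSigma_elX hc hS φ hu] at h2
  refine (elX_root_unique hc (TwistSym.img_lt hS hu) (sigs_lt hc L hr') ?_ h2).symm
  rcases sgn_cast hc (K := K) hS hu with e | e <;> simp [e, c.ne_zero, d.ne_zero]

theorem isPar_neg_inv {r : ℕ} {t : K} (ht : IsPar S φ r t) : IsPar S φ r (-t⁻¹) := by
  simp only [IsPar] at ht ⊢
  rw [iterate_map_neg]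
  congr 1
  have h := ht
  generalize S.olen r = n at h ⊢
  conv_rhs => rw [← h]
  clear h
  induction n with
  | zero => rfl
  | succ n ih => rw [Function.iterate_succ_apply', Function.iterate_succ_apply', ih, map_inv₀]

variable (hO : S.orbitTest T = true) (hN : S.nodeTest H = true) (hT : S.bnTest = true)

/-- `n_J(a)` for any admissible `a`. -/
theorem orbProd_elN_eq (hN : S.nodeTest H = true) {i : ℕ} (hi : i < D.rank) (a : K) :
    orbProd (⇑(twistSigma S hS φ)) (S.olen (D.simple i)) (elN D K (D.simple i) a) =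
      orbX hS φ (D.simple i) a * orbX hS φ (D.neg (D.simple i)) (-a⁻¹) *
        orbX hS φ (D.simple i) a := by
  have hp := simple_lt hc hi
  rw [elN, orbX, orbX, TwistSym.olen_neg hc hS hp]
  rw [show (⇑(twistSigma S hS φ)) = ⇑(twistSigma S hS φ).toMonoidHom from rfl]
  rw [orbProd_mul, orbProd_mul]
  · exact fun j k hj hk hjk => commute_node_mixed hc hS φ hN hi a (-a⁻¹) hj hk hjk
  · intro j k hj hk hjk
    rw [iterate_map_mul]
    exact (commute_iter_elX hc hS φ hp a a hj hk).mul_left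
      ((commute_node_mixed hc hS φ hN hi a (-a⁻¹) hk hj (Ne.symm hjk)).symm)

/-- The identity in the rank one subgroup of an orbit of nodes. -/
theorem rank_one (hN : S.nodeTest H = true) {i : ℕ} (hi : i < D.rank) {t : K}
    (ht : IsPar S φ (D.simple i) t) (h0 : t ≠ 0) :
    ∃ a, IsPar S φ (D.simple i) a ∧ ∃ h ∈ D.diagonalSubgroup K ⊓ twistGrp hS φ,
      orbX hS φ (D.neg (D.simple i)) t =
        orbX hS φ (D.simple i) a * (h * nOrb hS φ i) * orbX hS φ (D.simple i) a := by
  have hp := simple_lt hc hi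
  have ha := isPar_neg_inv hc hS φ ht
  have hna : IsPar S φ (D.simple i) (-(-t⁻¹)) := by
    have := ha
    simp only [IsPar] at this ⊢
    rw [iterate_map_neg, this]
  have ht' : IsPar S φ (D.neg (D.simple i)) t := by
    simp only [IsPar] at ht ⊢; rwa [TwistSym.olen_neg hc hS hp]
  have hm := orbProd_elN_eq hc hS φ hN hi (-t⁻¹)
  rw [show -(-t⁻¹)⁻¹ = t by simp [inv_neg]] at hm
  refine ⟨-(-t⁻¹), hna,
    orbProd (⇑(twistSigma S hS φ)) (S.olen (D.simple i)) (elN D K (D.simple i) (-t⁻¹)) *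
      (nOrb hS φ i)⁻¹, ⟨orbProd_elN_div hc hS φ hp (by simp [h0]) one_ne_zero _, ?_⟩, ?_⟩
  · refine Subgroup.mul_mem _ ?_ (Subgroup.inv_mem _ (nOrb_mem hc hS φ hN hi))
    rw [hm]
    exact mul_mem (mul_mem (orbX_simple_mem hi ha) (orbX_neg_simple_mem hi ht'))
      (orbX_simple_mem hi ha)
  · rw [inv_mul_cancel_right, hm, ← orbX_inv hc hS φ hp]
    group

theorem nOrb_sq (hN : S.nodeTest H = true) {i : ℕ} (hi : i < D.rank) :
    nOrb hS φ i * nOrb hS φ i ∈ D.diagonalSubgroup K ⊓ twistGrp hS φ := by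
  have hp := simple_lt hc hi
  have h1 : IsPar S φ (D.simple i) (1 : K) := isPar_one φ _
  refine ⟨?_, mul_mem (nOrb_mem hc hS φ hN hi) (nOrb_mem hc hS φ hN hi)⟩
  have hd := orbProd_elN_div hc hS φ hp (a := (-1 : K)) (b := 1) (by simp) one_ne_zero
    (S.olen (D.simple i))
  have hinv : orbProd (⇑(twistSigma S hS φ)) (S.olen (D.simple i)) (elN D K (D.simple i) (-1)) =
      (nOrb hS φ i)⁻¹ := by
    rw [orbProd_elN_eq hc hS φ hN hi, nOrb_eq hc hS φ hN hi, mul_inv_rev, mul_inv_rev,
      orbX_inv hc hS φ hp, orbX_inv hc hS φ (neg_lt hc hp), inv_neg, inv_one, neg_neg, mul_assoc]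
  rw [hinv, show nOrb hS φ i = orbProd _ _ (elN D K (D.simple i) 1) from rfl] at hd
  rw [show nOrb hS φ i = orbProd _ _ (elN D K (D.simple i) 1) from rfl]
  simpa [mul_inv_rev] using inv_mem hd

include hO

theorem orbX_mem_pos {r : ℕ} (hr : r < D.nroots) (hp : D.nroots / 2 ≤ r) (t : K) :
    orbX hS φ r t ∈ D.posUnipotent K := by
  rw [← highU_one hc (F := K) (TwistSym.htPos hO)]
  exact orbX_mem_highU hc hS hO φ hr hp ((TwistSym.pos_spec hO hr hp).2.1) t

theorem orbX_mem_neg {r : ℕ} (hr : r < D.nroots) (hn : r < D.nroots / 2) (t : K) :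
    orbX hS φ r t ∈ uGen D K (fun s => s < D.nroots / 2) := by
  rw [orbX_eq_prod hc hS φ hr]
  refine Subgroup.list_prod_mem _ fun g hg => ?_
  obtain ⟨k, -, rfl⟩ := List.mem_map.1 hg
  refine elX_mem_uGen (TwistSym.imgIter_lt hS hr k) (P := fun s => s < D.nroots / 2) ?_ _
  clear hg
  induction k with
  | zero => exact hn
  | succ k ih =>
    by_contra hh
    exact absurd ((TwistSym.orbit_spec hS (TwistSym.imgIter_lt hS hr k)).2.2.1.2 (by
      show _ ≤ S.img (S.imgIter k r)
      exact Nat.not_lt.mp hh)) (Nat.not_le.mpr ih)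

theorem repNode_at {i : ℕ} (hi : i ∈ S.repNodes) : RepAt D T S 1 (D.simple i) := by
  obtain ⟨h1, h2⟩ := mem_repNodes hi
  refine ⟨List.mem_filter.2 ⟨List.mem_range.2 (simple_lt hc h1), h2⟩, ?_⟩
  rw [hgt, show i = (⟨i, h1⟩ : Fin D.rank).val from rfl, rv_simple hc]
  simp [htLin, Finset.sum_pi_single']

theorem orbX_simple_ne_one {i : ℕ} (hi : i ∈ S.repNodes) {t : K} (ht : t ≠ 0) :
    orbX hS φ (D.simple i) t ≠ 1 := by
  intro e
  refine ht (split_unique hc hS hO φ le_rfl (List.nodup_singleton (D.simple i))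
    (fun r hr => by rw [List.mem_singleton.1 hr]; exact repNode_at hc hS hO hi)
    (a := fun _ => t) (b := fun _ => 0) (u := 1) (v := 1) (one_mem _) (one_mem _) ?_
    (D.simple i) (List.mem_singleton.2 rfl))
  simp [orbP, e, orbX_zero hc hS φ (simple_lt hc (mem_repNodes hi).1)]

include hN

/-- `B¹ = U¹ H¹`. -/
theorem twistB_split (hcomm : CommOne D T) {b : GL D.Idx K} (hb : b ∈ twistB hS φ) :
    ∃ u ∈ D.posUnipotent K ⊓ fixedSub S hS φ, ∃ h ∈ D.diagonalSubgroup K ⊓ twistGrp hS φ,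
      b = u * h := by
  obtain ⟨u, hu, h, hh, rfl⟩ := (mem_borel hc).1 hb.1
  have hf := mem_fixedSub.mp (twistGrp_le_fixed hc hS φ hb.2)
  rw [← posUnipotent_eq hc] at hu
  have hu' := twistSigma_mem_pos hc hS φ hu
  have hh' := twistSigma_mem_diag hc hS φ hh
  rw [map_mul] at hf
  have e : u⁻¹ * twistSigma S hS φ u = h * (twistSigma S hS φ h)⁻¹ := by
    rw [eq_mul_inv_iff_mul_eq, mul_assoc, hf, inv_mul_cancel_left]
  have h1 : u⁻¹ * twistSigma S hS φ u = 1 := by
    refine pos_inf_diag hc ?_ (e ▸ mul_mem hh (inv_mem hh'))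
    rw [← posUnipotent_eq hc]
    exact mul_mem (inv_mem hu) hu'
  have hfix : u ∈ fixedSub S hS φ := mem_fixedSub.mpr (inv_mul_eq_one.mp h1).symm
  have hug := posU_fixed_le hc hcomm hS hO φ hN ⟨hu, hfix⟩
  refine ⟨u, ⟨hu, hfix⟩, h, ⟨hh, ?_⟩, rfl⟩
  have := mul_mem (inv_mem hug) hb.2
  rwa [inv_mul_cancel_left] at this

theorem mem_twistB_of_pos {g : GL D.Idx K} (hg : g ∈ D.posUnipotent K) (hg' : g ∈ twistGrp hS φ) :
    g ∈ twistB hS φ :=
  ⟨Subgroup.mem_sup_left hg, hg'⟩

theorem orbX_mem_B {r : ℕ} (hr : r < D.nroots) (hp : D.nroots / 2 ≤ r) {t : K}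
    (ht : IsPar S φ r t) : orbX hS φ r t ∈ twistB hS φ :=
  mem_twistB_of_pos hc hS φ hO hN (orbX_mem_pos hc hS φ hO hr hp t) (orbX_mem hc hS φ hN hr ht)

include hT

/-- `n_J` normalises the products over the orbits other than `J`. -/
theorem nOrb_conj_repGen {i : ℕ} (hi : i ∈ S.repNodes) {g : GL D.Idx K}
    (hg : g ∈ repGen hS φ T 1 (D.simple i)) :
    nOrb hS φ i * g * (nOrb hS φ i)⁻¹ ∈ twistB hS φ := by
  induction hg using Subgroup.closure_induction with
  | mem x hx =>
    obtain ⟨r, hr, hne, -, t, ht, rfl⟩ := hx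
    obtain ⟨hlt, -, e, -, hp, heq⟩ :=
      nOrb_conj hc hS φ hN (mem_repNodes hi).1 (mem_repList hr).1 ht
    rw [heq]
    exact orbX_mem_B hc hS φ hO hN hlt (TwistSym.wO_pos hT hi hr hne) hp
  | one => simp
  | mul x y _ _ hx hy =>
    rw [show ∀ n a b : GL D.Idx K, n * (a * b) * n⁻¹ = (n * a * n⁻¹) * (n * b * n⁻¹) from
      fun n a b => by group]
    exact mul_mem hx hy
  | inv x _ hx =>
    rw [show ∀ n a : GL D.Idx K, n * a⁻¹ * n⁻¹ = (n * a * n⁻¹)⁻¹ from fun n a => by group]
    exact inv_mem hx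

theorem repGen_le_B {i : ℕ} : repGen hS φ T 1 (D.simple i) ≤ twistB hS φ := by
  refine (Subgroup.closure_le _).mpr ?_
  rintro g ⟨r, hr, -, -, t, ht, rfl⟩
  exact orbX_mem_B hc hS φ hO hN (mem_repList hr).1 (mem_repList hr).2 ht

omit hO in
theorem nOrb_conj_simple {i : ℕ} (hi : i < D.rank) {t : K} (ht : IsPar S φ (D.simple i) t) :
    ∃ b, IsPar S φ (D.simple i) b ∧ (b = t ∨ b = -t) ∧
      nOrb hS φ i * orbX hS φ (D.simple i) t * (nOrb hS φ i)⁻¹ =
        orbX hS φ (D.neg (D.simple i)) b := by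
  have hp := simple_lt hc hi
  obtain ⟨-, -, e, he, -, heq⟩ := nOrb_conj hc hS φ hN hi hp ht
  refine ⟨(e : K) * t, isPar_signed φ ht, ?_, by rw [heq, TwistSym.wO_simple hN hi]⟩
  rcases he with rfl | rfl <;> simp

/-- The double coset condition. -/
theorem twist_bn_axiom (hcomm : CommOne D T) {i : ℕ} (hi : i ∈ S.repNodes) {n b : GL D.Idx K}
    (hn : n ∈ twistN hS φ) (hb : b ∈ twistB hS φ) :
    (∃ x ∈ twistB hS φ, ∃ y ∈ twistB hS φ, nOrb hS φ i * b * n = x * (nOrb hS φ i * n) * y) ∨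
      ∃ x ∈ twistB hS φ, ∃ y ∈ twistB hS φ, nOrb hS φ i * b * n = x * n * y := by
  have hi' := (mem_repNodes hi).1
  have hp := simple_lt hc hi'
  obtain ⟨u, hu, h, hh, rfl⟩ := twistB_split hc hS φ hO hN hcomm hb
  have hu' : u⁻¹ ∈ highU D T K 1 ⊓ fixedSub S hS φ := by
    rw [highU_one hc (F := K) (TwistSym.htPos hO)]; exact inv_mem hu
  obtain ⟨t₀, ht₀, hrest⟩ :=
    exists_split_one hc hcomm hS hO φ le_rfl (repNode_at hc hS hO hi) hu'
  set s := nOrb hS φ i with hs
  have hsN : s ∈ twistN hS φ := ⟨nOrb_mem_monomial hc hS φ hi', nOrb_mem hc hS φ hN hi'⟩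
  set u' := ((orbX hS φ (D.simple i) t₀)⁻¹ * u⁻¹)⁻¹ with hu'def
  have hu'mem : u' ∈ repGen hS φ T 1 (D.simple i) := inv_mem hrest
  have ht : IsPar S φ (D.simple i) (-t₀) := by
    simp only [IsPar] at ht₀ ⊢; rw [iterate_map_neg, ht₀]
  set t := -t₀ with htdef
  have hu_eq : u = u' * orbX hS φ (D.simple i) t := by
    rw [hu'def, htdef, ← orbX_inv hc hS φ hp]; group
  have hsu : s * u' * s⁻¹ ∈ twistB hS φ := nOrb_conj_repGen hc hS φ hO hN hT hi hu'mem
  have hconj : ∀ {m k : GL D.Idx K}, m ∈ twistN hS φ →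
      k ∈ D.diagonalSubgroup K ⊓ twistGrp hS φ → m⁻¹ * k * m ∈ twistB hS φ := fun hm hk =>
    ⟨diagonal_le_borel hc (by simpa using monomial_conj_diagonal hc (inv_mem hm.1) hk.1),
      Subgroup.mul_mem _ (Subgroup.mul_mem _ (Subgroup.inv_mem _ hm.2) hk.2) hm.2⟩
  have hnf : n⁻¹ ∈ fixedSub S hS φ := inv_mem (twistGrp_le_fixed hc hS φ hn.2)
  obtain ⟨v, c, hv, hvx, hvy⟩ := monomial_conj_elX hc (inv_mem hn.1) hp
  simp only [inv_inv] at hvx hvy
  obtain ⟨hct, hxeq⟩ := fixed_orbX_conj hc hS φ hnf hp hv (c := c) (by simpa using hvx) ht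
  rw [inv_inv] at hxeq
  by_cases hcase : D.nroots / 2 ≤ v ∨ t = 0
  · left
    refine ⟨s * u' * s⁻¹, hsu, n⁻¹ * orbX hS φ (D.simple i) t * n * (n⁻¹ * h * n),
      mul_mem ?_ (hconj hn hh), ?_⟩
    · rw [hxeq]
      rcases hcase with hpos | h0
      · exact orbX_mem_B hc hS φ hO hN hv hpos hct
      · rw [h0, mul_zero, orbX_zero hc hS φ hv]; exact one_mem _
    · rw [hu_eq]; group
  · push Not at hcase
    obtain ⟨hvneg, ht0⟩ := hcase
    right
    obtain ⟨b, hb', hbt, hsx⟩ := nOrb_conj_simple hc hS φ hN hT hi' ht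
    rw [← hs] at hsx
    have hb0 : b ≠ 0 := by rcases hbt with rfl | rfl <;> simp [ht0]
    obtain ⟨a, ha, k, hk, hrk⟩ := rank_one hc hS φ hN hi' hb' hb0
    rw [← hs] at hrk
    obtain ⟨a', ha', -, hsa⟩ := nOrb_conj_simple hc hS φ hN hT hi' ha
    rw [← hs] at hsa
    obtain ⟨w, hw⟩ := hvy a'
    have hnv : D.nroots / 2 ≤ D.neg v := by
      have := neg_eq hc hv; have := nroots_eq_two_mul hc; omega
    have hl : S.olen (D.neg v) = S.olen (D.neg (D.simple i)) := by
      rw [TwistSym.olen_neg hc hS hv, TwistSym.olen_neg hc hS hp]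
      exact fixed_conj_olen hc hS φ hnf hp hv (c := c) (by simpa using hvx)
    have hw' : n⁻¹ * elX D K (D.neg (D.simple i)) a' * (n⁻¹)⁻¹ = elX D K (D.neg v) w := by
      rw [inv_inv]; exact hw
    have hya : n⁻¹ * orbX hS φ (D.neg (D.simple i)) a' * n ∈ twistB hS φ := by
      have := conj_orbX hc hS φ hnf hw' hl
      rw [inv_inv] at this
      rw [this]
      refine orbX_mem_B hc hS φ hO hN (neg_lt hc hv) hnv
        (isPar_conj hc hS φ hnf (neg_lt hc hp) (neg_lt hc hv) hw' hl ?_)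
      simp only [IsPar] at ha' ⊢
      rwa [TwistSym.olen_neg hc hS hp]
    refine ⟨s * u' * s⁻¹ * orbX hS φ (D.simple i) a * k,
      mul_mem (mul_mem hsu (orbX_mem_B hc hS φ hO hN hp (half_le_simple hc hi') ha))
        ⟨diagonal_le_borel hc hk.1, hk.2⟩,
      n⁻¹ * orbX hS φ (D.neg (D.simple i)) a' * n * (n⁻¹ * (s * s) * n) * (n⁻¹ * h * n),
      mul_mem (mul_mem hya (hconj hn (nOrb_sq hc hS φ hN hi'))) (hconj hn hh), ?_⟩
    calc s * (u * h) * n
        = s * u' * s⁻¹ * (s * orbX hS φ (D.simple i) t * s⁻¹) * s * h * n := by rw [hu_eq]; group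
      _ = s * u' * s⁻¹ * (orbX hS φ (D.simple i) a * (k * s) * orbX hS φ (D.simple i) a) *
            s * h * n := by rw [hsx, hrk]
      _ = s * u' * s⁻¹ * orbX hS φ (D.simple i) a * k *
            (s * orbX hS φ (D.simple i) a * s⁻¹) * (s * s) * h * n := by group
      _ = _ := by rw [hsa]; group

/-- A fixed monomial element is a product of the `n_J` and a diagonal element. -/
theorem twistN_eq {G : Subgroup (GL D.Idx K)} (hG : G ≤ fixedSub S hS φ)
    (hn : ∀ i < D.rank, nOrb hS φ i ∈ G) :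
    D.monomialSubgroup K ⊓ G = Subgroup.closure (nOrb hS φ '' {i | i ∈ S.repNodes}) ⊔
      (D.diagonalSubgroup K ⊓ G) := by
  refine le_antisymm ?_ (sup_le ((Subgroup.closure_le _).2 ?_)
    (inf_le_inf_right _ (diagonal_le_monomial hc)))
  swap
  · rintro _ ⟨i, hi, rfl⟩
    exact ⟨nOrb_mem_monomial hc hS φ (mem_repNodes hi).1, hn i (mem_repNodes hi).1⟩
  suffices key : ∀ (d : ℕ) (h : GL D.Idx K) (L : List (Fin D.rank)), L.length ≤ d →
      h ∈ D.diagonalSubgroup K → h * nProd D K L ∈ G → h * nProd D K L ∈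
        Subgroup.closure (nOrb hS φ '' {i | i ∈ S.repNodes}) ⊔ (D.diagonalSubgroup K ⊓ G) by
    rintro g ⟨hgN, hgG⟩
    obtain ⟨h, hh, L, rfl⟩ := monomial_cases hc hgN
    exact key L.length h L le_rfl hh hgG
  intro d
  induction d using Nat.strong_induction_on with
  | _ d ih =>
    intro h L hd hh hG'
    by_cases hall : ∀ i : Fin D.rank, D.nroots / 2 ≤ sigs D T L (D.simple i.val)
    · exact Subgroup.mem_sup_right ⟨mul_mem hh (nProd_mem_of_pos hc L hall), hG'⟩
    · push Not at hall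
      obtain ⟨j, hj⟩ := hall
      obtain ⟨i, hi, k₀, -, hk₀⟩ := TwistSym.node_cover hT j.2
      have hi' := (mem_repNodes hi).1
      have hp := simple_lt hc hi'
      have hfix := hG hG'
      have hiter : ∀ k, sigs D T L (S.imgIter k (D.simple i)) =
          S.imgIter k (sigs D T L (D.simple i)) := by
        intro k
        induction k with
        | zero => rfl
        | succ k ihk =>
          show sigs D T L (S.img _) = S.img _
          rw [simple_img_image hc hS φ hh hfix (TwistSym.imgIter_lt hS hp k), ihk]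
      have hneg0 : sigs D T L (D.simple i) < D.nroots / 2 := by
        by_contra hh'
        rw [← hk₀, hiter] at hj
        exact absurd (TwistSym.img_pos hO hS (sigs_lt hc L hp) (Nat.not_lt.mp hh') k₀).1 (by omega)
      have hneg : ∀ k, sigs D T L (D.simple (S.nodeIter k i)) < D.nroots / 2 := by
        intro k
        rw [← (TwistSym.imgIter_simple hc hS hi' k).2.1, hiter]
        induction k with
        | zero => exact hneg0
        | succ k ihk =>
          by_contra hh'
          exact absurd ((TwistSym.orbit_spec hS (TwistSym.imgIter_lt hS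
            (sigs_lt hc L hp) k)).2.2.1.2 (Nat.not_lt.mp hh')) (by omega)
      set lo := S.olen (D.simple i) with hlo
      have hstep : ∀ k ≤ lo, ∃ (h' : GL D.Idx K) (L' : List (Fin D.rank)),
          h' ∈ D.diagonalSubgroup K ∧ L'.length + k = L.length ∧
          h * nProd D K L * orbProd (⇑(twistSigma S hS φ)) k (elN D K (D.simple i) 1) =
            h' * nProd D K L' ∧
          ∀ m, k ≤ m → m < lo → sigs D T L' (D.simple (S.nodeIter m i)) < D.nroots / 2 := by
        intro k
        induction k with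
        | zero =>
          exact fun _ => ⟨h, L, hh, rfl, by simp [orbProd], fun m _ _ => hneg m⟩
        | succ k ihk =>
          intro hk
          obtain ⟨h', L', hh', hlen, heq, hneg'⟩ := ihk (by omega)
          obtain ⟨hlt, -⟩ := TwistSym.imgIter_simple hc hS hi' k
          obtain ⟨L'', h1, h2, h3⟩ :=
            exchange hc (F := K) L' ⟨_, hlt⟩ (hneg' k le_rfl (by omega))
          have h4 := (D.diagonalSubgroup K).mul_mem hh' h3
          refine ⟨h' * (nProd D K (L' ++ [(⟨S.nodeIter k i, hlt⟩ : Fin D.rank)]) * (nProd D K L'')⁻¹),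
            L'', h4, by omega, ?_, fun m hkm hm => ?_⟩
          · rw [orbProd_succ, ← mul_assoc (h * nProd D K L), heq, iter_elN_simple hc hS φ hi',
              nProd_append, nProd_cons, nProd_nil, mul_one]
            group
          · obtain ⟨hltm, -⟩ := TwistSym.imgIter_simple hc hS hi' m
            rw [← h2 _ (simple_lt hc hltm), sigs_append,
              show sigs D T [(⟨_, hlt⟩ : Fin D.rank)] (D.simple (S.nodeIter m i)) =
                sig D T (⟨_, hlt⟩ : Fin D.rank) (D.simple (S.nodeIter m i)) from rfl,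
              ← reflectRoot_eq hc ⟨_, hlt⟩ (simple_lt hc hltm),
              TwistSym.node_fixed hT hi' hm (by omega : k < lo) (by omega)]
            exact hneg' m (by omega) hm
      obtain ⟨h', L', hh', hlen, heq, -⟩ := hstep lo le_rfl
      have hpos : 0 < lo := by
        rw [hlo]; unfold TwistSym.olen
        split_ifs
        · exact one_pos
        · exact TwistSym.d_pos hS
      change h * nProd D K L * nOrb hS φ i = h' * nProd D K L' at heq
      have hmem := ih L'.length (by omega) h' L' le_rfl hh' (heq ▸ mul_mem hG' (hn i hi'))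
      rw [← heq, Subgroup.mul_mem_cancel_right _
        (Subgroup.mem_sup_left (Subgroup.subset_closure
          (show nOrb hS φ i ∈ nOrb hS φ '' {i | i ∈ S.repNodes} from ⟨i, hi, rfl⟩)))] at hmem
      exact hmem

theorem nOrb_inj {i j : ℕ} (hi : i ∈ S.repNodes) (hj : j ∈ S.repNodes)
    (h : (nOrb hS φ i)⁻¹ * nOrb hS φ j ∈ D.borelSubgroup K) : i = j := by
  by_contra hne
  have hi' := (mem_repNodes hi).1
  have hj' := (mem_repNodes hj).1
  have hp := simple_lt hc hi'
  have hH := borel_inf_monomial hc h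
    (mul_mem (inv_mem (nOrb_mem_monomial hc hS φ hi')) (nOrb_mem_monomial hc hS φ hj'))
  obtain ⟨hu, e1, he1, h1⟩ := wK_conj hc hS φ (S.olen (D.simple i)) hi' hp (1 : K)
  obtain ⟨hv, e2, he2, h2⟩ := wK_conj hc hS φ (S.olen (D.simple j)) hj' hp (1 : K)
  change nOrb hS φ i * _ * (nOrb hS φ i)⁻¹ = elX D K (S.wO i (D.simple i)) _ at h1
  change nOrb hS φ j * _ * (nOrb hS φ j)⁻¹ = elX D K (S.wO j (D.simple i)) _ at h2
  change S.wO i (D.simple i) < D.nroots at hu
  change S.wO j (D.simple i) < D.nroots at hv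
  rw [TwistSym.wO_simple hN hi'] at h1 hu
  obtain ⟨c, hcx⟩ := diagonal_conj_elX hc
    (monomial_conj_diagonal hc (nOrb_mem_monomial hc hS φ hi') hH) hu
  have key : elX D K (D.neg (D.simple i)) ((c : K) * ((e1 : K) * 1)) =
      elX D K (S.wO j (D.simple i)) ((e2 : K) * 1) := by
    rw [← h2, ← hcx, ← h1]; group
  have hroot := elX_root_unique hc hu hv (by
    rcases he1 with rfl | rfl <;> simp [c.ne_zero]) key
  have hpos := TwistSym.wO_pos hT hj (repNode_at hc hS hO hi).1
    (fun e => hne (simple_inj hc hi' hj' e))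
  rw [← hroot] at hpos
  have := neg_eq hc hp; have := half_le_simple hc hi'; have := nroots_eq_two_mul hc
  omega

theorem nOrb_conj_ne {i : ℕ} (hi : i ∈ S.repNodes) :
    ∃ b ∈ twistB hS φ, nOrb hS φ i * b * nOrb hS φ i ∉ D.borelSubgroup K := by
  have hi' := (mem_repNodes hi).1
  have hp := simple_lt hc hi'
  refine ⟨_, orbX_mem_B hc hS φ hO hN hp (half_le_simple hc hi') (isPar_one φ _), fun h => ?_⟩
  have h' := mul_mem h (inv_mem (diagonal_le_borel hc (nOrb_sq hc hS φ hN hi').1))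
  rw [show ∀ s x : GL D.Idx K, s * x * s * (s * s)⁻¹ = s * x * s⁻¹ from fun s x => by group] at h'
  obtain ⟨b, hb, hbt, hsx⟩ := nOrb_conj_simple hc hS φ hN hT hi' (isPar_one φ (D.simple i))
  have hneg : D.neg (D.simple i) < D.nroots / 2 := by
    have := neg_eq hc hp; have := half_le_simple hc hi'; have := nroots_eq_two_mul hc
    omega
  rw [hsx] at h'
  have h1 := borel_inf_neg hc h' (orbX_mem_neg hc hS φ hO (neg_lt hc hp) hneg b)
  rw [← hsx, conj_eq_one_iff] at h1
  exact orbX_simple_ne_one hc hS φ hO hi one_ne_zero h1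

theorem twistGrp_le_sup (hcomm : CommOne D T) : twistGrp hS φ ≤ twistB hS φ ⊔ twistN hS φ := by
  refine (Subgroup.closure_le _).mpr ?_
  rintro g ⟨i, hi, r, hr, t, ht, rfl⟩
  have hp := simple_lt hc hi
  have hpos : ∀ t, IsPar S φ (D.simple i) t →
      orbX hS φ (D.simple i) t ∈ twistB hS φ ⊔ twistN hS φ := fun t ht =>
    Subgroup.mem_sup_left (orbX_mem_B hc hS φ hO hN hp (half_le_simple hc hi) ht)
  rcases hr with rfl | rfl
  · exact hpos t ht
  · have hn : nOrb hS φ i ∈ twistB hS φ ⊔ twistN hS φ :=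
      Subgroup.mem_sup_right ⟨nOrb_mem_monomial hc hS φ hi, nOrb_mem hc hS φ hN hi⟩
    obtain ⟨-, -, e, -, hpar, heq⟩ := nOrb_conj hc hS φ hN hi (neg_lt hc hp) ht
    rw [(TwistSym.wO_spec hN hi hp).2.2, TwistSym.wO_simple hN hi,
      neg_neg_root hc hp] at heq hpar
    rw [show orbX hS φ (D.neg (D.simple i)) t = (nOrb hS φ i)⁻¹ *
      orbX hS φ (D.simple i) ((e : K) * t) * nOrb hS φ i by rw [← heq]; group]
    exact mul_mem (mul_mem (inv_mem hn) (hpos _ hpar)) hn

/-- The (B, N)-pair of the twisted group, for the group given by any name `G`. -/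
theorem exists_twist_bnPair (hcomm : CommOne D T) {G : Subgroup (GL D.Idx K)}
    (hG : G = twistGrp hS φ) :
    ∃ P : Cfsg.BNPair ↥G,
      P.B = (D.borelSubgroup K ⊓ G).subgroupOf G ∧
      P.N = (D.monomialSubgroup K ⊓ G).subgroupOf G ∧
      P.S = {n : ↥G | ∃ i ∈ S.repNodes, (n : GL D.Idx K) = nOrb hS φ i} := by
  subst hG
  set G := twistGrp hS φ
  set S₀ := {n : ↥G | ∃ i ∈ S.repNodes, (n : GL D.Idx K) = nOrb hS φ i}
  refine ⟨{
    B := (D.borelSubgroup K ⊓ G).subgroupOf G
    N := (D.monomialSubgroup K ⊓ G).subgroupOf G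
    S := S₀
    sup_eq_top := ?_
    conj_mem := ?_
    subset := ?_
    sq_mem := ?_
    inj := ?_
    closure_sup := ?_
    mul_mem_union := ?_
    conj_ne := ?_ }, rfl, rfl, rfl⟩
  · rw [← Subgroup.subgroupOf_sup inf_le_right inf_le_right, eq_top_iff]
    intro x _
    exact Subgroup.mem_subgroupOf.2 (twistGrp_le_sup hc hS φ hO hN hT hcomm x.2)
  · rintro n hn t ⟨htB, htN⟩
    rw [Subgroup.mem_subgroupOf] at hn ⊢
    exact ⟨diagonal_le_borel hc (monomial_conj_diagonal hc hn.1
      (borel_inf_monomial hc (Subgroup.mem_subgroupOf.1 htB).1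
        (Subgroup.mem_subgroupOf.1 htN).1)), (n * t * n⁻¹).2⟩
  · rintro n ⟨i, hi, e⟩
    rw [SetLike.mem_coe, Subgroup.mem_subgroupOf, e]
    exact ⟨nOrb_mem_monomial hc hS φ (mem_repNodes hi).1, e ▸ n.2⟩
  · rintro n ⟨i, hi, e⟩
    rw [Subgroup.mem_subgroupOf, Subgroup.coe_mul, e]
    exact ⟨diagonal_le_borel hc (nOrb_sq hc hS φ hN (mem_repNodes hi).1).1,
      (nOrb_sq hc hS φ hN (mem_repNodes hi).1).2⟩
  · rintro n ⟨i, hi, ei⟩ m ⟨j, hj, ej⟩ h
    rw [Subgroup.mem_subgroupOf, Subgroup.coe_mul, Subgroup.coe_inv, ei, ej] at h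
    rw [nOrb_inj hc hS φ hO hN hT hi hj h.1] at ei
    exact Subtype.ext (ei.trans ej.symm)
  · apply le_antisymm
    · refine sup_le ((Subgroup.closure_le _).2 ?_) inf_le_right
      rintro n ⟨i, hi, e⟩
      rw [SetLike.mem_coe, Subgroup.mem_subgroupOf, e]
      exact ⟨nOrb_mem_monomial hc hS φ (mem_repNodes hi).1, e ▸ n.2⟩
    · intro n hn
      rw [Subgroup.mem_subgroupOf, twistN_eq hc hS φ hO hN hT (twistGrp_le_fixed hc hS φ)
        (fun i hi => nOrb_mem hc hS φ hN hi)] at hn
      have hle : Subgroup.closure (nOrb hS φ '' {i | i ∈ S.repNodes}) ⊔ (D.diagonalSubgroup K ⊓ G)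
          ≤ (Subgroup.closure S₀ ⊔ ((D.borelSubgroup K ⊓ G).subgroupOf G ⊓
            (D.monomialSubgroup K ⊓ G).subgroupOf G)).map G.subtype := by
        refine sup_le ((Subgroup.closure_le _).2 ?_) ?_
        · rintro _ ⟨i, hi, rfl⟩
          have hm : nOrb hS φ i ∈ G := nOrb_mem hc hS φ hN (mem_repNodes hi).1
          exact ⟨⟨_, hm⟩, Subgroup.mem_sup_left (Subgroup.subset_closure ⟨i, hi, rfl⟩), rfl⟩
        · intro x hx
          exact ⟨⟨x, hx.2⟩, Subgroup.mem_sup_right
            ⟨Subgroup.mem_subgroupOf.2 ⟨diagonal_le_borel hc hx.1, hx.2⟩,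
              Subgroup.mem_subgroupOf.2 ⟨diagonal_le_monomial hc hx.1, hx.2⟩⟩, rfl⟩
      obtain ⟨m, hm, e⟩ := hle hn
      rwa [show n = m from Subtype.ext e.symm]
  · rintro n ⟨i, hi, e⟩ m hm b hb
    rcases twist_bn_axiom hc hS φ hO hN hT hcomm hi (Subgroup.mem_subgroupOf.1 hm)
        (Subgroup.mem_subgroupOf.1 hb) with key | key <;>
      obtain ⟨x, hx, y, hy, h⟩ := key
    · left
      rw [DoubleCoset.mem_doubleCoset]
      refine ⟨⟨x, hx.2⟩, Subgroup.mem_subgroupOf.2 hx, ⟨y, hy.2⟩,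
        Subgroup.mem_subgroupOf.2 hy, Subtype.ext ?_⟩
      simp only [Subgroup.coe_mul]; rw [e]; exact h
    · right
      rw [DoubleCoset.mem_doubleCoset]
      refine ⟨⟨x, hx.2⟩, Subgroup.mem_subgroupOf.2 hx, ⟨y, hy.2⟩,
        Subgroup.mem_subgroupOf.2 hy, Subtype.ext ?_⟩
      simp only [Subgroup.coe_mul]; rw [e]; exact h
  · rintro n ⟨i, hi, e⟩ hEq
    obtain ⟨b, hb, hbad⟩ := nOrb_conj_ne hc hS φ hO hN hT hi
    have : n * ⟨b, hb.2⟩ * n ∈ (((D.borelSubgroup K ⊓ G).subgroupOf G : Subgroup ↥G) : Set ↥G) :=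
      hEq ▸ ⟨⟨b, hb.2⟩, Subgroup.mem_subgroupOf.2 hb, rfl⟩
    rw [SetLike.mem_coe, Subgroup.mem_subgroupOf, Subgroup.coe_mul, Subgroup.coe_mul, e] at this
    exact hbad this.1

end

end CfsgLib.Twisted
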