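import Cfsg.Agent.Lib.Twisted.E6U
import Cfsg.Agent.Lib.Twisted.BN

/-!
The (B, N)-pair of the twisted group of type E6.
-/

set_option autoImplicit false

namespace CfsgLib.Twisted.E6

open Cfsg.Lie CfsgLib.Chev CfsgLib.Chevalley

theorem sym_bnTest : sym.bnTest = true := by decide +kernel

variable {K : Type*} [Field K] [Fintype K] {q : ℕ}

theorem exists_bnPair (hK : Fintype.card K = q ^ 2) (φ : K ≃+* K) (hφ : ∀ x, φ x = x ^ q) :
    ∃ P : Cfsg.BNPair ↥(twistedE6 K q),
      P.B = (chevE6.borelSubgroup K ⊓ twistedE6 K q).subgroupOf (twistedE6 K q) ∧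
      P.N = (chevE6.monomialSubgroup K ⊓ twistedE6 K q).subgroupOf (twistedE6 K q) ∧
      P.S = {n : ↥(twistedE6 K q) | ∃ i ∈ sym.repNodes, (n : GL chevE6.Idx K) = nOrb sym_test φ i} :=
  exists_twist_bnPair CfsgLib.Chev.E6.checked sym_test φ orbit_ok sym_nodeTest sym_bnTest comm_one
    (twistedE6_eq hK φ hφ)

end CfsgLib.Twisted.E6
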