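import Cfsg.Agent.Lib.Twisted.TorusKer
import Cfsg.Agent.Lib.Twisted.E6BN

/-!
The order of the diagonal part of the twisted group of type E6.
-/

set_option autoImplicit false

namespace CfsgLib.Twisted.E6

open Cfsg.Lie CfsgLib.Chev CfsgLib.Chevalley

/-- Three times the inverse Cartan matrix. -/
def invCart : Fin 6 → Fin 6 → ℤ :=
  ![![4, 3, 5, 6, 4, 2], ![3, 6, 6, 9, 6, 3], ![5, 6, 10, 12, 8, 4], ![6, 9, 12, 18, 12, 6],
    ![4, 6, 8, 12, 10, 5], ![2, 3, 4, 6, 5, 4]]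

theorem invCart_ok : ∀ i k : Fin chevE6.rank,
    ∑ j, cm chevE6 i j * invCart j k = if i = k then ((3 : ℕ) : ℤ) else 0 := by decide +kernel

/-- The exponents of the kernel elements. -/
def kExp : Fin 6 → ℕ := ![1, 0, 2, 0, 1, 2]

/-- The certificate for the exponents. -/
def kCert : Fin 6 → Fin 6 → ℤ :=
  ![![0, 1, -1, 2, 0, -2], ![0, 2, 0, 3, 1, -1], ![0, 2, 0, 4, 1, -2], ![0, 3, 0, 6, 2, -2],
    ![0, 2, 0, 4, 2, -1], ![0, 1, 0, 2, 1, 0]]

theorem kCert_ok : ∀ i k : Fin chevE6.rank, ∑ j, cm chevE6 i j * kCert j k =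
    (if i = k then 1 else 0) - if (⟨0, by decide⟩ : Fin chevE6.rank) = i then ((kExp k : ℕ) : ℤ) else 0 := by
  decide +kernel

theorem kExp_ker : ∀ j : Fin chevE6.rank,
    (∑ i : Fin chevE6.rank, ((kExp i : ℕ) : ℤ) * cm chevE6 i j) % 3 = 0 := by decide +kernel

theorem kExp_twist : ∀ j : Fin chevE6.rank,
    2 * kExp (preNode sym_test j) % 3 = kExp j % 3 := by decide +kernel

theorem pre_five : preNode sym_test (⟨5, by decide⟩ : Fin chevE6.rank) = (⟨0, by decide⟩ : Fin chevE6.rank) := by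
  decide +kernel

theorem pre_pre : ∀ j : Fin chevE6.rank, preNode sym_test (preNode sym_test j) = j := by
  decide +kernel

theorem rep_facts : Finset.univ.filter (fun l : Fin chevE6.rank => l.1 ∈ sym.repNodes) =
      ({⟨1, by decide⟩, ⟨3, by decide⟩, ⟨4, by decide⟩, ⟨5, by decide⟩} : Finset (Fin chevE6.rank)) ∧
    sym.olen (chevE6.simple 1) = 1 ∧ sym.olen (chevE6.simple 3) = 1 ∧
    sym.olen (chevE6.simple 4) = 2 ∧ sym.olen (chevE6.simple 5) = 2 := by decide +kernel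

variable {K : Type*} [Field K] [Fintype K] {q : ℕ}

theorem tau_tau (hK : Fintype.card K = q ^ 2) (φ : K ≃+* K) (hφ : ∀ x, φ x = x ^ q)
    (c : Fin chevE6.rank → Kˣ) : tauPar sym_test φ (tauPar sym_test φ c) = c := by
  funext j
  apply Units.ext
  show φ (φ (c (preNode sym_test (preNode sym_test j)) : K)) = _
  rw [pre_pre]
  exact iterate_frob_card hφ hK _

theorem ker_cube {c : Fin chevE6.rank → Kˣ} (h : hPar chevE6 K c = 1) : c ^ 3 = 1 :=
  ker_pow_eq_one invCart invCart_ok h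

theorem card_fixed_ker (hK : Fintype.card K = q ^ 2) (φ : K ≃+* K) (hφ : ∀ x, φ x = x ^ q) :
    Nat.card {c : Fin chevE6.rank → Kˣ // tauPar sym_test φ c = c ∧ hPar chevE6 K c = 1} =
      Nat.gcd 3 (q + 1) := by
  set g := Nat.gcd 3 (q + 1) with hg
  have hcoe : ∀ (a : Kˣ), Units.map φ.toRingHom.toMonoidHom a = a ^ q := fun a =>
    Units.ext (by rw [Units.val_pow_eq_pow_val]; exact hφ _)
  have toKer : ∀ c : Fin chevE6.rank → Kˣ, tauPar sym_test φ c = c → hPar chevE6 K c = 1 →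
      c (⟨0, by decide⟩ : Fin chevE6.rank) ^ g = 1 := by
    intro c hf hk
    have h3 : c (⟨0, by decide⟩ : Fin chevE6.rank) ^ 3 = 1 := congrFun (ker_cube hk) _
    have h5 := congrFun hf (⟨5, by decide⟩ : Fin chevE6.rank)
    change Units.map φ.toRingHom.toMonoidHom (c (preNode sym_test ⟨5, by decide⟩)) = _ at h5
    rw [pre_five, hcoe] at h5
    replace h5 := h5.trans (ker_eq_zpow (⟨0, by decide⟩ : Fin chevE6.rank)
      (fun k => ((kExp k : ℕ) : ℤ)) kCert kCert_ok hk ⟨5, by decide⟩)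
    change _ = _ ^ ((2 : ℕ) : ℤ) at h5
    rw [zpow_natCast] at h5
    exact pow_gcd_eq_one.2 ⟨h3, by rw [pow_succ, h5]; exact (pow_succ _ 2).symm.trans h3⟩
  have inv : ∀ z : Kˣ, z ^ g = 1 → tauPar sym_test φ (fun i => z ^ kExp i) = (fun i => z ^ kExp i)
      ∧ hPar chevE6 K (fun i => z ^ kExp i) = 1 := by
    intro z hz
    obtain ⟨h3, hq1⟩ := pow_gcd_eq_one.1 hz
    have hzq : z ^ q = z ^ 2 := mul_right_cancel (b := z) (by rw [← pow_succ, ← pow_succ, hq1, h3])
    constructor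
    · funext j
      show Units.map φ.toRingHom.toMonoidHom (z ^ kExp (preNode sym_test j)) = z ^ kExp j
      rw [hcoe, ← pow_mul, mul_comm, pow_mul, hzq, ← pow_mul, pow_eq_pow_mod _ h3, kExp_twist,
        ← pow_eq_pow_mod _ h3]
    · funext j
      show ∏ i, (z ^ kExp i) ^ cm chevE6 i j = 1
      simp only [← zpow_natCast z, ← zpow_mul, prod_zpow_sum]
      obtain ⟨e, he⟩ := Int.dvd_of_emod_eq_zero (kExp_ker j)
      refine (congrArg (z ^ ·) he).trans ?_
      rw [zpow_mul, zpow_ofNat, h3, one_zpow]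
  have e : {c : Fin chevE6.rank → Kˣ // tauPar sym_test φ c = c ∧ hPar chevE6 K c = 1} ≃
      ↥(powMonoidHom g : Kˣ →* Kˣ).ker :=
    { toFun := fun c => ⟨c.1 (⟨0, by decide⟩ : Fin chevE6.rank), toKer c.1 c.2.1 c.2.2⟩
      invFun := fun z => ⟨_, inv z.1 z.2⟩
      left_inv := fun c => Subtype.ext (funext fun k => by
        rw [ker_eq_zpow (⟨0, by decide⟩ : Fin chevE6.rank) (fun k => ((kExp k : ℕ) : ℤ)) kCert kCert_ok c.2.2 k,
          zpow_natCast])
      right_inv := fun z => Subtype.ext (pow_one _) }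
  rw [Nat.card_congr e, IsCyclic.card_powMonoidHom_ker, Nat.card_units, Nat.card_eq_fintype_card,
    hK]
  refine Nat.gcd_eq_right ((Nat.gcd_dvd_right 3 (q + 1)).trans ⟨q - 1, ?_⟩)
  rw [show (1 : ℕ) = 1 ^ 2 from rfl, Nat.sq_sub_sq, one_pow]

/-- The order of the diagonal part. -/
theorem card_diagonal_twisted (hq : IsPrimePow q) (hK : Fintype.card K = q ^ 2) :
    Nat.gcd 3 (q + 1) * Nat.card ↥(chevE6.diagonalSubgroup K ⊓ twistedE6 K q) =
      (q - 1) ^ 4 * (q + 1) ^ 2 := by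
  obtain ⟨φ, hφ⟩ := exists_frob hq two_ne_zero hK
  rw [← card_fixed_ker hK φ hφ, twistedE6_eq hK φ hφ,
    card_diag_inf_twist CfsgLib.Chev.E6.checked sym_test φ orbit_ok sym_nodeTest sym_bnTest
      (card_par hq hK φ hφ)
      (exists_ker_two CfsgLib.Chev.E6.checked sym_test φ (tau_tau hK φ hφ) ker_cube)]
  obtain ⟨hr, h0, h1, h2, h3⟩ := rep_facts
  rw [hr, Finset.prod_insert (by decide), Finset.prod_insert (by decide),
    Finset.prod_insert (by decide), Finset.prod_singleton]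
  simp only [h0, h1, h2, h3, pow_one]
  rw [show q ^ 2 - 1 = (q + 1) * (q - 1) by
    rw [show (1 : ℕ) = 1 ^ 2 from rfl, Nat.sq_sub_sq, one_pow]]
  ring

end CfsgLib.Twisted.E6
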