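import Cfsg.Agent.Lib.Twisted.D4

/-!
`twistedD4` is the group generated by the orbit products of the fundamental roots.
-/

set_option autoImplicit false

namespace CfsgLib.Twisted.D4

open Cfsg.Lie CfsgLib.Chev CfsgLib.Chevalley

theorem table_facts :
    chevD4.simple 0 = d4p1 ∧ chevD4.simple 1 = d4p2 ∧ chevD4.simple 2 = d4p3 ∧
    chevD4.simple 3 = d4p4 ∧
    chevD4.neg d4p1 = d4m1 ∧ chevD4.neg d4p2 = d4m2 ∧ chevD4.neg d4p3 = d4m3 ∧
    chevD4.neg d4p4 = d4m4 := by
  decide +kernel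

theorem fixed_facts : ∀ r ∈ [d4p2, d4m2], r < chevD4.nroots ∧ sym.olen r = 1 := by decide +kernel

theorem triple_facts : ∀ rs ∈ [(d4p1, d4p3, d4p4), (d4m1, d4m3, d4m4)],
    rs.1 < chevD4.nroots ∧ rs.2.1 < chevD4.nroots ∧ rs.2.2 < chevD4.nroots ∧
      sym.img rs.1 = rs.2.1 ∧ sym.img rs.2.1 = rs.2.2 ∧ sym.img rs.2.2 = rs.1 ∧
      sym.sgn rs.1 = 1 ∧ sym.sgn rs.2.1 = 1 ∧ sym.sgn rs.2.2 = 1 ∧ sym.olen rs.1 = 3 := by
  decide +kernel

variable {K : Type*} [Field K] [Fintype K] {q : ℕ}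

theorem twistedD4_eq (hK : Fintype.card K = q ^ 3) (φ : K ≃+* K) (hφ : ∀ x, φ x = x ^ q) :
    twistedD4 K q = twistGrp sym_test φ := by
  have hc := CfsgLib.Chev.D4.checked
  have hone : ∀ (r : ℕ) (t : K), sym.olen r = 1 → orbX sym_test φ r t = elX chevD4 K r t := by
    intro r t h; rw [orbX, h, orbProd_one]
  have hthree : ∀ rs ∈ [(d4p1, d4p3, d4p4), (d4m1, d4m3, d4m4)], ∀ t : K,
      orbX sym_test φ rs.1 t =
        elX chevD4 K rs.1 t * elX chevD4 K rs.2.1 (t ^ q) * elX chevD4 K rs.2.2 (t ^ (q ^ 2)) := by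
    intro rs hrs t
    obtain ⟨h1, h2, -, h4, h5, -, h7, h8, -, h10⟩ := triple_facts rs hrs
    rw [orbX, h10, orbProd_succ, orbProd_succ, orbProd_one, Function.iterate_one,
      twistSigma_elX hc sym_test φ h1, h4, h7, Int.cast_one, one_mul, hφ,
      Function.iterate_succ_apply', Function.iterate_one, twistSigma_elX hc sym_test φ h1, h4, h7,
      Int.cast_one, one_mul, hφ, twistSigma_elX hc sym_test φ h2, h5, h8, Int.cast_one, one_mul,
      hφ, ← pow_mul, pow_two]
  obtain ⟨s0, s1, s2, s3, n0, n1, n2, n3⟩ := table_facts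
  rw [twistedD4, ChevalleyDatum.genSubgroup, twistGrp]
  apply le_antisymm <;> refine (Subgroup.closure_le _).mpr ?_
  · rintro g ⟨w, hw, hg⟩
    rcases hw with ⟨t, ht, r, hr, rfl⟩ | ⟨t, rs, hrs, rfl⟩
    · obtain ⟨hlt, h1⟩ := fixed_facts r hr
      have hge : g = orbX sym_test φ r t := by
        rw [hone r t h1]; ext1; rw [hg, coe_elX hc K hlt]; simp [ChevalleyDatum.wordMat]
      rw [hge]
      refine Subgroup.subset_closure ?_
      have hpar : IsPar sym φ r t := by
        rw [IsPar, h1, Function.iterate_one, hφ, ht]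
      simp only [List.mem_cons, List.not_mem_nil, or_false] at hr
      rcases hr with rfl | rfl
      · exact ⟨1, by decide, _, Or.inl s1.symm, t, hpar, rfl⟩
      · exact ⟨1, by decide, _, Or.inr (by rw [s1, n1]), t, hpar, rfl⟩
    · obtain ⟨h1, h2, h3, -, -, -, -, -, -, h10⟩ := triple_facts rs hrs
      have hge : g = orbX sym_test φ rs.1 t := by
        rw [hthree rs hrs t]; ext1
        rw [hg, Units.val_mul, Units.val_mul, coe_elX hc K h1, coe_elX hc K h2, coe_elX hc K h3]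
        simp [ChevalleyDatum.wordMat, mul_assoc]
      rw [hge]
      refine Subgroup.subset_closure ?_
      have hpar : IsPar sym φ rs.1 t := by
        rw [IsPar, h10]; exact iterate_frob_card hφ hK t
      simp only [List.mem_cons, List.not_mem_nil, or_false] at hrs
      rcases hrs with rfl | rfl
      · exact ⟨0, by decide, _, Or.inl s0.symm, t, hpar, rfl⟩
      · exact ⟨0, by decide, _, Or.inr (by rw [s0, n0]), t, hpar, rfl⟩
  · rintro g ⟨i, hi, r, hr, t, ht, rfl⟩
    have hsingle : ∀ r ∈ [d4p2, d4m2], ∀ t : K, IsPar sym φ r t →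
        orbX sym_test φ r t ∈ Subgroup.closure
          {g : GL chevD4.Idx K | ∃ w ∈ d4Words K q, (g : Matrix _ _ K) = chevD4.wordMat K w} := by
      intro r hr t ht
      obtain ⟨hlt, h1⟩ := fixed_facts r hr
      rw [IsPar, h1, Function.iterate_one, hφ] at ht
      refine Subgroup.subset_closure ⟨[(r, t)], Or.inl ⟨t, ht, r, hr, rfl⟩, ?_⟩
      rw [hone r t h1, coe_elX hc K hlt]; simp [ChevalleyDatum.wordMat]
    have htriple : ∀ rs ∈ [(d4p1, d4p3, d4p4), (d4m1, d4m3, d4m4)], ∀ t : K,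
        orbX sym_test φ rs.1 t ∈ Subgroup.closure
          {g : GL chevD4.Idx K | ∃ w ∈ d4Words K q, (g : Matrix _ _ K) = chevD4.wordMat K w} := by
      intro rs hrs t
      obtain ⟨h1, h2, h3, -⟩ := triple_facts rs hrs
      refine Subgroup.subset_closure
        ⟨[(rs.1, t), (rs.2.1, t ^ q), (rs.2.2, t ^ (q ^ 2))], Or.inr ⟨t, rs, hrs, rfl⟩, ?_⟩
      rw [hthree rs hrs t, Units.val_mul, Units.val_mul, coe_elX hc K h1, coe_elX hc K h2,
        coe_elX hc K h3]
      simp [ChevalleyDatum.wordMat, mul_assoc]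
    have hthird : ∀ rs ∈ [(d4p1, d4p3, d4p4), (d4m1, d4m3, d4m4)], ∀ t : K,
        IsPar sym φ rs.2.2 t → orbX sym_test φ rs.2.2 t ∈ Subgroup.closure
          {g : GL chevD4.Idx K | ∃ w ∈ d4Words K q, (g : Matrix _ _ K) = chevD4.wordMat K w} := by
      intro rs hrs t ht
      obtain ⟨-, -, h3, -, -, h6, -, -, h9, -⟩ := triple_facts rs hrs
      have h := orbX_img hc sym_test φ h3 ht
      rw [h6, h9, Int.cast_one, one_mul] at h
      rw [← h]
      exact htriple rs hrs _
    have hsecond : ∀ rs ∈ [(d4p1, d4p3, d4p4), (d4m1, d4m3, d4m4)], ∀ t : K,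
        IsPar sym φ rs.2.1 t → orbX sym_test φ rs.2.1 t ∈ Subgroup.closure
          {g : GL chevD4.Idx K | ∃ w ∈ d4Words K q, (g : Matrix _ _ K) = chevD4.wordMat K w} := by
      intro rs hrs t ht
      obtain ⟨-, h2, -, -, h5, -, -, h8, -, -⟩ := triple_facts rs hrs
      have h := orbX_img hc sym_test φ h2 ht
      rw [h5, h8, Int.cast_one, one_mul] at h
      rw [← h]
      refine hthird rs hrs _ ?_
      have ho := TwistSym.olen_img (S := sym) hc sym_test h2
      rw [h5] at ho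
      rw [IsPar, ho, ← Function.iterate_succ_apply, Function.iterate_succ_apply', ht]
    change i < 4 at hi
    rcases hr with rfl | rfl <;> interval_cases i
    · rw [s0]; exact htriple (d4p1, d4p3, d4p4) (by simp) t
    · rw [s1] at ht ⊢; exact hsingle _ (by simp) t ht
    · rw [s2] at ht ⊢; exact hsecond (d4p1, d4p3, d4p4) (by simp) t ht
    · rw [s3] at ht ⊢; exact hthird (d4p1, d4p3, d4p4) (by simp) t ht
    · rw [s0, n0]; exact htriple (d4m1, d4m3, d4m4) (by simp) t
    · rw [s1, n1] at ht ⊢; exact hsingle _ (by simp) t ht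
    · rw [s2, n2] at ht ⊢; exact hsecond (d4m1, d4m3, d4m4) (by simp) t ht
    · rw [s3, n3] at ht ⊢; exact hthird (d4m1, d4m3, d4m4) (by simp) t ht

end CfsgLib.Twisted.D4
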