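import Cfsg.Agent.Lib.Twisted.Lead

/-!
The fixed elements of the positive unipotent subgroup: unique products of orbit products over
representatives of the orbits of positive roots, taken by increasing height; their number.
-/

set_option autoImplicit false
set_option linter.unusedSectionVars false

namespace CfsgLib.Twisted

open Cfsg.Lie CfsgLib.Chev CfsgLib.Chevalley

variable {D : ChevalleyDatum} {T : Tabs} (S : TwistSym D)

/-- The least root of an orbit of positive roots. -/
def TwistSym.isRep (r : ℕ) : Bool :=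
  decide (D.nroots / 2 ≤ r) && (List.range (S.olen r)).all fun k => decide (r ≤ S.imgIter k r)

/-- The representatives of the orbits of positive roots. -/
def TwistSym.repList : List ℕ := (List.range D.nroots).filter fun r => S.isRep r

/-- The positive roots, listed orbit by orbit. -/
def TwistSym.orbList : List ℕ :=
  S.repList.flatMap fun r => (List.range (S.olen r)).map fun k => S.imgIter k r

/-- The test: the orbits of the representatives partition the positive roots, and the symmetry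
preserves the height, which is positive. -/
noncomputable def TwistSym.orbitTest (T : Tabs) : Bool :=
  decide S.orbList.Nodup && (List.range D.nroots).all fun r => decide (r < D.nroots / 2) ||
    (decide (hgtC D T (S.img r) = hgtC D T r ∧ 1 ≤ hgtC D T r) && decide (r ∈ S.orbList))

/-- `r` represents an orbit of positive roots of height `h`. -/
def RepAt (D : ChevalleyDatum) (T : Tabs) (S : TwistSym D) (h : ℤ) (r : ℕ) : Prop :=
  r ∈ S.repList ∧ hgt D T r = h

variable {S}

theorem mem_repList {r : ℕ} (h : r ∈ S.repList) : r < D.nroots ∧ D.nroots / 2 ≤ r := by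
  simp only [TwistSym.repList, List.mem_filter, List.mem_range, TwistSym.isRep, Bool.and_eq_true,
    decide_eq_true_eq] at h
  exact ⟨h.1, h.2.1⟩

theorem repList_nodup : S.repList.Nodup := List.nodup_range.filter _

section
variable (hO : S.orbitTest T = true)
include hO

theorem TwistSym.pos_spec {r : ℕ} (hr : r < D.nroots) (hp : D.nroots / 2 ≤ r) :
    hgt D T (S.img r) = hgt D T r ∧ 1 ≤ hgt D T r ∧
      ∃ r₀ ∈ S.repList, ∃ k < S.olen r₀, S.imgIter k r₀ = r := by
  simp only [TwistSym.orbitTest, Bool.and_eq_true, List.all_eq_true, List.mem_range,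
    Bool.or_eq_true, decide_eq_true_eq] at hO
  obtain ⟨⟨h1, h2⟩, h3⟩ := (hO.2 r hr).resolve_left (by omega)
  rw [← hgt_eq_hgtC, ← hgt_eq_hgtC] at h1
  rw [← hgt_eq_hgtC] at h2
  simp only [TwistSym.orbList, List.mem_flatMap, List.mem_map, List.mem_range] at h3
  obtain ⟨r₀, hr₀, k, hk, e⟩ := h3
  exact ⟨h1, h2, r₀, hr₀, k, hk, e⟩

theorem TwistSym.htPos : HtPos D T := fun _ hr hp => (TwistSym.pos_spec hO hr hp).2.1

theorem TwistSym.rep_unique {r r' k k' : ℕ} (hr : r ∈ S.repList) (hr' : r' ∈ S.repList)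
    (hk : k < S.olen r) (hk' : k' < S.olen r') (e : S.imgIter k r = S.imgIter k' r') :
    r = r' ∧ k = k' := by
  simp only [TwistSym.orbitTest, Bool.and_eq_true, decide_eq_true_eq] at hO
  have hnd := hO.1
  rw [TwistSym.orbList, List.nodup_flatMap] at hnd
  by_cases h : r = r'
  · subst h
    exact ⟨rfl, List.inj_on_of_nodup_map (hnd.1 r hr) (List.mem_range.2 hk) (List.mem_range.2 hk') e⟩
  · exfalso
    haveI : Std.Symm (Function.onFun List.Disjoint fun r =>
        (List.range (S.olen r)).map fun k => S.imgIter k r) :=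
      ⟨fun a b (hab : List.Disjoint _ _) => (List.Disjoint.symm hab : List.Disjoint _ _)⟩
    have hd := hnd.2.forall hr hr' h
    exact hd (List.mem_map.2 ⟨k, List.mem_range.2 hk, rfl⟩)
      (List.mem_map.2 ⟨k', List.mem_range.2 hk', e.symm⟩)

theorem TwistSym.img_pos (hS : S.test = true) {r : ℕ} (hr : r < D.nroots)
    (hp : D.nroots / 2 ≤ r) (k : ℕ) :
    D.nroots / 2 ≤ S.imgIter k r ∧ hgt D T (S.imgIter k r) = hgt D T r := by
  induction k with
  | zero => exact ⟨hp, rfl⟩
  | succ k ih =>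
    have hl := TwistSym.imgIter_lt hS hr k
    exact ⟨(TwistSym.orbit_spec hS hl).2.2.1.1 ih.1,
      ((TwistSym.pos_spec hO hl ih.1).1).trans ih.2⟩

end

variable {K : Type*} [Field K]

theorem map_elX_prod (hc : Checked D T) (hS : S.test = true) (φ : K ≃+* K) (L : List ℕ)
    (hL : ∀ r ∈ L, r < D.nroots) (t : ℕ → K) :
    twistSigma S hS φ (uProd D K L t) =
      (L.map fun r => elX D K (S.img r) ((S.sgn r : ℤ) * φ (t r))).prod := by
  rw [uProd, map_list_prod, List.map_map]
  exact congrArg _ (List.map_congr_left fun r hr => twistSigma_elX hc hS φ (hL r hr) (t r))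

/-- The product of orbit products over a list of roots. -/
noncomputable def orbP (hS : S.test = true) (φ : K ≃+* K) (L : List ℕ) (a : ℕ → K) : GL D.Idx K :=
  (L.map fun r => orbX hS φ r (a r)).prod

theorem orbX_eq_prod (hc : Checked D T) (hS : S.test = true) (φ : K ≃+* K) {r : ℕ}
    (hr : r < D.nroots) (a : K) : orbX hS φ r a =
      ((List.range (S.olen r)).map fun k =>
        elX D K (S.imgIter k r) ((S.sgnIter k r : ℤ) * (⇑φ)^[k] a)).prod := by
  rw [orbX, orbProd]
  exact congrArg _ (List.map_congr_left fun k _ => twistSigma_iter_elX hc hS φ hr k a)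

section
variable (hc : Checked D T) (hS : S.test = true) (hO : S.orbitTest T = true) (φ : K ≃+* K)
include hc hS hO

theorem orbX_mem_highU {r : ℕ} (hr : r < D.nroots) (hp : D.nroots / 2 ≤ r) {h : ℤ}
    (hle : h ≤ hgt D T r) (a : K) : orbX hS φ r a ∈ highU D T K h := by
  rw [orbX_eq_prod hc hS φ hr]
  refine Subgroup.list_prod_mem _ fun g hg => ?_
  obtain ⟨k, -, rfl⟩ := List.mem_map.1 hg
  obtain ⟨h1, h2⟩ := TwistSym.img_pos hO hS hr hp k
  exact elX_mem_highU hc (TwistSym.imgIter_lt hS hr k) h1 (h2 ▸ hle) _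

theorem lead_orbX {r s : ℕ} (hr : r ∈ S.repList) {h : ℤ} (hh : hgt D T r = h) {r₀ k₀ : ℕ}
    (hr₀ : r₀ ∈ S.repList) (hk₀ : k₀ < S.olen r₀) (hs : S.imgIter k₀ r₀ = s)
    (hsh : hgt D T s = h) (a : K) (j : Fin D.rank) :
    lead (orbX hS φ r a) s j =
      if r = r₀ then (cv T s j : K) * ((S.sgnIter k₀ r : ℤ) * (⇑φ)^[k₀] a) else 0 := by
  obtain ⟨hrn, hrp⟩ := mem_repList hr
  obtain ⟨h0n, h0p⟩ := mem_repList hr₀
  have hH := TwistSym.htPos hO
  have h1 : 1 ≤ h := hh ▸ hH r hrn hrp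
  have hsn : s < D.nroots := hs ▸ TwistSym.imgIter_lt hS h0n k₀
  have hsp : D.nroots / 2 ≤ s := hs ▸ (TwistSym.img_pos hO hS h0n h0p k₀).1
  rw [orbX_eq_prod hc hS φ hrn, lead_list_prod hc h1 _ _ hsn hsh, List.map_map]
  · rw [← List.sum_toFinset _ List.nodup_range]
    have hterm : ∀ k, ((fun g => lead g s j) ∘ fun k =>
        elX D K (S.imgIter k r) ((S.sgnIter k r : ℤ) * (⇑φ)^[k] a)) k =
        if S.imgIter k r = s then (cv T s j : K) * ((S.sgnIter k r : ℤ) * (⇑φ)^[k] a) else 0 := by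
      intro k
      obtain ⟨g1, g2⟩ := TwistSym.img_pos hO hS hrn hrp k
      exact lead_elX hc hH (TwistSym.imgIter_lt hS hrn k) g1 hsn hsp (by omega) _ j
    simp only [hterm]
    split_ifs with e
    · subst e
      rw [Finset.sum_eq_single k₀, if_pos hs]
      · intro k hk hne
        rw [List.mem_toFinset, List.mem_range] at hk
        exact if_neg fun e' => hne (TwistSym.rep_unique hO hr hr hk hk₀ (e'.trans hs.symm)).2
      · intro hnot
        exact absurd (List.mem_toFinset.2 (List.mem_range.2 hk₀)) hnot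
    · refine Finset.sum_eq_zero fun k hk => if_neg fun e' => e ?_
      rw [List.mem_toFinset, List.mem_range] at hk
      exact (TwistSym.rep_unique hO hr hr₀ hk hk₀ (e'.trans hs.symm)).1
  · intro g hg
    obtain ⟨k, -, rfl⟩ := List.mem_map.1 hg
    obtain ⟨g1, g2⟩ := TwistSym.img_pos hO hS hrn hrp k
    exact elX_mem_highU hc (TwistSym.imgIter_lt hS hrn k) g1 (by omega) _

theorem orbP_mem_highU {h : ℤ} {L : List ℕ} (hL : ∀ r ∈ L, RepAt D T S h r) (a : ℕ → K) :
    orbP hS φ L a ∈ highU D T K h := by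
  refine Subgroup.list_prod_mem _ fun g hg => ?_
  obtain ⟨r, hr, rfl⟩ := List.mem_map.1 hg
  obtain ⟨h1, h2⟩ := mem_repList (hL r hr).1
  exact orbX_mem_highU hc hS hO φ h1 h2 (hL r hr).2.ge _

theorem orbP_fixed {h : ℤ} {L : List ℕ} (hL : ∀ r ∈ L, RepAt D T S h r) {a : ℕ → K}
    (ha : ∀ r ∈ L, IsPar S φ r (a r)) : orbP hS φ L a ∈ fixedSub S hS φ := by
  refine Subgroup.list_prod_mem _ fun g hg => ?_
  obtain ⟨r, hr, rfl⟩ := List.mem_map.1 hg
  exact orbX_fixed hc hS φ (mem_repList (hL r hr).1).1 (ha r hr)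

theorem lead_orbP {h : ℤ} (h1 : 1 ≤ h) {L : List ℕ} (hnd : L.Nodup)
    (hL : ∀ r ∈ L, RepAt D T S h r) (a : ℕ → K) {r k : ℕ} (hr : r ∈ L) (hk : k < S.olen r)
    (j : Fin D.rank) : lead (orbP hS φ L a) (S.imgIter k r) j =
      (cv T (S.imgIter k r) j : K) * ((S.sgnIter k r : ℤ) * (⇑φ)^[k] (a r)) := by
  obtain ⟨hrn, hrp⟩ := mem_repList (hL r hr).1
  have hsh : hgt D T (S.imgIter k r) = h :=
    ((TwistSym.img_pos hO hS hrn hrp k).2).trans (hL r hr).2
  rw [orbP, lead_list_prod hc h1 _ _ (TwistSym.imgIter_lt hS hrn k) hsh, List.map_map,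
    ← List.sum_toFinset _ hnd, Finset.sum_eq_single r]
  · show lead (orbX hS φ r (a r)) _ j = _
    rw [lead_orbX hc hS hO φ (hL r hr).1 (hL r hr).2 (hL r hr).1 hk rfl hsh, if_pos rfl]
  · intro r' hr' hne
    rw [List.mem_toFinset] at hr'
    show lead (orbX hS φ r' (a r')) _ j = _
    rw [lead_orbX hc hS hO φ (hL r' hr').1 (hL r' hr').2 (hL r hr).1 hk rfl hsh, if_neg hne]
  · exact fun hnot => absurd (List.mem_toFinset.2 hr) hnot
  · intro g hg
    obtain ⟨r', hr', rfl⟩ := List.mem_map.1 hg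
    obtain ⟨g1, g2⟩ := mem_repList (hL r' hr').1
    exact orbX_mem_highU hc hS hO φ g1 g2 (hL r' hr').2.ge _

variable (hcomm : CommOne D T)
include hcomm

theorem fixed_coords {h : ℤ} (h1 : 1 ≤ h) {g : GL D.Idx K} (hg : g ∈ highU D T K h)
    (hf : g ∈ fixedSub S hS φ) :
    ∃ a : ℕ → K, (∀ r, RepAt D T S h r → IsPar S φ r (a r)) ∧
      ∀ r, RepAt D T S h r → ∀ k, ∀ j, lead g (S.imgIter k r) j =
        (cv T (S.imgIter k r) j : K) * ((S.sgnIter k r : ℤ) * (⇑φ)^[k] (a r)) := by
  have hH := TwistSym.htPos hO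
  obtain ⟨t, rfl, ht⟩ := exists_coords hc hcomm hH h1 hg
  have step : ∀ r, r < D.nroots → D.nroots / 2 ≤ r → hgt D T r = h →
      t (S.img r) = (S.sgn r : ℤ) * φ (t r) := by
    intro r hr hp hh
    have hsn := TwistSym.img_lt hS hr
    obtain ⟨g1, g2⟩ := TwistSym.img_pos hO hS hr hp 1
    change D.nroots / 2 ≤ S.img r at g1
    change hgt D T (S.img r) = hgt D T r at g2
    obtain ⟨j, hj⟩ := exists_cv_ne_zero hc K hsn
    apply mul_left_cancel₀ hj
    rw [← ht _ hsn g1 (g2.trans hh) j]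
    conv_lhs => rw [← mem_fixedSub.mp hf, map_elX_prod hc hS φ _
      (fun a ha => (mem_rootsFrom.1 ha).2.1)]
    have hnd : (rootsFrom D (highSet D T h) 0).Nodup := (List.nodup_range' ..).filter _
    have hle : ∀ s ∈ rootsFrom D (highSet D T h) 0, S.img s < D.nroots ∧
        D.nroots / 2 ≤ S.img s ∧ h ≤ hgt D T (S.img s) := by
      intro s hs
      obtain ⟨-, h2, h3⟩ := mem_rootsFrom.1 hs
      obtain ⟨e1, e2⟩ := TwistSym.img_pos hO hS h2 h3.1 1
      exact ⟨TwistSym.img_lt hS h2, e1, h3.2.trans e2.ge⟩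
    rw [lead_list_prod hc h1 _ _ hsn (g2.trans hh), List.map_map, ← List.sum_toFinset _ hnd,
      Finset.sum_eq_single r]
    · show lead (elX D K (S.img r) _) _ j = _
      rw [lead_elX hc hH hsn g1 hsn g1 le_rfl, if_pos rfl]
    · intro s hs hne
      rw [List.mem_toFinset] at hs
      obtain ⟨e0, e1, e2⟩ := hle s hs
      show lead (elX D K (S.img s) _) _ j = _
      rw [lead_elX hc hH e0 e1 hsn g1 (by omega),
        if_neg fun e => hne (TwistSym.img_inj hS (mem_rootsFrom.1 hs).2.1 hr e)]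
    · exact fun hnot => absurd
        (List.mem_toFinset.2 (mem_rootsFrom.2 ⟨Nat.zero_le _, hr, hp, hh.ge⟩)) hnot
    · intro x hx
      obtain ⟨s, hs, rfl⟩ := List.mem_map.1 hx
      obtain ⟨e0, e1, e2⟩ := hle s hs
      exact elX_mem_highU hc e0 e1 e2 _
  have iter : ∀ r, r < D.nroots → D.nroots / 2 ≤ r → hgt D T r = h → ∀ k,
      t (S.imgIter k r) = (S.sgnIter k r : ℤ) * (⇑φ)^[k] (t r) := by
    intro r hr hp hh k
    induction k with
    | zero => simp [TwistSym.imgIter, TwistSym.sgnIter]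
    | succ k ih =>
      obtain ⟨g1, g2⟩ := TwistSym.img_pos hO hS hr hp k
      rw [TwistSym.imgIter, step _ (TwistSym.imgIter_lt hS hr k) g1 (g2.trans hh), ih,
        TwistSym.sgnIter, Function.iterate_succ_apply', map_mul, map_intCast, Int.cast_mul,
        mul_assoc]
  refine ⟨t, fun r hr => ?_, fun r hr k j => ?_⟩
  · obtain ⟨hrn, hrp⟩ := mem_repList hr.1
    have := iter r hrn hrp hr.2 (S.olen r)
    rw [TwistSym.imgIter_olen hS hrn, (TwistSym.orbit_spec hS hrn).2.1, Int.cast_one,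
      one_mul] at this
    exact this.symm
  · obtain ⟨hrn, hrp⟩ := mem_repList hr.1
    obtain ⟨g1, g2⟩ := TwistSym.img_pos hO hS hrn hrp k
    rw [ht _ (TwistSym.imgIter_lt hS hrn k) g1 (g2.trans hr.2) j, iter r hrn hrp hr.2 k]

/-- Splitting off the orbit products of height `h`, in any order. -/
theorem exists_split {h : ℤ} (h1 : 1 ≤ h) {L : List ℕ} (hnd : L.Nodup)
    (hL : ∀ r, r ∈ L ↔ RepAt D T S h r) {g : GL D.Idx K}
    (hg : g ∈ highU D T K h ⊓ fixedSub S hS φ) :
    ∃ a : ℕ → K, (∀ r ∈ L, IsPar S φ r (a r)) ∧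
      (orbP hS φ L a)⁻¹ * g ∈ highU D T K (h + 1) ⊓ fixedSub S hS φ := by
  obtain ⟨a, ha1, ha2⟩ := fixed_coords hc hS hO φ hcomm h1 hg.1 hg.2
  have hL' : ∀ r ∈ L, RepAt D T S h r := fun r hr => (hL r).1 hr
  have hPmem := orbP_mem_highU hc hS hO φ hL' a
  have hpar : ∀ r ∈ L, IsPar S φ r (a r) := fun r hr => ha1 r (hL' r hr)
  have hPfix : orbP hS φ L a ∈ fixedSub S hS φ := orbP_fixed hc hS hO φ hL' hpar
  refine ⟨a, hpar, ?_, (fixedSub S hS φ).mul_mem ((fixedSub S hS φ).inv_mem hPfix) hg.2⟩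
  have hmem : (orbP hS φ L a)⁻¹ * g ∈ highU D T K h := mul_mem (inv_mem hPmem) hg.1
  refine mem_highU_succ hc hcomm (TwistSym.htPos hO) h1 hmem fun s hs hsp hsh j => ?_
  obtain ⟨-, -, r, hr, k, hk, rfl⟩ := TwistSym.pos_spec hO hs hsp
  obtain ⟨hrn, hrp⟩ := mem_repList hr
  have hrh : RepAt D T S h r := ⟨hr, (TwistSym.img_pos hO hS hrn hrp k).2.symm.trans hsh⟩
  have := lead_mul hc h1 hPmem hmem hs hsh j
  rw [mul_inv_cancel_left, lead_orbP hc hS hO φ h1 hnd hL' a ((hL r).2 hrh) hk, ha2 r hrh] at this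
  exact left_eq_add.mp this

omit hcomm in
/-- The parameters of the splitting are unique. -/
theorem split_unique {h : ℤ} (h1 : 1 ≤ h) {L : List ℕ} (hnd : L.Nodup)
    (hL : ∀ r ∈ L, RepAt D T S h r) {a b : ℕ → K} {u v : GL D.Idx K}
    (hu : u ∈ highU D T K (h + 1)) (hv : v ∈ highU D T K (h + 1))
    (e : orbP hS φ L a * u = orbP hS φ L b * v) : ∀ r ∈ L, a r = b r := by
  intro r hr
  obtain ⟨hrn, hrp⟩ := mem_repList (hL r hr).1
  obtain ⟨j, hj⟩ := exists_cv_ne_zero hc K hrn
  have hz : ∀ w ∈ highU D T K (h + 1), lead w r j = 0 := by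
    intro w hw
    have hR := raises_highU hc (by omega : (0 : ℤ) ≤ h + 1) hw
    rw [lead, dif_pos (neg_lt hc hrn)]
    by_contra hne
    have := hR (Sum.inl j) (Sum.inr ⟨D.neg r, neg_lt hc hrn⟩) (by rwa [Matrix.one_apply_ne (by simp)])
    rw [wI_inl, wI_inr, rv_neg hc hrn, htLin_zero, htLin_neg] at this
    have := (hL r hr).2
    unfold hgt at this
    omega
  have hle : highU D T K (h + 1) ≤ highU D T K h := highU_mono hc (by omega)
  have := congrArg (fun g => lead g r j) e
  simp only [lead_mul hc h1 (orbP_mem_highU hc hS hO φ hL a) (hle hu) hrn (hL r hr).2,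
    lead_mul hc h1 (orbP_mem_highU hc hS hO φ hL b) (hle hv) hrn (hL r hr).2, hz u hu, hz v hv,
    add_zero] at this
  have hk : 0 < S.olen r := by
    unfold TwistSym.olen
    split_ifs
    · exact one_pos
    · exact TwistSym.d_pos hS
  have ea := lead_orbP hc hS hO φ h1 hnd hL a hr hk j
  have eb := lead_orbP hc hS hO φ h1 hnd hL b hr hk j
  simp only [TwistSym.imgIter, TwistSym.sgnIter, Int.cast_one, one_mul,
    Function.iterate_zero_apply] at ea eb
  rw [ea, eb] at this
  exact mul_left_cancel₀ hj this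

end

/-- The orbit products of the representatives of height at least `h` other than `r₀`. -/
def repGen (hS : S.test = true) (φ : K ≃+* K) (T : Tabs) (h : ℤ) (r₀ : ℕ) :
    Subgroup (GL D.Idx K) :=
  Subgroup.closure {g | ∃ r ∈ S.repList, r ≠ r₀ ∧ h ≤ hgt D T r ∧
    ∃ t, IsPar S φ r t ∧ g = orbX hS φ r t}

/-- The list of the representatives of height `h`. -/
noncomputable def repsAt (D : ChevalleyDatum) (T : Tabs) (S : TwistSym D) (h : ℤ) : List ℕ :=
  S.repList.filter fun r => decide (hgt D T r = h)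

theorem mem_repsAt {h : ℤ} {r : ℕ} : r ∈ repsAt D T S h ↔ RepAt D T S h r := by
  simp [repsAt, RepAt]

theorem repsAt_nodup {h : ℤ} : (repsAt D T S h).Nodup := repList_nodup.filter _

/-- A bound above all heights. -/
noncomputable def hgtTop (D : ChevalleyDatum) (T : Tabs) : ℤ :=
  (∑ r ∈ Finset.range D.nroots, |hgt D T r|) + 1

theorem hgt_lt_top {r : ℕ} (hr : r < D.nroots) : hgt D T r < hgtTop D T := by
  have := Finset.single_le_sum (f := fun r => |hgt D T r|) (fun i _ => abs_nonneg _)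
    (Finset.mem_range.2 hr)
  have := le_abs_self (hgt D T r)
  simp only [hgtTop] at *
  omega

/-- The sum of the orbit lengths of the representatives of height at least `h`. -/
noncomputable def repWeight (D : ChevalleyDatum) (T : Tabs) (S : TwistSym D) (h : ℤ) : ℕ :=
  ∑ r ∈ S.repList.toFinset.filter (fun r => h ≤ hgt D T r), S.olen r

section
variable (hc : Checked D T) (hcomm : CommOne D T) (hS : S.test = true)
  (hO : S.orbitTest T = true) (φ : K ≃+* K)
include hc hcomm hS hO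

theorem highU_fixed_le_repGen {h : ℤ} (h1 : 1 ≤ h) {r₀ : ℕ}
    (h₀ : ¬ (r₀ ∈ S.repList ∧ h ≤ hgt D T r₀)) :
    highU D T K h ⊓ fixedSub S hS φ ≤ repGen hS φ T h r₀ := by
  suffices key : ∀ (m : ℕ) (h : ℤ), 1 ≤ h → hgtTop D T ≤ h + m →
      ¬ (r₀ ∈ S.repList ∧ h ≤ hgt D T r₀) →
      highU D T K h ⊓ fixedSub S hS φ ≤ repGen hS φ T h r₀ from
    key (hgtTop D T - h).toNat h h1 (by omega) h₀
  intro m
  induction m with
  | zero =>
    intro h _ hm _
    rw [highU_top hc (fun r hr => lt_of_lt_of_le (hgt_lt_top hr) (by simpa using hm))]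
    exact fun g hg => by rw [Subgroup.mem_bot.1 hg.1]; exact one_mem _
  | succ m ih =>
    intro h h1 hm h₀ g hg
    obtain ⟨a, ha, hu⟩ :=
      exists_split hc hS hO φ hcomm h1 repsAt_nodup (fun _ => mem_repsAt) hg
    rw [show g = orbP hS φ (repsAt D T S h) a * ((orbP hS φ (repsAt D T S h) a)⁻¹ * g) by group]
    refine mul_mem (Subgroup.list_prod_mem _ fun x hx => ?_) ?_
    · obtain ⟨r, hr, rfl⟩ := List.mem_map.1 hx
      obtain ⟨h2, h3⟩ := mem_repsAt.1 hr
      exact Subgroup.subset_closure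
        ⟨r, h2, fun e => h₀ ⟨e ▸ h2, e ▸ h3.ge⟩, h3.ge, a r, ha r hr, rfl⟩
    · refine Subgroup.closure_mono ?_ (ih (h + 1) (by omega) (by push_cast at hm; omega)
        (fun e => h₀ ⟨e.1, by omega⟩) hu)
      rintro x ⟨r, h2, h3, h4, t, ht⟩
      exact ⟨r, h2, h3, by omega, t, ht⟩

/-- Splitting off the orbit product of one representative of height `h`. -/
theorem exists_split_one {h : ℤ} (h1 : 1 ≤ h) {r₀ : ℕ} (h₀ : RepAt D T S h r₀) {g : GL D.Idx K}
    (hg : g ∈ highU D T K h ⊓ fixedSub S hS φ) :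
    ∃ t, IsPar S φ r₀ t ∧ (orbX hS φ r₀ t)⁻¹ * g ∈ repGen hS φ T h r₀ := by
  set L := r₀ :: (repsAt D T S h).erase r₀ with hLdef
  have hnd : L.Nodup := List.nodup_cons.2 ⟨(repsAt_nodup).not_mem_erase, repsAt_nodup.erase _⟩
  have hL : ∀ r, r ∈ L ↔ RepAt D T S h r := fun r => by
    rw [hLdef, List.mem_cons, repsAt_nodup.mem_erase_iff, mem_repsAt]
    by_cases e : r = r₀
    · subst e; simp [h₀]
    · simp [e]
  obtain ⟨a, ha, hu⟩ := exists_split hc hS hO φ hcomm h1 hnd hL hg
  refine ⟨a r₀, ha r₀ (List.mem_cons_self ..), ?_⟩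
  have e : orbP hS φ L a = orbX hS φ r₀ (a r₀) * orbP hS φ ((repsAt D T S h).erase r₀) a := by
    rw [orbP, hLdef, List.map_cons, List.prod_cons]; rfl
  rw [show (orbX hS φ r₀ (a r₀))⁻¹ * g = orbP hS φ ((repsAt D T S h).erase r₀) a *
    ((orbP hS φ L a)⁻¹ * g) by rw [e]; group]
  refine mul_mem (Subgroup.list_prod_mem _ fun x hx => ?_) ?_
  · obtain ⟨r, hr, rfl⟩ := List.mem_map.1 hx
    obtain ⟨hne, hr'⟩ := repsAt_nodup.mem_erase_iff.1 hr
    obtain ⟨h2, h3⟩ := mem_repsAt.1 hr'
    exact Subgroup.subset_closure ⟨r, h2, hne, h3.ge, a r, ha r (List.mem_cons_of_mem _ hr), rfl⟩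
  · have hh := h₀.2
    refine Subgroup.closure_mono ?_
      (highU_fixed_le_repGen hc hcomm hS hO φ (r₀ := r₀) (by omega) (fun e => by
        have := e.2; omega) hu)
    rintro x ⟨r, h2, h3, h4, t, ht⟩
    exact ⟨r, h2, h3, by omega, t, ht⟩

/-- The fixed elements of `U` lie in the twisted group. -/
theorem posU_fixed_le {H : List ℤ} (hN : S.nodeTest H = true) :
    D.posUnipotent K ⊓ fixedSub S hS φ ≤ twistGrp hS φ := by
  have hH := TwistSym.htPos hO
  rw [← highU_one hc (F := K) hH]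
  refine (highU_fixed_le_repGen hc hcomm hS hO φ le_rfl (r₀ := D.nroots) ?_).trans ?_
  · exact fun e => lt_irrefl _ (mem_repList e.1).1
  · refine (Subgroup.closure_le _).mpr ?_
    rintro g ⟨r, hr, -, -, t, ht, rfl⟩
    exact orbX_mem hc hS φ hN (mem_repList hr).1 ht

theorem posU_inf_twistGrp {H : List ℤ} (hN : S.nodeTest H = true) :
    D.posUnipotent K ⊓ twistGrp hS φ = D.posUnipotent K ⊓ fixedSub S hS φ :=
  le_antisymm (inf_le_inf_left _ (twistGrp_le_fixed hc hS φ))
    (le_inf inf_le_left (posU_fixed_le hc hcomm hS hO φ hN))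

theorem card_step {h : ℤ} (h1 : 1 ≤ h) {q : ℕ}
    (hpar : ∀ r ∈ S.repList, Nat.card {t : K // IsPar S φ r t} = q ^ S.olen r) :
    Nat.card ↥(highU D T K h ⊓ fixedSub S hS φ) =
      q ^ (∑ r ∈ (repsAt D T S h).toFinset, S.olen r) *
        Nat.card ↥(highU D T K (h + 1) ⊓ fixedSub S hS φ) := by
  classical
  set L := repsAt D T S h with hLdef
  have hL' : ∀ r ∈ L, RepAt D T S h r := fun r hr => mem_repsAt.1 hr
  have hle : highU D T K (h + 1) ≤ highU D T K h := highU_mono hc (by omega)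
  let ext : ((r : {r // r ∈ L.toFinset}) → {t : K // IsPar S φ r.1 t}) → ℕ → K :=
    fun a r => if hr : r ∈ L.toFinset then (a ⟨r, hr⟩).1 else 0
  let f : ((r : {r // r ∈ L.toFinset}) → {t : K // IsPar S φ r.1 t}) ×
      ↥(highU D T K (h + 1) ⊓ fixedSub S hS φ) → ↥(highU D T K h ⊓ fixedSub S hS φ) :=
    fun p => ⟨orbP hS φ L (ext p.1) * p.2.1, mul_mem (orbP_mem_highU hc hS hO φ hL' _) (hle p.2.2.1),
      mul_mem (orbP_fixed hc hS hO φ hL' (fun r hr => by
        simp only [ext, dif_pos (List.mem_toFinset.2 hr)]; exact (p.1 ⟨r, List.mem_toFinset.2 hr⟩).2)) p.2.2.2⟩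
  have hf : Function.Bijective f := by
    constructor
    · rintro ⟨a, u⟩ ⟨b, v⟩ e
      have e' : orbP hS φ L (ext a) * u.1 = orbP hS φ L (ext b) * v.1 := congrArg Subtype.val e
      have hab := split_unique hc hS hO φ h1 repsAt_nodup hL' u.2.1 v.2.1 e'
      have hfun : a = b := funext fun r => Subtype.ext (by
        have := hab r.1 (List.mem_toFinset.1 r.2)
        simpa only [ext, dif_pos r.2] using this)
      subst hfun
      exact Prod.ext rfl (Subtype.ext (mul_left_cancel e'))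
    · rintro ⟨g, hg⟩
      obtain ⟨a, ha, hu⟩ :=
        exists_split hc hS hO φ hcomm h1 repsAt_nodup (fun _ => mem_repsAt) hg
      refine ⟨(fun r => ⟨a r.1, ha r.1 (List.mem_toFinset.1 r.2)⟩, ⟨_, hu⟩), Subtype.ext ?_⟩
      show orbP hS φ L (ext _) * ((orbP hS φ L a)⁻¹ * g) = g
      have : ∀ r ∈ L, ext (fun r => ⟨a r.1, ha r.1 (List.mem_toFinset.1 r.2)⟩) r = a r :=
        fun r hr => by simp only [ext, dif_pos (List.mem_toFinset.2 hr)]
      rw [orbP, List.map_congr_left fun r hr => by rw [this r hr]]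
      exact mul_inv_cancel_left _ _
  rw [← Nat.card_congr (Equiv.ofBijective f hf), Nat.card_prod, Nat.card_pi,
    ← Finset.prod_pow_eq_pow_sum, Finset.prod_coe_sort L.toFinset
      (fun r => Nat.card {t : K // IsPar S φ r t})]
  congr 1
  exact Finset.prod_congr rfl fun r hr => hpar r (hL' r (List.mem_toFinset.1 hr)).1

theorem card_highU_fixed {q : ℕ}
    (hpar : ∀ r ∈ S.repList, Nat.card {t : K // IsPar S φ r t} = q ^ S.olen r) {h : ℤ}
    (h1 : 1 ≤ h) :
    Nat.card ↥(highU D T K h ⊓ fixedSub S hS φ) = q ^ repWeight D T S h := by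
  suffices key : ∀ (m : ℕ) (h : ℤ), 1 ≤ h → hgtTop D T ≤ h + m →
      Nat.card ↥(highU D T K h ⊓ fixedSub S hS φ) = q ^ repWeight D T S h from
    key (hgtTop D T - h).toNat h h1 (by omega)
  intro m
  induction m with
  | zero =>
    intro h _ hm
    have hm' : hgtTop D T ≤ h := by simpa using hm
    rw [highU_top hc (fun r hr => lt_of_lt_of_le (hgt_lt_top hr) hm'), bot_inf_eq,
      Subgroup.card_bot, repWeight, Finset.filter_eq_empty_iff.2, Finset.sum_empty, pow_zero]
    intro r hr hle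
    exact absurd (hgt_lt_top (T := T) (mem_repList (List.mem_toFinset.1 hr)).1) (by omega)
  | succ m ih =>
    intro h h1 hm
    rw [card_step hc hcomm hS hO φ h1 hpar, ih (h + 1) (by omega) (by push_cast at hm; omega),
      ← pow_add, repWeight, repWeight]
    congr 1
    rw [← Finset.sum_union]
    · congr 1
      ext r
      simp only [Finset.mem_union, List.mem_toFinset, mem_repsAt, Finset.mem_filter, RepAt]
      constructor
      · rintro (⟨a, b⟩ | ⟨a, b⟩)
        · exact ⟨a, b.ge⟩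
        · exact ⟨a, by omega⟩
      · rintro ⟨a, b⟩
        rcases b.eq_or_lt with e | e
        · exact Or.inl ⟨a, e.symm⟩
        · exact Or.inr ⟨a, by omega⟩
    · rw [Finset.disjoint_left]
      intro r h2 h3
      have := (mem_repsAt.1 (List.mem_toFinset.1 h2)).2
      have := (Finset.mem_filter.1 h3).2
      omega

/-- The number of fixed elements of `U`. -/
theorem card_posU_fixed {q : ℕ}
    (hpar : ∀ r ∈ S.repList, Nat.card {t : K // IsPar S φ r t} = q ^ S.olen r) :
    Nat.card ↥(D.posUnipotent K ⊓ fixedSub S hS φ) = q ^ (S.repList.map S.olen).sum := by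
  have hH := TwistSym.htPos hO
  rw [← highU_one hc (F := K) hH, card_highU_fixed hc hcomm hS hO φ hpar le_rfl, repWeight,
    Finset.filter_true_of_mem, List.sum_toFinset _ repList_nodup]
  intro r hr
  obtain ⟨h1, h2⟩ := mem_repList (List.mem_toFinset.1 hr)
  exact hH r h1 h2

end

end CfsgLib.Twisted
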