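import Cfsg.Agent.Lib.Twisted.D4Group
import Cfsg.Agent.Lib.Twisted.FixedU
import Cfsg.Agent.Lib.Chev.Comm
import Cfsg.Agent.Lib.Chev.Gen.CommD4

/-!
The orbits of positive roots for the twisted group of type D4 and the order of its unipotent subgroup.
-/

set_option autoImplicit false

namespace CfsgLib.Twisted.D4

open Cfsg.Lie CfsgLib.Chev CfsgLib.Chevalley

/-- The checked tables. -/
abbrev tb : Tabs := CfsgLib.Chev.D4.tabs

theorem comm_one : CommOne chevD4 tb :=
  commOne_of_commCheck CfsgLib.Chev.D4.checked CfsgLib.Chev.D4.comm_ok CfsgLib.Chev.D4.short_ok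

theorem orbit_ok : sym.orbitTest tb = true := by decide +kernel

theorem sum_olen : (sym.repList.map sym.olen).sum = 12 := by decide +kernel

theorem olen_rep : ∀ r ∈ sym.repList, sym.olen r = 1 ∨ sym.olen r = 3 := by decide +kernel

variable {K : Type*} [Field K] [Fintype K] {q : ℕ}

theorem card_par (hq : IsPrimePow q) (hK : Fintype.card K = q ^ 3) (φ : K ≃+* K)
    (hφ : ∀ x, φ x = x ^ q) (r : ℕ) (hr : r ∈ sym.repList) :
    Nat.card {t : K // IsPar sym φ r t} = q ^ sym.olen r := by
  rcases olen_rep r hr with h | h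
  · rw [h, pow_one, ← card_fixed hq three_ne_zero hK]
    exact Nat.card_congr (Equiv.subtypeEquivRight fun t => by
      rw [IsPar, h, Function.iterate_one, hφ])
  · rw [h, ← hK, ← Nat.card_eq_fintype_card]
    exact Nat.card_congr (Equiv.subtypeUnivEquiv fun t => by
      rw [IsPar, h]; exact iterate_frob_card hφ hK t)

theorem posU_inf_eq (hK : Fintype.card K = q ^ 3) (φ : K ≃+* K) (hφ : ∀ x, φ x = x ^ q) :
    chevD4.posUnipotent K ⊓ twistedD4 K q = chevD4.posUnipotent K ⊓ fixedSub sym sym_test φ := by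
  rw [twistedD4_eq hK φ hφ]
  exact posU_inf_twistGrp CfsgLib.Chev.D4.checked comm_one sym_test orbit_ok φ sym_nodeTest

theorem card_unipotent (hq : IsPrimePow q) (hK : Fintype.card K = q ^ 3) :
    Nat.card ↥(chevD4.posUnipotent K ⊓ twistedD4 K q) = q ^ 12 := by
  obtain ⟨φ, hφ⟩ := exists_frob hq three_ne_zero hK
  rw [posU_inf_eq hK φ hφ,
    card_posU_fixed CfsgLib.Chev.D4.checked comm_one sym_test orbit_ok φ (card_par hq hK φ hφ),
    sum_olen]

end CfsgLib.Twisted.D4
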