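import Cfsg.Agent.Lib.Twisted.D4U
import Cfsg.Agent.Lib.Twisted.BN

/-!
The (B, N)-pair of the twisted group of type D4.
-/

set_option autoImplicit false

namespace CfsgLib.Twisted.D4

open Cfsg.Lie CfsgLib.Chev CfsgLib.Chevalley

theorem sym_bnTest : sym.bnTest = true := by decide +kernel

variable {K : Type*} [Field K] [Fintype K] {q : ℕ}

theorem exists_bnPair (hK : Fintype.card K = q ^ 3) (φ : K ≃+* K) (hφ : ∀ x, φ x = x ^ q) :
    ∃ P : Cfsg.BNPair ↥(twistedD4 K q),
      P.B = (chevD4.borelSubgroup K ⊓ twistedD4 K q).subgroupOf (twistedD4 K q) ∧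
      P.N = (chevD4.monomialSubgroup K ⊓ twistedD4 K q).subgroupOf (twistedD4 K q) ∧
      P.S = {n : ↥(twistedD4 K q) | ∃ i ∈ sym.repNodes, (n : GL chevD4.Idx K) = nOrb sym_test φ i} :=
  exists_twist_bnPair CfsgLib.Chev.D4.checked sym_test φ orbit_ok sym_nodeTest sym_bnTest comm_one
    (twistedD4_eq hK φ hφ)

end CfsgLib.Twisted.D4
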