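import Cfsg.Agent.Lib.Twisted.TorusKer
import Cfsg.Agent.Lib.Twisted.D4BN

/-!
The order of the diagonal part of the twisted group of type D4.
-/

set_option autoImplicit false

namespace CfsgLib.Twisted.D4

open Cfsg.Lie CfsgLib.Chev CfsgLib.Chevalley

/-- Twice the inverse Cartan matrix. -/
def invCart : Fin 4 → Fin 4 → ℤ :=
  ![![2, 2, 1, 1], ![2, 4, 2, 2], ![1, 2, 2, 1], ![1, 2, 1, 2]]

theorem invCart_ok : ∀ i k : Fin chevD4.rank,
    ∑ j, cm chevD4 i j * invCart j k = if i = k then ((2 : ℕ) : ℤ) else 0 := by decide +kernel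

theorem pre_facts : preNode sym_test (⟨2, by decide⟩ : Fin chevD4.rank) = ⟨0, by decide⟩ ∧
    preNode sym_test (⟨3, by decide⟩ : Fin chevD4.rank) = ⟨2, by decide⟩ ∧
    ∀ j : Fin chevD4.rank, preNode sym_test (preNode sym_test (preNode sym_test j)) = j := by
  decide +kernel

theorem cart_cols : ((List.finRange chevD4.rank).map fun i => cm chevD4 i ⟨0, by decide⟩) = [2, -1, 0, 0] ∧
    ((List.finRange chevD4.rank).map fun i => cm chevD4 i ⟨1, by decide⟩) = [-1, 2, -1, -1] := by
  decide +kernel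

theorem rep_facts : Finset.univ.filter (fun l : Fin chevD4.rank => l.1 ∈ sym.repNodes) =
      ({⟨1, by decide⟩, ⟨3, by decide⟩} : Finset (Fin chevD4.rank)) ∧
    sym.olen (chevD4.simple 1) = 1 ∧ sym.olen (chevD4.simple 3) = 3 := by decide +kernel

variable {K : Type*} [Field K] [Fintype K] {q : ℕ}

theorem ker_sq {c : Fin chevD4.rank → Kˣ} (h : hPar chevD4 K c = 1) : c ^ 2 = 1 :=
  ker_pow_eq_one invCart invCart_ok h

theorem tau_three (hK : Fintype.card K = q ^ 3) (φ : K ≃+* K) (hφ : ∀ x, φ x = x ^ q)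
    (c : Fin chevD4.rank → Kˣ) :
    tauPar sym_test φ (tauPar sym_test φ (tauPar sym_test φ c)) = c := by
  funext j
  apply Units.ext
  show φ (φ (φ (c (preNode sym_test (preNode sym_test (preNode sym_test j))) : K))) = _
  rw [pre_facts.2.2]
  exact iterate_frob_card hφ hK _

theorem fixed_ker_trivial (φ : K ≃+* K) {c : Fin chevD4.rank → Kˣ}
    (hf : tauPar sym_test φ c = c) (hk : hPar chevD4 K c = 1) : c = 1 := by
  have hsq : ∀ i, c i * c i = 1 := fun i => (sq _).symm.trans (congrFun (ker_sq hk) i)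
  have hinv : ∀ i, (c i)⁻¹ = c i := fun i => inv_eq_of_mul_eq_one_right (hsq i)
  have hfix : ∀ i, Units.map φ.toRingHom.toMonoidHom (c i) = c i := by
    intro i
    apply Units.ext
    show φ (c i : K) = _
    rcases mul_self_eq_one_iff.1 (show (c i : K) * (c i : K) = 1 by
      rw [← Units.val_mul, hsq, Units.val_one]) with e | e <;> rw [e] <;> simp
  have e20 : c ⟨2, by decide⟩ = c ⟨0, by decide⟩ := by
    have h := congrFun hf (⟨2, by decide⟩ : Fin chevD4.rank)
    change Units.map φ.toRingHom.toMonoidHom (c (preNode sym_test _)) = _ at h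
    rw [pre_facts.1, hfix] at h
    exact h.symm
  have e32 : c ⟨3, by decide⟩ = c ⟨2, by decide⟩ := by
    have h := congrFun hf (⟨3, by decide⟩ : Fin chevD4.rank)
    change Units.map φ.toRingHom.toMonoidHom (c (preNode sym_test _)) = _ at h
    rw [pre_facts.2.1, hfix] at h
    exact h.symm
  have hcol : ∀ j, (List.zipWith (fun a e => a ^ (e : ℤ)) ((List.finRange chevD4.rank).map c)
      ((List.finRange chevD4.rank).map fun i => cm chevD4 i j)).prod = 1 := by
    intro j
    have := congrFun hk j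
    change ∏ i, c i ^ cm chevD4 i j = 1 at this
    rw [Fin.prod_univ_def] at this
    rwa [List.zipWith_map, List.zipWith_self]
  have h0 := hcol ⟨0, by decide⟩
  have h1 := hcol ⟨1, by decide⟩
  rw [cart_cols.1, show List.finRange chevD4.rank = [⟨0, by decide⟩, ⟨1, by decide⟩, ⟨2, by decide⟩,
    ⟨3, by decide⟩] by decide +kernel] at h0
  rw [cart_cols.2, show List.finRange chevD4.rank = [⟨0, by decide⟩, ⟨1, by decide⟩, ⟨2, by decide⟩,
    ⟨3, by decide⟩] by decide +kernel] at h1
  simp only [List.map_cons, List.map_nil, List.zipWith_cons_cons, List.zipWith_nil_left, List.prod_cons,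
    List.prod_nil, zpow_neg, zpow_ofNat, pow_zero, pow_one, mul_one, sq, hsq, one_mul,
    hinv, e32, e20] at h0 h1
  funext i
  have ha : c ⟨0, by decide⟩ = 1 := h1
  obtain ⟨i, hi⟩ := i
  match i, hi with
  | 0, _ => exact ha
  | 1, _ => exact h0
  | 2, _ => exact e20.trans ha
  | 3, _ => exact e32.trans (e20.trans ha)
  | n + 4, hn => exact absurd hn (by simp [chevD4])

/-- The order of the diagonal part. -/
theorem card_diagonal_twisted (hq : IsPrimePow q) (hK : Fintype.card K = q ^ 3) :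
    Nat.card ↥(chevD4.diagonalSubgroup K ⊓ twistedD4 K q) =
      (q - 1) ^ 2 * (q ^ 2 + q + 1) := by
  obtain ⟨φ, hφ⟩ := exists_frob hq three_ne_zero hK
  have h := card_diag_inf_twist CfsgLib.Chev.D4.checked sym_test φ orbit_ok sym_nodeTest sym_bnTest
    (card_par hq hK φ hφ)
    (exists_ker_three CfsgLib.Chev.D4.checked sym_test φ (tau_three hK φ hφ) ker_sq)
  haveI : Unique {c : Fin chevD4.rank → Kˣ // tauPar sym_test φ c = c ∧ hPar chevD4 K c = 1} :=
    ⟨⟨⟨1, map_one _, map_one _⟩⟩, fun c => Subtype.ext (fixed_ker_trivial φ c.2.1 c.2.2)⟩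
  rw [Nat.card_unique, one_mul] at h
  obtain ⟨hr, h0, h1⟩ := rep_facts
  rw [twistedD4_eq hK φ hφ, h, hr, Finset.prod_insert (by decide), Finset.prod_singleton]
  simp only [h0, h1, pow_one]
  have h2 : 1 ≤ q := hq.one_lt.le
  zify [h2, Nat.one_le_pow 3 q h2]
  ring

end CfsgLib.Twisted.D4
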