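import Cfsg.Agent.Lib.Twisted.F4N

/-!
The Bruhat decomposition of the group fixed by σ: it is 2F4, and its order.
-/

set_option autoImplicit false
set_option linter.unusedSectionVars false
set_option maxRecDepth 4000

namespace CfsgLib.ReeF4

open Cfsg.Lie CfsgLib.Chev

theorem sigs_rev_one : ∀ i : Fin chevF4.rank, ∀ r : Fin 48,
    sigs chevF4 tb [Fin.rev i] (rho r) = rho (sigs chevF4 tb [i] r) := by decide +kernel

theorem sigs_rev (L : List (Fin chevF4.rank)) {r : ℕ} (hr : r < 48) :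
    sigs chevF4 tb (L.map Fin.rev) (rho r) = rho (sigs chevF4 tb L r) := by
  induction L with
  | nil => rfl
  | cons i L ih =>
    have e1 : sigs chevF4 tb (i :: L) r = sigs chevF4 tb [i] (sigs chevF4 tb L r) := by
      rw [show i :: L = [i] ++ L from rfl, sigs_append]
    rw [e1, List.map_cons, show Fin.rev i :: L.map Fin.rev = [Fin.rev i] ++ L.map Fin.rev from rfl,
      sigs_append, ih]
    exact sigs_rev_one i ⟨_, sigs_lt hc L (r := r) hr⟩

theorem dimI_multiset :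
    (Finset.univ : Finset (DihedralGroup 8)).val.map (fun x => dimI (dihIdx x).1 (dihIdx x).2) =
      (([0, 1, 2, 3, 3, 4, 5, 6, 6, 7, 8, 9, 9, 10, 11, 12] : List ℕ) : Multiset ℕ) := by
  decide +kernel

theorem sum_dimI (q : ℕ) : ∑ x : DihedralGroup 8, q ^ dimI (dihIdx x).1 (dihIdx x).2 =
    (q ^ 3 + 1) * (q ^ 3 + q ^ 2 + q + 1) * (q ^ 6 + 1) := by
  rw [Finset.sum_eq_multiset_sum,
    show (fun x : DihedralGroup 8 => q ^ dimI (dihIdx x).1 (dihIdx x).2) =
      (fun n => q ^ n) ∘ (fun x => dimI (dihIdx x).1 (dihIdx x).2) from rfl,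
    ← Multiset.map_map, dimI_multiset, Multiset.map_coe, Multiset.sum_coe]
  simp only [List.map_cons, List.map_nil, List.sum_cons, List.sum_nil]
  ring

variable {K : Type*} [Field K] [Fintype K] {m : ℕ} {σ : MulAut ↥(chevF4.group K)}

section
variable (hσ : IsSigma m σ)
include hσ

theorem simg_nProd (L : List (Fin chevF4.rank)) :
    simg σ (nProd chevF4 K L) = nProd chevF4 K (L.map Fin.rev) := by
  induction L with
  | nil => exact simg_one
  | cons i L ih =>
    rw [nProd_cons, simg_mul (elN_mem_group hc (simple_lt hc i.2) 1)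
      (monomial_le_group hc (nProd_mem_monomial hc L)), ih, simg_elN hσ (simple_lt hc i.2),
      node_facts i, phi, one_pow, List.map_cons, nProd_cons]

/-- The Bruhat expression of a fixed element. -/
theorem fixed_bruhat {g : GL chevF4.Idx K} (hg : g ∈ fixF σ) :
    ∃ u ∈ V σ PosR, ∃ h ∈ chevF4.diagonalSubgroup K ⊓ fixF σ, ∃ s : Bool, ∃ k : Fin 9,
      ∃ v ∈ V σ (IRoot s k), g = u * (h * nProd chevF4 K (revW s k)) * v := by
  obtain ⟨u, hu, h, hD, L, v, hv, rfl⟩ := exists_bruhat hc hcomm (fixF_le_group hg)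
  obtain ⟨c, rfl⟩ := (mem_diagonal hc).1 hD
  have gu := uGen_le_group (K := K) _ hu
  have gv := uGen_le_group (K := K) _ hv
  have gn := monomial_le_group hc (nProd_mem_monomial hc (F := K) L)
  have gh := hh_mem_group (K := K) c
  have e := (mem_fixF.1 hg).2
  change simg σ (u * (hh K c * nProd chevF4 K L) * v) = u * (hh K c * nProd chevF4 K L) * v at e
  rw [simg_mul (mul_mem gu (mul_mem gh gn)) gv, simg_mul gu (mul_mem gh gn), simg_mul gh gn,
    simg_hh hσ, simg_nProd hσ] at e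
  have su : simg σ u ∈ uGen chevF4 K PosR :=
    simg_mem_uGen hσ (fun r hr h => (rho_pos hr).2 h) hu
  have sv : simg σ v ∈ uInv chevF4 tb K (L.map Fin.rev) :=
    simg_mem_uGen hσ (fun r hr h => ⟨(rho_pos hr).2 h.1, by
      rw [sigs_rev L hr]
      have := rho_pos (sigs_lt hc L (r := r) hr)
      have := h.2
      change _ < 24
      change _ < 24 at this
      omega⟩) hv
  obtain ⟨-, e1, e2, e3⟩ := bruhat_unique hc (hh_mem _) (hh_mem c) su hu sv hv e
  have hn : hh K c * nProd chevF4 K L ∈ fixF σ := mem_fixF.2 ⟨mul_mem gh gn, by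
    rw [simg_mul gh gn, simg_hh hσ, simg_nProd hσ, e3]⟩
  obtain ⟨h', hh', s, k, eN⟩ :=
    fixed_monomial hσ (mul_mem (diagonal_le_monomial hc (hh_mem c)) (nProd_mem_monomial hc L)) hn
  have hsig : ∀ r, r < chevF4.nroots → sigs chevF4 tb L r = sigs chevF4 tb (revW s k) r := by
    intro r hr
    refine sigs_eq_of_mem hc (F := K) ?_ hr
    have : nProd chevF4 K L * (nProd chevF4 K (revW s k))⁻¹ = (hh K c)⁻¹ * h' := by
      calc _ = (hh K c)⁻¹ * (hh K c * nProd chevF4 K L) * (nProd chevF4 K (revW s k))⁻¹ := by group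
        _ = _ := by rw [eN]; group
    rw [this]
    exact mul_mem (inv_mem (hh_mem c)) hh'.1
  refine ⟨u, Subgroup.mem_inf.2 ⟨hu, mem_fixF.2 ⟨gu, e1⟩⟩, h', hh', s, k, v,
    Subgroup.mem_inf.2 ⟨uGen_mono (fun r hr h => ⟨h.1, ?_⟩) hv, mem_fixF.2 ⟨gv, e2⟩⟩, ?_⟩
  · show u * (hh K c * nProd chevF4 K L) * v = _
    rw [eN]
  · rw [← (revW_sigs s k ⟨r, hr⟩).1, ← hsig r hr]; exact h.2

/-- The group fixed by σ is 2F4. -/
theorem fix_eq : fixF σ = G1 K m := by
  refine le_antisymm (fun g hg => ?_) (G1_le_fix hσ)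
  obtain ⟨u, hu, h, hh, s, k, v, hv, rfl⟩ := fixed_bruhat hσ hg
  exact mul_mem (mul_mem (V_pos_le hσ hu) (mul_mem (diag_le hσ hh) (revW_mem hσ s k)))
    ((iroot_spec hσ s k (by omega)).1 hv)

theorem iroot_mem_uInv {s : Bool} {k : Fin 9} {v : GL chevF4.Idx K} (hv : v ∈ V σ (IRoot s k)) :
    v ∈ uInv chevF4 tb K (revW s k) :=
  uGen_mono (fun r hr h => ⟨h.1, by rw [(revW_sigs s k ⟨r, hr⟩).1]; exact h.2⟩) hv.1

/-- The order of the fixed group. -/
theorem card_fix : Nat.card ↥(fixF σ) = Fintype.card K ^ 12 * (Fintype.card K - 1) ^ 2 *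
    ∑ x : DihedralGroup 8, Fintype.card K ^ dimI (dihIdx x).1 (dihIdx x).2 := by
  classical
  let Φ : (Σ x : DihedralGroup 8, ↥(V σ PosR) × ↥(chevF4.diagonalSubgroup K ⊓ fixF σ) ×
      ↥(V σ (IRoot (dihIdx x).1 (dihIdx x).2))) → ↥(fixF σ) := fun a =>
    ⟨a.2.1.1 * (a.2.2.1.1 * nProd chevF4 K (revW (dihIdx a.1).1 (dihIdx a.1).2)) * a.2.2.2.1,
      mul_mem (mul_mem a.2.1.2.2 (mul_mem a.2.2.1.2.2 (G1_le_fix hσ (revW_mem hσ _ _)))) a.2.2.2.2.2⟩
  have hb : Function.Bijective Φ := by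
    constructor
    · rintro ⟨x, u, h, v⟩ ⟨x', u', h', v'⟩ e
      obtain ⟨hs, h1, h2, h3⟩ := bruhat_unique hc h.2.1 h'.2.1 u.2.1 u'.2.1 (iroot_mem_uInv hσ v.2)
        (iroot_mem_uInv hσ v'.2) (congrArg Subtype.val e)
      obtain rfl : x = x' := dihPerm_injective (Equiv.ext fun r => Fin.ext (hs r.val r.2))
      obtain rfl : u = u' := Subtype.ext h1
      obtain rfl : v = v' := Subtype.ext h2
      obtain rfl : h = h' := Subtype.ext (mul_right_cancel h3)
      rfl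
    · rintro ⟨g, hg⟩
      obtain ⟨u, hu, h, hh, s, k, v, hv, rfl⟩ := fixed_bruhat hσ hg
      set x := dihOf s k
      have hs : ∀ r, r < chevF4.nroots → sigs chevF4 tb (revW s k) r =
          sigs chevF4 tb (revW (dihIdx x).1 (dihIdx x).2) r := fun r hr =>
        (dihOf_spec s k ⟨r, hr⟩).symm
      have hv' : v ∈ V σ (IRoot (dihIdx x).1 (dihIdx x).2) := by
        refine V_mono (fun r hr h => ⟨h.1, ?_⟩) hv
        rw [← (revW_sigs _ _ ⟨r, hr⟩).1, ← hs r hr, (revW_sigs s k ⟨r, hr⟩).1]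
        exact h.2
      have hd : h * (nProd chevF4 K (revW s k) *
          (nProd chevF4 K (revW (dihIdx x).1 (dihIdx x).2))⁻¹) ∈ chevF4.diagonalSubgroup K ⊓ fixF σ :=
        Subgroup.mem_inf.2 ⟨mul_mem hh.1 (nProd_div_mem hc hs), mul_mem hh.2
          (mul_mem (G1_le_fix hσ (revW_mem hσ _ _)) (inv_mem (G1_le_fix hσ (revW_mem hσ _ _))))⟩
      refine ⟨⟨x, ⟨u, hu⟩, ⟨_, hd⟩, ⟨v, hv'⟩⟩, Subtype.ext ?_⟩
      simp only [Φ]
      group
  rw [← Nat.card_eq_of_bijective Φ hb, Nat.card_sigma, Finset.mul_sum]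
  refine Finset.sum_congr rfl fun x _ => ?_
  rw [Nat.card_prod, Nat.card_prod, card_V_pos hσ, card_diag hσ,
    (iroot_spec hσ _ _ (by omega)).2, mul_assoc]

end

end CfsgLib.ReeF4
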