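import Cfsg.Agent.Lib.Twisted.Weyl
import Cfsg.Agent.Lib.Chev.Structure
import Cfsg.Agent.Lib.BN.Basic

/-!
Twisted groups: trivial core of B, perfectness, irreducibility, simplicity.
-/

set_option autoImplicit false
set_option linter.unusedSectionVars false

namespace CfsgLib.Twisted

open Cfsg.Lie CfsgLib.Chev CfsgLib.Chevalley
open scoped commutatorElement

variable {D : ChevalleyDatum} {T : Tabs} (S : TwistSym D)

/-- A word of orbit reflections applied to a root, rightmost letter first. -/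
def TwistSym.wWord (L : List ℕ) (r : ℕ) : ℕ := L.foldr (fun i s => S.wO i s) r

/-- The test: the word consists of nodes and makes every positive root negative. -/
def TwistSym.longTest (L : List ℕ) : Bool :=
  decide (∀ i ∈ L, i < D.rank) && decide (∀ r ∈ S.repList, S.wWord L r < D.nroots / 2)

/-- The test for the representing nodes of orbits of length one: the root is carried by a word from
a root `c` that occurs alone, with coefficient one or minus one, in the commutator formula of two
roots fixed by the symmetry. -/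
def TwistSym.perfTest (data : List (ℕ × ℕ × ℕ × ℕ × ℤ × List ℕ)) : Bool :=
  decide (∀ i ∈ S.repNodes, S.olen (D.simple i) = S.d ∨ ∃ p ∈ data, p.1 = i) &&
  data.all fun p =>
    match p with
    | (i, a, b, c, e, L) =>
      decide (a < D.nroots ∧ b < D.nroots ∧ c < D.nroots ∧ S.olen a = 1 ∧ S.olen b = 1 ∧
        S.olen c = 1 ∧ b ≠ a ∧ b ≠ D.neg a ∧ D.commTerms a b = [(c, e, 1, 1)] ∧ (e = 1 ∨ e = -1) ∧
        (∀ j ∈ L, j < D.rank) ∧ S.wWord L c = D.simple i)

/-- The test: the graph of non-commuting orbit reflections is connected. -/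
def TwistSym.irrTest : Bool :=
  S.repNodes.sublists.all fun J => decide (J = [] ∨ J.length = S.repNodes.length) ||
    J.any fun a => S.repNodes.any fun b => decide (b ∉ J) &&
      (List.range D.nroots).any fun r => decide (S.wO a (S.wO b r) ≠ S.wO b (S.wO a r))

variable {S} {H : List ℤ} {K : Type*} [Field K]

/-- The torus element of an orbit of nodes. -/
noncomputable def hOrb (hS : S.test = true) (φ : K ≃+* K) (i : ℕ) (a : K) : GL D.Idx K :=
  orbProd (⇑(twistSigma S hS φ)) (S.olen (D.simple i)) (elN D K (D.simple i) a) * (nOrb hS φ i)⁻¹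

section
variable (hc : Checked D T) (hS : S.test = true) (φ : K ≃+* K) (hO : S.orbitTest T = true)
  (hN : S.nodeTest H = true) (hT : S.bnTest = true)
include hc hS hO hN hT

omit hO in
theorem orbX_iter {r : ℕ} (hr : r < D.nroots) : ∀ (k : ℕ) {t : K},
    IsPar S φ (S.imgIter k r) t → ∃ u, IsPar S φ r u ∧
      orbX hS φ (S.imgIter k r) t = orbX hS φ r u := by
  intro k
  induction k with
  | zero => exact fun {t} ht => ⟨t, ht, rfl⟩
  | succ k ih =>
    intro t ht
    have hl := TwistSym.imgIter_lt hS hr k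
    set u := φ.symm ((S.sgn (S.imgIter k r) : ℤ) * t) with hu
    have hpar : IsPar S φ (S.imgIter k r) u := by
      simp only [IsPar] at ht ⊢
      change (⇑φ)^[S.olen (S.img (S.imgIter k r))] t = t at ht
      rw [TwistSym.olen_img hc hS hl] at ht
      apply φ.injective
      rw [← Function.iterate_succ_apply' (⇑φ), Function.iterate_succ_apply (⇑φ), hu,
        RingEquiv.apply_symm_apply, iterate_map_mul, ht]
      congr 1
      exact Function.iterate_fixed (map_intCast φ _) _
    obtain ⟨w, hw, e⟩ := ih hpar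
    refine ⟨w, hw, ?_⟩
    rw [← e, ← orbX_img hc hS φ hl hpar]
    show orbX hS φ (S.img (S.imgIter k r)) t = _
    congr 1
    rw [hu, RingEquiv.apply_symm_apply]
    rcases sgn_cast hc (K := K) hS hl with e | e <;> simp [e]

omit hO in
theorem word_conj {L : List ℕ} (hL : ∀ i ∈ L, i < D.rank) {r : ℕ} (hr : r < D.nroots) :
    ∃ n ∈ twistN hS φ, S.wWord L r < D.nroots ∧ S.olen (S.wWord L r) = S.olen r ∧
      ∀ t, IsPar S φ r t → ∃ u, IsPar S φ (S.wWord L r) u ∧ (u = t ∨ u = -t) ∧
        n * orbX hS φ r t * n⁻¹ = orbX hS φ (S.wWord L r) u := by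
  induction L with
  | nil => exact ⟨1, one_mem _, hr, rfl, fun t ht => ⟨t, ht, Or.inl rfl, by simp [TwistSym.wWord]⟩⟩
  | cons i L ih =>
    rw [List.forall_mem_cons] at hL
    obtain ⟨n, hn, hlt, hlen, h⟩ := ih hL.2
    obtain ⟨hlt', hlen', -⟩ := nOrb_conj hc hS φ hN hL.1 hlt (isPar_zero φ _)
    refine ⟨nOrb hS φ i * n,
      mul_mem ⟨nOrb_mem_monomial hc hS φ hL.1, nOrb_mem hc hS φ hN hL.1⟩ hn, hlt',
      hlen'.trans hlen, fun t ht => ?_⟩
    obtain ⟨u, hu, hut, heq⟩ := h t ht
    obtain ⟨-, -, e, he, hu', heq'⟩ := nOrb_conj hc hS φ hN hL.1 hlt hu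
    refine ⟨(e : K) * u, hu', ?_, ?_⟩
    · rcases he with rfl | rfl <;> rcases hut with rfl | rfl <;> simp
    · rw [show ∀ m k x : GL D.Idx K, m * k * x * (m * k)⁻¹ = m * (k * x * k⁻¹) * m⁻¹ from
        fun m k x => by group, heq, heq']
      rfl

omit hO hT in
theorem commute_elN_iter {i : ℕ} (hi : i < D.rank) (a b : K) {j k : ℕ}
    (hj : j < S.olen (D.simple i)) (hk : k < S.olen (D.simple i)) (hjk : j ≠ k) :
    Commute ((⇑(twistSigma S hS φ))^[j] (elN D K (D.simple i) a))
      ((⇑(twistSigma S hS φ))^[k] (elN D K (D.simple i) b)) := by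
  have hp := simple_lt hc hi
  have hkeep : ∀ (x : K) {j k : ℕ}, j < S.olen (D.simple i) → k < S.olen (D.simple i) → j ≠ k →
      ∀ y, Commute ((⇑(twistSigma S hS φ))^[j] (elX D K (D.simple i) x))
        ((⇑(twistSigma S hS φ))^[k] (elX D K (D.neg (D.simple i)) y)) :=
    fun x {j k} hj hk hjk y => commute_node_mixed hc hS φ hN hi x y hj hk hjk
  have hnn : ∀ x y, Commute ((⇑(twistSigma S hS φ))^[j] (elX D K (D.neg (D.simple i)) x))
      ((⇑(twistSigma S hS φ))^[k] (elX D K (D.neg (D.simple i)) y)) := fun x y =>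
    commute_iter_elX hc hS φ (neg_lt hc hp) x y (by rwa [TwistSym.olen_neg hc hS hp])
      (by rwa [TwistSym.olen_neg hc hS hp])
  have hxy := fun x y => hkeep x hj hk hjk y
  have hyx := fun x y => (hkeep x hk hj (Ne.symm hjk) y).symm
  have hxx := fun x y => commute_iter_elX hc hS φ hp x y hj hk
  simp only [elN, iterate_map_mul]
  exact ((((hxx _ _).mul_right (hxy _ _)).mul_right (hxx _ _)).mul_left
    (((hyx _ _).mul_right (hnn _ _)).mul_right (hyx _ _))).mul_left
    (((hxx _ _).mul_right (hxy _ _)).mul_right (hxx _ _))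

omit hO hT in
theorem hOrb_spec {i : ℕ} (hi : i < D.rank) {a : K} (ha : IsPar S φ (D.simple i) a) (h0 : a ≠ 0) :
    hOrb hS φ i a ∈ D.diagonalSubgroup K ⊓ twistGrp hS φ ∧
      ∀ t, hOrb hS φ i a * elX D K (D.simple i) t * (hOrb hS φ i a)⁻¹ =
        elX D K (D.simple i) (a ^ 2 * t) := by
  have hp := simple_lt hc hi
  have hna : IsPar S φ (D.neg (D.simple i)) (-a⁻¹) := by
    have := isPar_neg_inv hc hS φ ha
    simp only [IsPar] at this ⊢
    rwa [TwistSym.olen_neg hc hS hp]
  refine ⟨⟨orbProd_elN_div hc hS φ hp h0 one_ne_zero _, ?_⟩, ?_⟩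
  · refine Subgroup.mul_mem _ ?_ (Subgroup.inv_mem _ (nOrb_mem hc hS φ hN hi))
    rw [orbProd_elN_eq hc hS φ hN hi]
    exact Subgroup.mul_mem _ (Subgroup.mul_mem _ (orbX_simple_mem hi ha)
      (orbX_neg_simple_mem hi hna)) (orbX_simple_mem hi ha)
  intro t
  set f := (twistSigma S hS φ).toMonoidHom
  set d := elN D K (D.simple i) a * (elN D K (D.simple i) 1)⁻¹ with hd
  have hfd : hOrb hS φ i a = orbProd (⇑f) (S.olen (D.simple i)) d := by
    rw [hOrb, nOrb, mul_inv_eq_iff_eq_mul, ← show d * elN D K (D.simple i) 1 =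
      elN D K (D.simple i) a by rw [hd, inv_mul_cancel_right]]
    refine orbProd_mul f _ _ _ fun j k hj hk hjk => ?_
    rw [hd, elN_inv hc hp, iterate_map_mul]
    exact (commute_elN_iter hc hS φ hN hi a 1 hj hk hjk).mul_left
      (commute_elN_iter hc hS φ hN hi (-1) 1 hj hk hjk)
  have hd1 : d * elX D K (D.simple i) t * d⁻¹ = elX D K (D.simple i) (a ^ 2 * t) := by
    have h := elN_mul_inv hc (F := K) hp (Units.mk0 a h0) 1
    rw [Units.val_mk0, Units.val_one, div_one] at h
    rw [hd, h, torus_conj_elX hc _ hp]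
    congr 2
    have h2 := chi_corChar_simple hc (⟨i, hi⟩ : Fin D.rank) hp (Units.mk0 a h0)
    have h3 : D.cartan i (D.simple i) = 2 := cm_self hc (⟨i, hi⟩ : Fin D.rank)
    rw [h3] at h2
    rw [h2]
    simp
  have hk : ∀ k < S.olen (D.simple i), k ≠ 0 → ∀ u,
      Commute ((⇑f)^[k] d) (elX D K (D.simple i) u) := by
    intro k hk hk0 u
    have hN' : ∀ x, Commute ((⇑f)^[k] (elN D K (D.simple i) x)) (elX D K (D.simple i) u) := by
      intro x
      have e : elX D K (D.simple i) u = (⇑f)^[0] (elX D K (D.simple i) u) := rfl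
      rw [e, elN, iterate_map_mul, iterate_map_mul]
      exact ((commute_iter_elX hc hS φ hp _ _ hk (by omega)).mul_left
        ((commute_node_mixed hc hS φ hN hi u _ (by omega) hk (Ne.symm hk0)).symm)).mul_left
          (commute_iter_elX hc hS φ hp _ _ hk (by omega))
    rw [hd, iterate_map_mul, iterate_map_inv]
    exact (hN' a).mul_left (hN' 1).inv_left
  rw [hfd]
  have hpos : 0 < S.olen (D.simple i) := by
    unfold TwistSym.olen
    split_ifs
    · exact one_pos
    · exact TwistSym.d_pos hS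
  have key : ∀ n, 1 ≤ n → n ≤ S.olen (D.simple i) →
      orbProd (⇑f) n d * elX D K (D.simple i) t * (orbProd (⇑f) n d)⁻¹ =
        elX D K (D.simple i) (a ^ 2 * t) := by
    intro n
    induction n with
    | zero => omega
    | succ n ih =>
      intro _ hle
      rw [orbProd_succ]
      by_cases h : n = 0
      · subst h; simpa [orbProd] using hd1
      · rw [show ∀ A x y : GL D.Idx K, A * x * y * (A * x)⁻¹ = A * (x * y * x⁻¹) * A⁻¹ from
          fun A x y => by group, (hk n (by omega) h t).eq, mul_inv_cancel_right]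
        exact ih (by omega) (by omega)
  exact key _ hpos le_rfl

/-- The core of `B¹` is trivial. -/
theorem twist_core (hcomm : CommOne D T) {L : List ℕ} (hL : S.longTest L = true)
    {G : Subgroup (GL D.Idx K)} (hG : G = twistGrp hS φ) :
    ((D.borelSubgroup K ⊓ G).subgroupOf G).normalCore = ⊥ := by
  subst hG
  simp only [TwistSym.longTest, Bool.and_eq_true, decide_eq_true_eq] at hL
  rw [eq_bot_iff]
  intro g hg
  have hconj : ∀ k ∈ twistGrp hS φ, k * (g : GL D.Idx K) * k⁻¹ ∈ twistB hS φ := fun k hk =>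
    Subgroup.mem_subgroupOf.1 (hg ⟨k, hk⟩)
  obtain ⟨n, hn, hnL⟩ : ∃ n ∈ twistN hS φ, ∀ r ∈ S.repList, ∀ t, IsPar S φ r t →
      n * orbX hS φ r t * n⁻¹ ∈ uGen D K (fun r => r < D.nroots / 2) := by
    have hw : ∀ (L : List ℕ), (∀ i ∈ L, i < D.rank) → ∃ n ∈ twistN hS φ, ∀ r, r < D.nroots →
        S.wWord L r < D.nroots ∧ ∀ t, IsPar S φ r t →
          ∃ u, IsPar S φ (S.wWord L r) u ∧
            n * orbX hS φ r t * n⁻¹ = orbX hS φ (S.wWord L r) u := by
      intro L
      induction L with
      | nil => exact fun _ => ⟨1, one_mem _, fun r hr => ⟨hr, fun t ht =>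
          ⟨t, ht, by simp [TwistSym.wWord]⟩⟩⟩
      | cons i L ih =>
        intro hL
        rw [List.forall_mem_cons] at hL
        obtain ⟨n, hn, h⟩ := ih hL.2
        refine ⟨nOrb hS φ i * n,
          mul_mem ⟨nOrb_mem_monomial hc hS φ hL.1, nOrb_mem hc hS φ hN hL.1⟩ hn, fun r hr => ?_⟩
        obtain ⟨hlt, hu⟩ := h r hr
        refine ⟨wO_lt hc hS hL.1 hlt, fun t ht => ?_⟩
        obtain ⟨u, hu', heq⟩ := hu t ht
        obtain ⟨-, -, e, -, hu2, heq'⟩ := nOrb_conj hc hS φ hN hL.1 hlt hu'
        refine ⟨_, hu2, ?_⟩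
        rw [show ∀ m k x : GL D.Idx K, m * k * x * (m * k)⁻¹ = m * (k * x * k⁻¹) * m⁻¹ from
          fun m k x => by group, heq, heq']
        rfl
    obtain ⟨n, hn, h⟩ := hw L hL.1
    refine ⟨n, hn, fun r hr t ht => ?_⟩
    obtain ⟨hlt, hu⟩ := h r (mem_repList hr).1
    obtain ⟨u, -, e⟩ := hu t ht
    rw [e]
    exact orbX_mem_neg hc hS φ hO hlt (hL.2 r hr) u
  have hnU : ∀ u ∈ D.posUnipotent K ⊓ fixedSub S hS φ,
      n * u * n⁻¹ ∈ uGen D K (fun r => r < D.nroots / 2) := by
    intro u hu
    rw [← highU_one hc (F := K) (TwistSym.htPos hO)] at hu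
    have hu' := highU_fixed_le_repGen hc hcomm hS hO φ le_rfl (r₀ := D.nroots)
      (fun e => lt_irrefl _ (mem_repList e.1).1) hu
    clear hu
    induction hu' using Subgroup.closure_induction with
    | mem x hx =>
      obtain ⟨r, hr, -, -, t, ht, rfl⟩ := hx
      exact hnL r hr t ht
    | one => simp
    | mul x y _ _ hx hy =>
      rw [show n * (x * y) * n⁻¹ = (n * x * n⁻¹) * (n * y * n⁻¹) by group]
      exact mul_mem hx hy
    | inv x _ hx =>
      rw [show n * x⁻¹ * n⁻¹ = (n * x * n⁻¹)⁻¹ by group]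
      exact inv_mem hx
  have hH : ∀ k ∈ twistGrp hS φ, k * (g : GL D.Idx K) * k⁻¹ ∈ D.diagonalSubgroup K := by
    intro k hk
    refine borel_inf_negH hc (hconj k hk).1 ?_
    obtain ⟨u, hu, h, hh, e⟩ :=
      twistB_split hc hS φ hO hN hcomm (hconj (n⁻¹ * k) (mul_mem (inv_mem hn.2) hk))
    rw [show k * (g : GL D.Idx K) * k⁻¹ = (n * u * n⁻¹) * (n * h * n⁻¹) by
      rw [show (n * u * n⁻¹) * (n * h * n⁻¹) = n * (u * h) * n⁻¹ by group, ← e]; group]
    exact mul_mem (Subgroup.mem_sup_left (hnU u hu))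
      (Subgroup.mem_sup_right (monomial_conj_diagonal hc hn.1 hh.1))
  obtain ⟨c, hgc⟩ := (mem_diagonal hc).1 (by simpa using hH 1 (one_mem _))
  have hgf := twistGrp_le_fixed hc hS φ g.2
  have hrep : ∀ i ∈ S.repNodes, chi (hPar D K c) (rv D T (D.simple i)) = 1 := by
    intro i hi
    have hi' := (mem_repNodes hi).1
    have hp := simple_lt hc hi'
    have hcx : ∀ t, (g : GL D.Idx K) * elX D K (D.simple i) t * (g : GL D.Idx K)⁻¹ =
        elX D K (D.simple i) ((chi (hPar D K c) (rv D T (D.simple i)) : K) * t) := by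
      intro t; rw [← hgc]; exact torus_conj_elX hc _ hp t
    obtain ⟨hpar, e⟩ := fixed_orbX_conj hc hS φ hgf hp hp hcx (isPar_one φ _)
    set cc := (chi (hPar D K c) (rv D T (D.simple i)) : K) with hcc
    set x := orbX hS φ (D.simple i) 1 with hx
    have hxG : x ∈ twistGrp hS φ := orbX_simple_mem hi' (isPar_one φ _)
    have hxe : x * (g : GL D.Idx K) * x⁻¹ * (g : GL D.Idx K)⁻¹ =
        orbX hS φ (D.simple i) (1 + -(cc * 1)) := by
      rw [hx, ← orbX_add hc hS φ hp, ← orbX_inv hc hS φ hp, ← e, ← hx]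
      group
    have h1 : orbX hS φ (D.simple i) (1 + -(cc * 1)) = 1 := by
      refine pos_inf_diag hc ?_ (hxe ▸ mul_mem (hH x hxG) (inv_mem (by simpa using hH 1 (one_mem _))))
      rw [← posUnipotent_eq hc]
      exact orbX_mem_pos hc hS φ hO hp (half_le_simple hc hi') _
    by_contra hne
    refine orbX_simple_ne_one hc hS φ hO hi ?_ h1
    intro h0
    exact hne (Units.ext (by rw [Units.val_one, ← hcc]; linear_combination -h0))
  have hone : ∀ j : Fin D.rank, chi (hPar D K c) (rv D T (D.simple j.val)) = 1 := by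
    intro j
    obtain ⟨i, hi, k, -, e⟩ := TwistSym.node_cover hT j.2
    have hi' := (mem_repNodes hi).1
    rw [← e]
    clear e
    induction k with
    | zero => exact hrep i hi
    | succ k ih =>
      have hl := TwistSym.imgIter_lt hS (simple_lt hc hi') k
      have hu := TwistSym.img_lt hS hl
      have hcx : (g : GL D.Idx K) * elX D K (S.imgIter k (D.simple i)) 1 * (g : GL D.Idx K)⁻¹ =
          elX D K (S.imgIter k (D.simple i)) 1 := by
        rw [← hgc, torus_conj_elX hc _ hl, ih]; simp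
      have hcy := congrArg (twistSigma S hS φ) hcx
      rw [map_mul, map_mul, map_inv, mem_fixedSub.mp hgf, twistSigma_elX hc hS φ hl, map_one,
        mul_one] at hcy
      conv_lhs at hcy => rw [← hgc, torus_conj_elX hc _ hu]
      have h5 := elX_injective hc hS hu hcy
      apply Units.ext
      rw [Units.val_one]
      rcases sgn_cast hc (K := K) hS hl with e | e <;> rw [e] at h5
      · rw [← h5, mul_one]; rfl
      · rw [mul_neg, mul_one, neg_inj] at h5
        exact h5
  have hχ : hPar D K c = 1 := funext fun j => by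
    have := hone j
    rwa [rv_simple hc, chi_single, zpow_one] at this
  rw [Subgroup.mem_bot]
  exact Subtype.ext (hgc.symm.trans (by rw [hχ, map_one]; rfl))

/-- The twisted group is perfect. -/
theorem twist_perfect [Fintype K] (hq : 4 ≤ Fintype.card K)
    (hfull : ∀ r, S.olen r = S.d → ∀ t : K, IsPar S φ r t)
    {data : List (ℕ × ℕ × ℕ × ℕ × ℤ × List ℕ)} (hD : S.perfTest data = true)
    (hcomm : CommOne D T) {G : Subgroup (GL D.Idx K)} (hG : G = twistGrp hS φ) :
    commutator ↥G = ⊤ := by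
  classical
  subst hG
  set G := twistGrp hS φ
  simp only [TwistSym.perfTest, Bool.and_eq_true, decide_eq_true_eq, List.all_eq_true] at hD
  have hnorm : ∀ g ∈ G, ∀ x ∈ ⁅G, G⁆, g * x * g⁻¹ ∈ ⁅G, G⁆ := by
    intro g hg x hx
    have hxG : x ∈ G := Subgroup.commutator_le.2
      (fun a ha b hb => by
        rw [commutatorElement_def]
        exact mul_mem (mul_mem (mul_mem ha hb) (inv_mem ha)) (inv_mem hb)) hx
    rw [show g * x * g⁻¹ = ⁅g, x⁆ * x by rw [commutatorElement_def]; group]
    exact mul_mem (Subgroup.commutator_mem_commutator hg hxG) hx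
  have hrep : ∀ i ∈ S.repNodes, ∀ t, IsPar S φ (D.simple i) t →
      orbX hS φ (D.simple i) t ∈ ⁅G, G⁆ := by
    intro i hi t ht
    have hi' := (mem_repNodes hi).1
    have hp := simple_lt hc hi'
    rcases hD.1 i hi with hd | ⟨⟨i', a, b, c, e, L⟩, hmem, rfl⟩
    · obtain ⟨a, ha⟩ : ∃ a : K, a ∉ ({0, 1, -1} : Finset K) := by
        refine (Finset.exists_mem_notMem_of_card_lt_card (s := ({0, 1, -1} : Finset K))
          (t := Finset.univ) ?_).imp fun a h => h.2
        exact lt_of_le_of_lt Finset.card_le_three (by rw [Finset.card_univ]; omega)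
      simp only [Finset.mem_insert, Finset.mem_singleton, not_or] at ha
      obtain ⟨hh, hconj⟩ := hOrb_spec hc hS φ hN hi' (hfull _ hd a) ha.1
      have hne : a ^ 2 - 1 ≠ 0 := fun h => by
        rcases sq_eq_one_iff.mp (sub_eq_zero.mp h) with h | h
        exacts [ha.2.1 h, ha.2.2 h]
      set u := t / (a ^ 2 - 1)
      have hu : IsPar S φ (D.simple i) u := hfull _ hd u
      obtain ⟨hpar, e⟩ := fixed_orbX_conj hc hS φ (twistGrp_le_fixed hc hS φ hh.2) hp hp
        (c := Units.mk0 (a ^ 2) (pow_ne_zero 2 ha.1)) (by simpa using hconj) hu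
      have := Subgroup.commutator_mem_commutator hh.2
        (orbX_simple_mem (hS := hS) (φ := φ) hi' hu)
      rw [commutatorElement_def, e, orbX_inv hc hS φ hp, orbX_add hc hS φ hp] at this
      convert this using 2
      rw [Units.val_mk0]
      have : u * (a ^ 2 - 1) = t := div_mul_cancel₀ t hne
      linear_combination (-1 : K) * this
    · obtain ⟨ha, hb, hcl, oa, ob, oc, hne, hne', hterm, he, hL, hLc⟩ := by
        simpa using hD.2 _ hmem
      have h1 : ∀ x t, S.olen x = 1 → orbX hS φ x t = elX D K x t := fun x t h => by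
        rw [orbX, h, orbProd_one]
      obtain ⟨n, hn, -, hol, hconj⟩ := word_conj hc hS φ hN hT (L := L) hL hcl
      rw [hLc] at hol hconj
      have hpar1 : ∀ x s, S.olen x = 1 → (IsPar S φ x s ↔ φ s = s) := fun x s h => by
        rw [IsPar, h, Function.iterate_one]
      rw [oc] at hol
      rw [hpar1 _ _ hol] at ht
      have hctr : ∀ s, φ s = s → elX D K c s ∈ ⁅G, G⁆ := by
        intro s hs
        have hes : φ ((e : K) * s) = (e : K) * s := by rw [map_mul, map_intCast, hs]
        have hA : elX D K a (-1) ∈ G := by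
          rw [← h1 a _ oa]; exact orbX_mem hc hS φ hN ha ((hpar1 _ _ oa).2 (by simp))
        have hB : elX D K b ((e : K) * s) ∈ G := by
          rw [← h1 b _ ob]; exact orbX_mem hc hS φ hN hb ((hpar1 _ _ ob).2 hes)
        have hx := elX_comm hc hcomm (F := K) ha hb hne hne' (-1) ((e : K) * s)
        rw [ChevalleyDatum.commWord, hterm, wordGL] at hx
        simp only [List.map_cons, List.map_nil, List.prod_cons, List.prod_nil, mul_one, pow_one,
          neg_neg] at hx
        rw [show (e : K) * ((e : K) * s) = s by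
          rcases he with rfl | rfl <;> simp] at hx
        have := Subgroup.commutator_mem_commutator (inv_mem hB) (inv_mem hA)
        rw [commutatorElement_def, inv_inv, inv_inv] at this
        convert this using 1
        rw [mul_assoc _ (elX D K b ((e : K) * s)) (elX D K a (-1)), hx]
        group
      obtain ⟨u, hu, hut, heq⟩ := hconj t ((hpar1 _ _ oc).2 ht)
      have := hnorm n hn.2 _ (hctr t ht)
      rw [← h1 c t oc, heq] at this
      rcases hut with rfl | rfl
      · exact this
      · rw [← orbX_inv hc hS φ hp] at this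
        simpa using inv_mem this
  have hsimple : ∀ i < D.rank, ∀ t, IsPar S φ (D.simple i) t →
      orbX hS φ (D.simple i) t ∈ ⁅G, G⁆ := by
    intro i hi t ht
    obtain ⟨i₀, hi₀, k, -, e⟩ := TwistSym.node_cover hT hi
    rw [← e] at ht ⊢
    obtain ⟨u, hu, eq⟩ := orbX_iter hc hS φ hN hT (simple_lt hc (mem_repNodes hi₀).1) k ht
    rw [eq]
    exact hrep i₀ hi₀ u hu
  have htop : G ≤ ⁅G, G⁆ := by
    refine (Subgroup.closure_le _).mpr ?_
    rintro g ⟨i, hi, r, hr, t, ht, rfl⟩
    have hp := simple_lt hc hi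
    rcases hr with rfl | rfl
    · exact hsimple i hi t ht
    · have hn := nOrb_mem hc hS φ hN hi
      obtain ⟨-, -, e, -, hpar, heq⟩ := nOrb_conj hc hS φ hN hi (neg_lt hc hp) ht
      rw [(TwistSym.wO_spec hN hi hp).2.2, TwistSym.wO_simple hN hi,
        neg_neg_root hc hp] at heq hpar
      have := hnorm _ (inv_mem hn) _ (hsimple i hi _ hpar)
      rw [← heq] at this
      simpa [mul_assoc] using this
  refine Subgroup.map_injective G.subtype_injective ?_
  rw [commutator_def, Subgroup.map_commutator, ← MonoidHom.range_eq_map, Subgroup.range_subtype]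
  exact le_antisymm (Subgroup.commutator_le.2 fun a ha b hb => by
    rw [commutatorElement_def]
    exact mul_mem (mul_mem (mul_mem ha hb) (inv_mem ha)) (inv_mem hb)) htop

/-- The twisted group is simple and not commutative. -/
theorem twist_simple [Fintype K] (hq : 4 ≤ Fintype.card K)
    (hfull : ∀ r, S.olen r = S.d → ∀ t : K, IsPar S φ r t)
    {data : List (ℕ × ℕ × ℕ × ℕ × ℤ × List ℕ)} (hD : S.perfTest data = true) {L : List ℕ}
    (hL : S.longTest L = true) (hI : S.irrTest = true) (h0 : S.repNodes ≠ [])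
    (hcomm : CommOne D T) {G : Subgroup (GL D.Idx K)} (hG : G = twistGrp hS φ) :
    IsSimpleGroup ↥G ∧ ¬ IsMulCommutative ↥G := by
  subst hG
  have hperf := twist_perfect hc hS φ hO hN hT hq hfull hD hcomm rfl
  have hcore := twist_core hc hS φ hO hN hT hcomm hL rfl
  set G := twistGrp hS φ with hGdef
  obtain ⟨P, hB, -, hPS⟩ := exists_twist_bnPair hc hS φ hO hN hT hcomm hGdef
  obtain ⟨i₀, hi₀⟩ := List.exists_mem_of_ne_nil _ h0
  have hx : orbX hS φ (D.simple i₀) 1 ∈ G :=
    orbX_simple_mem (mem_repNodes hi₀).1 (isPar_one φ _)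
  have hnt : Nontrivial ↥G := ⟨⟨⟨_, hx⟩, 1, fun e =>
    orbX_simple_ne_one hc hS φ hO hi₀ one_ne_zero (congrArg Subtype.val e)⟩⟩
  refine ⟨?_, fun h => ?_⟩
  · refine CfsgLib.BN.isSimpleGroup P ?_ ?_ hperf (hB ▸ hcore)
    · intro J hJ ⟨s, hs⟩ ⟨t, ht⟩
      classical
      simp only [TwistSym.irrTest, List.all_eq_true, List.mem_sublists, Bool.or_eq_true,
        List.any_eq_true, Bool.and_eq_true, decide_eq_true_eq, List.mem_range] at hI
      set J' := S.repNodes.filter fun i => decide (∃ n ∈ J, (n : GL D.Idx K) = nOrb hS φ i)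
      have hJ' : ∀ i, i ∈ J' ↔ i ∈ S.repNodes ∧ ∃ n ∈ J, (n : GL D.Idx K) = nOrb hS φ i :=
        fun i => by simp [J']
      rcases hI J' List.filter_sublist with (h | h) | ⟨a, ha, b, hb, hbJ, r, hr, hne⟩
      · exfalso
        obtain ⟨i, hi, e⟩ := (hPS ▸ hJ hs : s ∈ {n : ↥G | ∃ i ∈ S.repNodes, _})
        have := (hJ' i).2 ⟨hi, s, hs, e⟩
        rw [h] at this
        exact List.not_mem_nil this
      · exfalso
        obtain ⟨i, hi, e⟩ := (hPS ▸ ht.1 : t ∈ {n : ↥G | ∃ i ∈ S.repNodes, _})
        rw [← (List.filter_sublist).eq_of_length h] at hi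
        obtain ⟨-, n, hn, en⟩ := (hJ' i).1 hi
        exact ht.2 (Subtype.ext (e.trans en.symm) ▸ hn)
      · obtain ⟨ha', n, hn, en⟩ := (hJ' a).1 ha
        have hb' := (mem_repNodes hb).1
        refine ⟨n, hn, ⟨_, nOrb_mem hc hS φ hN hb'⟩, ⟨?_, fun hm => hbJ ((hJ' b).2
          ⟨hb, _, hm, rfl⟩)⟩, fun hmem => hne ?_⟩
        · rw [hPS]; exact ⟨b, hb, rfl⟩
        rw [hB, Subgroup.mem_subgroupOf] at hmem
        simp only [Subgroup.coe_mul, Subgroup.coe_inv, en] at hmem
        obtain ⟨ρ, hρ⟩ := exists_rootPerm hc (K := K)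
        have hma := nOrb_mem_monomial hc hS φ (mem_repNodes ha').1
        have hmb := nOrb_mem_monomial hc hS φ hb'
        have hd := borel_inf_monomial hc hmem.1
          (mul_mem (mul_mem (mul_mem hma hmb) (inv_mem hma)) (inv_mem hmb))
        set A : ↥(D.monomialSubgroup K) := ⟨_, hma⟩
        set B : ↥(D.monomialSubgroup K) := ⟨_, hmb⟩
        have hone : ρ (A * B * A⁻¹ * B⁻¹) = 1 := (rootPerm_ker hc hρ _).2 hd
        rw [map_mul, map_mul, map_mul, map_inv, map_inv, mul_inv_eq_one, mul_inv_eq_iff_eq_mul]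
          at hone
        have hact : ∀ (i : ℕ) (hi : i < D.rank) (r : Fin D.nroots),
            (ρ ⟨_, nOrb_mem_monomial hc hS φ hi⟩ r).1 = S.wO i r.1 := by
          intro i hi r
          obtain ⟨v, c, hv, hcx, -⟩ := monomial_conj_elX hc (nOrb_mem_monomial hc hS φ hi) r.2
          obtain ⟨hlt, e1, -, h1⟩ := wK_conj hc hS φ (S.olen (D.simple i)) hi r.2 (1 : K)
          have hv' : v = S.wO i r.1 :=
            elX_root_unique hc hv hlt (by simp : (c : K) * 1 ≠ 0) ((hcx 1).symm.trans h1)
          refine IsImg.unique hc (Fin.isLt _) hlt (hρ _ r) ⟨c, fun t => ?_⟩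
          show _ = elX D K (S.wO i r.1) _
          rw [← hv']
          exact hcx t
        have := congrArg (fun σ : Equiv.Perm (Fin D.nroots) => (σ ⟨r, hr⟩).1) hone
        simp only [Equiv.Perm.mul_apply] at this
        rwa [hact _ (mem_repNodes ha').1, hact _ hb', hact _ hb', hact _ (mem_repNodes ha').1]
          at this
    · rw [hB]
      haveI := isSolvable_borel hc hcomm (F := K)
      exact Group.isSolvable_of_isSolvable_injective
        (f := (⟨⟨fun x => ⟨(x.1 : GL D.Idx K), (Subgroup.mem_subgroupOf.1 x.2).1⟩, rfl⟩,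
          fun _ _ => rfl⟩ : ↥((D.borelSubgroup K ⊓ G).subgroupOf G) →* ↥(D.borelSubgroup K)))
        fun x y e => Subtype.ext (Subtype.ext (congrArg (fun z : ↥(D.borelSubgroup K) => z.1) e))
  · haveI := h
    have hbot : commutator ↥G = ⊥ := by
      rw [commutator_def, Subgroup.commutator_eq_bot_iff_le_centralizer]
      intro a _ b _
      exact mul_comm' b a
    exact bot_ne_top (hbot.symm.trans hperf)

end

end CfsgLib.Twisted
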