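import Cfsg.Agent.Lib.Twisted.D4BN
import Cfsg.Agent.Lib.Twisted.Simple

/-!
The twisted group of type D4: trivial core, perfectness, simplicity.
-/

set_option autoImplicit false

namespace CfsgLib.Twisted.D4

open Cfsg.Lie CfsgLib.Chev CfsgLib.Chevalley

/-- A word for the longest element. -/
def longWord : List ℕ := (List.replicate 3 [1, 3]).flatten

/-- Roots for the perfectness argument. -/
def perfData : List (ℕ × ℕ × ℕ × ℕ × ℤ × List ℕ) := [(1, 14, 22, 23, 1, [3, 1])]

theorem long_ok : sym.longTest longWord = true := by decide +kernel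

theorem perf_ok : sym.perfTest perfData = true := by decide +kernel

theorem irr_ok : sym.irrTest = true := by decide +kernel

theorem nodes_ne : sym.repNodes ≠ [] := by decide +kernel

theorem d_eq : sym.d = 3 := rfl

variable {K : Type*} [Field K] [Fintype K] {q : ℕ}

theorem par_full (hK : Fintype.card K = q ^ 3) (φ : K ≃+* K) (hφ : ∀ x, φ x = x ^ q) (r : ℕ)
    (hr : sym.olen r = sym.d) (t : K) : IsPar sym φ r t := by
  rw [IsPar, hr, d_eq]; exact iterate_frob_card hφ hK t

theorem four_le (hq : IsPrimePow q) (hK : Fintype.card K = q ^ 3) : 4 ≤ Fintype.card K := by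
  rw [hK]; exact le_trans (by norm_num) (Nat.pow_le_pow_left hq.two_le 3)

theorem core_trivial (hq : IsPrimePow q) (hK : Fintype.card K = q ^ 3) :
    ((chevD4.borelSubgroup K ⊓ twistedD4 K q).subgroupOf (twistedD4 K q)).normalCore = ⊥ := by
  obtain ⟨φ, hφ⟩ := exists_frob hq three_ne_zero hK
  exact twist_core CfsgLib.Chev.D4.checked sym_test φ orbit_ok sym_nodeTest sym_bnTest comm_one
    long_ok (twistedD4_eq hK φ hφ)

theorem perfect (hq : IsPrimePow q) (hK : Fintype.card K = q ^ 3) :
    commutator ↥(twistedD4 K q) = ⊤ := by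
  obtain ⟨φ, hφ⟩ := exists_frob hq three_ne_zero hK
  exact twist_perfect CfsgLib.Chev.D4.checked sym_test φ orbit_ok sym_nodeTest sym_bnTest
    (four_le hq hK) (par_full hK φ hφ) perf_ok comm_one (twistedD4_eq hK φ hφ)

theorem simple_group (hq : IsPrimePow q) (hK : Fintype.card K = q ^ 3) :
    IsSimpleGroup ↥(twistedD4 K q) ∧ ¬ IsMulCommutative ↥(twistedD4 K q) := by
  obtain ⟨φ, hφ⟩ := exists_frob hq three_ne_zero hK
  exact twist_simple CfsgLib.Chev.D4.checked sym_test φ orbit_ok sym_nodeTest sym_bnTest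
    (four_le hq hK) (par_full hK φ hφ) perf_ok long_ok irr_ok nodes_ne comm_one
    (twistedD4_eq hK φ hφ)

end CfsgLib.Twisted.D4
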