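import Mathlib

/-!
The power map `t ↦ t ^ q` on a finite field of order `q ^ d`, `q` a prime power.
-/

set_option autoImplicit false

namespace CfsgLib.Twisted

variable {K : Type*} [Field K] [Fintype K] {q d : ℕ}

theorem exists_frob (hq : IsPrimePow q) (hd : d ≠ 0) (hK : Fintype.card K = q ^ d) :
    ∃ φ : K ≃+* K, ∀ x, φ x = x ^ q := by
  obtain ⟨p, a, hp, ha, rfl⟩ := hq
  have hp' : Fact p.Prime := ⟨hp.nat_prime⟩
  have hchar : CharP K p := by
    obtain ⟨p', hp2⟩ := CharP.exists K
    obtain ⟨n, hn1, hn2⟩ := FiniteField.card K p'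
    have hdvd : p ∣ p' ^ (n : ℕ) := by
      rw [← hn2, hK, ← pow_mul]
      exact dvd_pow_self p (Nat.mul_ne_zero ha.ne' hd)
    rwa [(Nat.prime_dvd_prime_iff_eq hp.nat_prime hn1).mp (hp.nat_prime.dvd_of_dvd_pow hdvd)]
  exact ⟨iterateFrobeniusEquiv K p a, iterateFrobeniusEquiv_def K p a⟩

theorem iterate_frob {φ : K ≃+* K} (hφ : ∀ x, φ x = x ^ q) (k : ℕ) (x : K) :
    (⇑φ)^[k] x = x ^ q ^ k := by
  induction k with
  | zero => simp
  | succ k ih => rw [Function.iterate_succ_apply', ih, hφ, ← pow_mul, pow_succ]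

theorem iterate_frob_card {φ : K ≃+* K} (hφ : ∀ x, φ x = x ^ q) (hK : Fintype.card K = q ^ d)
    (x : K) : (⇑φ)^[d] x = x := by
  rw [iterate_frob hφ, ← hK, FiniteField.pow_card]

/-- The fixed field of `t ↦ t ^ q` has `q` elements. -/
theorem card_fixed (hq : IsPrimePow q) (hd : d ≠ 0) (hK : Fintype.card K = q ^ d) :
    Nat.card {x : K // x ^ q = x} = q := by
  classical
  have hq2 : 2 ≤ q := hq.two_le
  have hdvd : q - 1 ∣ Fintype.card K - 1 := by
    rw [hK]
    simpa using Nat.sub_dvd_pow_sub_pow q 1 d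
  obtain ⟨g, hg⟩ := IsCyclic.exists_generator (α := Kˣ)
  have hcard : Nat.card Kˣ = Fintype.card K - 1 := by
    rw [Nat.card_eq_fintype_card, Fintype.card_units]
  have hroots : Nat.card {u : Kˣ // u ^ (q - 1) = 1} = q - 1 := by
    have := IsCyclic.card_powMonoidHom_ker (G := Kˣ) (q - 1)
    rw [hcard, Nat.gcd_eq_right hdvd] at this
    exact this
  have e : {x : K // x ^ q = x} ≃ Option {u : Kˣ // u ^ (q - 1) = 1} :=
    { toFun := fun x => if h : x.1 = 0 then none else some ⟨Units.mk0 x.1 h, by
        have hx := x.2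
        apply Units.ext
        rw [Units.val_pow_eq_pow_val, Units.val_mk0, Units.val_one]
        apply mul_left_cancel₀ h
        rw [mul_one, ← pow_succ', Nat.sub_add_cancel (by omega)]
        exact hx⟩
      invFun := fun o => o.elim ⟨0, zero_pow (by omega)⟩ fun u => ⟨u.1, by
        have hu := congrArg Units.val u.2
        rw [Units.val_pow_eq_pow_val, Units.val_one] at hu
        calc (u.1 : K) ^ q = (u.1 : K) ^ ((q - 1) + 1) := by congr 1; omega
          _ = _ := by rw [pow_succ, hu, one_mul]⟩
      left_inv := fun x => by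
        by_cases h : x.1 = 0
        · simp only [h, dif_pos, Option.elim_none]; exact Subtype.ext h.symm
        · simp [h]
      right_inv := fun o => by
        cases o with
        | none => simp
        | some u => simp }
  rw [Nat.card_congr e, Finite.card_option, hroots]
  omega

end CfsgLib.Twisted
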