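import Cfsg.Agent.Lib.Twisted.E6

/-!
`twistedE6` is the group generated by the orbit products of the fundamental roots.
-/

set_option autoImplicit false

namespace CfsgLib.Twisted.E6

open Cfsg.Lie CfsgLib.Chev CfsgLib.Chevalley

theorem table_facts :
    chevE6.simple 0 = e6p1 ∧ chevE6.simple 1 = e6p2 ∧ chevE6.simple 2 = e6p3 ∧
    chevE6.simple 3 = e6p4 ∧ chevE6.simple 4 = e6p5 ∧ chevE6.simple 5 = e6p6 ∧
    chevE6.neg e6p1 = e6m1 ∧ chevE6.neg e6p2 = e6m2 ∧ chevE6.neg e6p3 = e6m3 ∧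
    chevE6.neg e6p4 = e6m4 ∧ chevE6.neg e6p5 = e6m5 ∧ chevE6.neg e6p6 = e6m6 := by
  decide +kernel

theorem fixed_facts : ∀ r ∈ [e6p2, e6m2, e6p4, e6m4],
    r < chevE6.nroots ∧ sym.olen r = 1 := by decide +kernel

theorem pair_facts : ∀ rs ∈ [(e6p1, e6p6), (e6m1, e6m6), (e6p3, e6p5), (e6m3, e6m5)],
    rs.1 < chevE6.nroots ∧ rs.2 < chevE6.nroots ∧ sym.img rs.1 = rs.2 ∧ sym.img rs.2 = rs.1 ∧
      sym.sgn rs.1 = 1 ∧ sym.sgn rs.2 = 1 ∧ sym.olen rs.1 = 2 := by decide +kernel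

variable {K : Type*} [Field K] [Fintype K] {q : ℕ}

theorem twistedE6_eq (hK : Fintype.card K = q ^ 2) (φ : K ≃+* K) (hφ : ∀ x, φ x = x ^ q) :
    twistedE6 K q = twistGrp sym_test φ := by
  have hc := CfsgLib.Chev.E6.checked
  have hone : ∀ (r : ℕ) (t : K), sym.olen r = 1 → orbX sym_test φ r t = elX chevE6 K r t := by
    intro r t h; rw [orbX, h, orbProd_one]
  have htwo : ∀ rs ∈ [(e6p1, e6p6), (e6m1, e6m6), (e6p3, e6p5), (e6m3, e6m5)], ∀ t : K,
      orbX sym_test φ rs.1 t = elX chevE6 K rs.1 t * elX chevE6 K rs.2 (t ^ q) := by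
    intro rs hrs t
    obtain ⟨h1, -, h3, -, h5, -, h7⟩ := pair_facts rs hrs
    rw [orbX, h7, orbProd_succ, orbProd_one, Function.iterate_one,
      twistSigma_elX hc sym_test φ h1, h3, h5, Int.cast_one, one_mul, hφ]
  have hpar2 : ∀ rs ∈ [(e6p1, e6p6), (e6m1, e6m6), (e6p3, e6p5), (e6m3, e6m5)], ∀ t : K,
      IsPar sym φ rs.1 t := by
    intro rs hrs t
    obtain ⟨-, -, -, -, -, -, h7⟩ := pair_facts rs hrs
    rw [IsPar, h7]
    exact iterate_frob_card hφ hK t
  obtain ⟨s0, s1, s2, s3, s4, s5, n0, n1, n2, n3, n4, n5⟩ := table_facts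
  rw [twistedE6, ChevalleyDatum.genSubgroup, twistGrp]
  apply le_antisymm <;> refine (Subgroup.closure_le _).mpr ?_
  · rintro g ⟨w, hw, hg⟩
    rcases hw with ⟨t, ht, r, hr, rfl⟩ | ⟨t, rs, hrs, rfl⟩
    · obtain ⟨hlt, h1⟩ := fixed_facts r hr
      have hge : g = orbX sym_test φ r t := by
        rw [hone r t h1]; ext1; rw [hg, coe_elX hc K hlt]; simp [ChevalleyDatum.wordMat]
      rw [hge]
      refine Subgroup.subset_closure ?_
      have hpar : IsPar sym φ r t := by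
        rw [IsPar, h1, Function.iterate_one, hφ, ht]
      simp only [List.mem_cons, List.not_mem_nil, or_false] at hr
      rcases hr with rfl | rfl | rfl | rfl
      · exact ⟨1, by decide, _, Or.inl s1.symm, t, hpar, rfl⟩
      · exact ⟨1, by decide, _, Or.inr (by rw [s1, n1]), t, hpar, rfl⟩
      · exact ⟨3, by decide, _, Or.inl s3.symm, t, hpar, rfl⟩
      · exact ⟨3, by decide, _, Or.inr (by rw [s3, n3]), t, hpar, rfl⟩
    · obtain ⟨h1, h2, -⟩ := pair_facts rs hrs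
      have hge : g = orbX sym_test φ rs.1 t := by
        rw [htwo rs hrs t]; ext1
        rw [hg, Units.val_mul, coe_elX hc K h1, coe_elX hc K h2]; simp [ChevalleyDatum.wordMat]
      rw [hge]
      refine Subgroup.subset_closure ?_
      have hpar := hpar2 rs hrs t
      simp only [List.mem_cons, List.not_mem_nil, or_false] at hrs
      rcases hrs with rfl | rfl | rfl | rfl
      · exact ⟨0, by decide, _, Or.inl s0.symm, t, hpar, rfl⟩
      · exact ⟨0, by decide, _, Or.inr (by rw [s0, n0]), t, hpar, rfl⟩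
      · exact ⟨2, by decide, _, Or.inl s2.symm, t, hpar, rfl⟩
      · exact ⟨2, by decide, _, Or.inr (by rw [s2, n2]), t, hpar, rfl⟩
  · rintro g ⟨i, hi, r, hr, t, ht, rfl⟩
    have hsingle : ∀ r ∈ [e6p2, e6m2, e6p4, e6m4], ∀ t : K, IsPar sym φ r t →
        orbX sym_test φ r t ∈ Subgroup.closure
          {g : GL chevE6.Idx K | ∃ w ∈ e6Words K q, (g : Matrix _ _ K) = chevE6.wordMat K w} := by
      intro r hr t ht
      obtain ⟨hlt, h1⟩ := fixed_facts r hr
      rw [IsPar, h1, Function.iterate_one, hφ] at ht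
      refine Subgroup.subset_closure ⟨[(r, t)], Or.inl ⟨t, ht, r, hr, rfl⟩, ?_⟩
      rw [hone r t h1, coe_elX hc K hlt]; simp [ChevalleyDatum.wordMat]
    have hpair : ∀ rs ∈ [(e6p1, e6p6), (e6m1, e6m6), (e6p3, e6p5), (e6m3, e6m5)], ∀ t : K,
        orbX sym_test φ rs.1 t ∈ Subgroup.closure
          {g : GL chevE6.Idx K | ∃ w ∈ e6Words K q, (g : Matrix _ _ K) = chevE6.wordMat K w} := by
      intro rs hrs t
      obtain ⟨h1, h2, -⟩ := pair_facts rs hrs
      refine Subgroup.subset_closure ⟨[(rs.1, t), (rs.2, t ^ q)], Or.inr ⟨t, rs, hrs, rfl⟩, ?_⟩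
      rw [htwo rs hrs t, Units.val_mul, coe_elX hc K h1, coe_elX hc K h2]
      simp [ChevalleyDatum.wordMat]
    have hsecond : ∀ rs ∈ [(e6p1, e6p6), (e6m1, e6m6), (e6p3, e6p5), (e6m3, e6m5)], ∀ t : K,
        IsPar sym φ rs.2 t → orbX sym_test φ rs.2 t ∈ Subgroup.closure
          {g : GL chevE6.Idx K | ∃ w ∈ e6Words K q, (g : Matrix _ _ K) = chevE6.wordMat K w} := by
      intro rs hrs t ht
      obtain ⟨-, h2, -, h4, -, h6, -⟩ := pair_facts rs hrs
      have h := orbX_img hc sym_test φ h2 ht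
      rw [h4, h6, Int.cast_one, one_mul] at h
      rw [← h]
      exact hpair rs hrs _
    change i < 6 at hi
    rcases hr with rfl | rfl <;> interval_cases i
    · rw [s0]; exact hpair (e6p1, e6p6) (by simp) t
    · rw [s1] at ht ⊢; exact hsingle _ (by simp) t ht
    · rw [s2]; exact hpair (e6p3, e6p5) (by simp) t
    · rw [s3] at ht ⊢; exact hsingle _ (by simp) t ht
    · rw [s4] at ht ⊢; exact hsecond (e6p3, e6p5) (by simp) t ht
    · rw [s5] at ht ⊢; exact hsecond (e6p1, e6p6) (by simp) t ht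
    · rw [s0, n0]; exact hpair (e6m1, e6m6) (by simp) t
    · rw [s1, n1] at ht ⊢; exact hsingle _ (by simp) t ht
    · rw [s2, n2]; exact hpair (e6m3, e6m5) (by simp) t
    · rw [s3, n3] at ht ⊢; exact hsingle _ (by simp) t ht
    · rw [s4, n4] at ht ⊢; exact hsecond (e6m3, e6m5) (by simp) t ht
    · rw [s5, n5] at ht ⊢; exact hsecond (e6m1, e6m6) (by simp) t ht

end CfsgLib.Twisted.E6
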