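import Cfsg.Agent.Lib.Twisted.BN
import Cfsg.Agent.Lib.Weyl.Rep

/-!
The permutations of the roots given by N, and the map from the monomial part of a twisted group
onto a Coxeter group, faithful on the folded root vectors.
-/

set_option autoImplicit false
set_option linter.unusedSectionVars false

namespace CfsgLib.Twisted

open Cfsg.Lie CfsgLib.Chev CfsgLib.Chevalley

variable {D : ChevalleyDatum} {T : Tabs}

section
variable {K : Type*} [Field K]

/-- `g` carries the root group of `r` to that of `v`. -/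
def IsImg (D : ChevalleyDatum) (g : GL D.Idx K) (r v : ℕ) : Prop :=
  ∃ c : Kˣ, ∀ t, g * elX D K r t * g⁻¹ = elX D K v ((c : K) * t)

variable (hc : Checked D T)
include hc

theorem IsImg.unique {g : GL D.Idx K} {r v v' : ℕ} (hv : v < D.nroots) (hv' : v' < D.nroots)
    (h : IsImg D g r v) (h' : IsImg D g r v') : v = v' := by
  obtain ⟨c, hc1⟩ := h
  obtain ⟨c', hc2⟩ := h'
  exact elX_root_unique hc hv hv' (by simp : (c : K) * 1 ≠ 0) ((hc1 1).symm.trans (hc2 1))

theorem IsImg.mul {g g' : GL D.Idx K} {r v w : ℕ} (h : IsImg D g' r v) (h' : IsImg D g v w) :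
    IsImg D (g * g') r w := by
  obtain ⟨c, hc1⟩ := h
  obtain ⟨c', hc2⟩ := h'
  refine ⟨c' * c, fun t => ?_⟩
  rw [show g * g' * elX D K r t * (g * g')⁻¹ = g * (g' * elX D K r t * g'⁻¹) * g⁻¹ by group, hc1,
    hc2, Units.val_mul, mul_assoc]

theorem isImg_one (r : ℕ) : IsImg D (1 : GL D.Idx K) r r := ⟨1, fun t => by simp⟩

/-- The action of N on the roots. -/
theorem exists_rootPerm : ∃ ρ : ↥(D.monomialSubgroup K) →* Equiv.Perm (Fin D.nroots),
    ∀ (n : ↥(D.monomialSubgroup K)) (r : Fin D.nroots),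
      IsImg D (n : GL D.Idx K) r.1 (ρ n r).1 := by
  have hex : ∀ (n : ↥(D.monomialSubgroup K)) (r : Fin D.nroots),
      ∃ v : Fin D.nroots, IsImg D (n : GL D.Idx K) r.1 v.1 := by
    intro n r
    obtain ⟨v, c, hv, h, -⟩ := monomial_conj_elX hc n.2 r.2
    exact ⟨⟨v, hv⟩, c, h⟩
  choose f hf using hex
  have hmul : ∀ n m r, f (n * m) r = f n (f m r) := fun n m r =>
    Fin.ext (IsImg.unique hc (Fin.isLt _) (Fin.isLt _) (hf (n * m) r)
      ((hf m r).mul hc (hf n (f m r))))
  have hone : ∀ r, f 1 r = r := fun r =>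
    Fin.ext (IsImg.unique hc (Fin.isLt _) r.2 (hf 1 r) (isImg_one hc r.1))
  refine ⟨{ toFun := fun n => ⟨f n, f n⁻¹,
              fun r => by rw [← hmul, inv_mul_cancel, hone],
              fun r => by rw [← hmul, mul_inv_cancel, hone]⟩
            map_one' := Equiv.ext fun r => hone r
            map_mul' := fun n m => Equiv.ext fun r => hmul n m r }, fun n r => hf n r⟩

theorem rootPerm_ker {ρ : ↥(D.monomialSubgroup K) →* Equiv.Perm (Fin D.nroots)}
    (hρ : ∀ (n : ↥(D.monomialSubgroup K)) (r : Fin D.nroots),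
      IsImg D (n : GL D.Idx K) r.1 (ρ n r).1)
    (n : ↥(D.monomialSubgroup K)) :
    ρ n = 1 ↔ (n : GL D.Idx K) ∈ D.diagonalSubgroup K := by
  constructor
  · intro h
    obtain ⟨d, hd, L, hL⟩ := monomial_cases hc n.2
    rw [hL]
    refine mul_mem hd (monomial_fix hc fun r hr => ?_)
    obtain ⟨c, -, hcx⟩ := nProd_conj_elX hc (F := K) L hr
    obtain ⟨e, he⟩ := diagonal_conj_elX hc hd (sigs_lt hc L hr)
    have h1 := hρ n ⟨r, hr⟩
    rw [h, hL] at h1
    exact IsImg.unique hc (sigs_lt hc L hr) hr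
      ((show IsImg D (nProd D K L) r (sigs D T L r) from ⟨c, hcx⟩).mul hc ⟨e, he⟩) h1
  · intro h
    refine Equiv.ext fun r => Fin.ext ?_
    obtain ⟨e, he⟩ := diagonal_conj_elX hc h r.2
    exact IsImg.unique hc (Fin.isLt _) r.2 (hρ n r) ⟨e, he⟩

end

variable (S : TwistSym D) {k : ℕ}

/-- The reflection of an orbit of nodes applied to a root, twice in turn, iterated. -/
def TwistSym.wPow (a b : ℕ) : ℕ → ℕ → ℕ
  | 0, r => r
  | m + 1, r => S.wO a (S.wO b (TwistSym.wPow a b m r))

/-- The folded vector of a root: its coefficients times the rows of the folded Cartan matrix. -/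
noncomputable def foldVec (T : Tabs) (C : List (List ℤ)) (π : List ℕ) (k r : ℕ) : List ℤ :=
  (List.range k).map fun j =>
    ((List.range D.rank).map fun i => wt D T r i * CfsgLib.Weyl.cmat C (π.getD i 0) j).sum

/-- The test for the Weyl group of a twisted group: the orbit reflections of the chosen nodes are
the representing ones, satisfy the Coxeter relations and act on the folded vectors as the
reflection representation, whose matrix is invertible over the integers. -/
noncomputable def TwistSym.weylTest (T : Tabs) (M : CoxeterMatrix (Fin k)) (C C' : List (List ℤ))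
    (π nodes : List ℕ) : Bool :=
  decide (∀ i ∈ S.repNodes, ∃ j : Fin k, nodes.getD j.1 0 = i) &&
  decide (∀ j : Fin k, nodes.getD j.1 0 ∈ S.repNodes) &&
  decide (∀ a b : Fin k, ∀ r : Fin D.nroots,
    S.wPow (nodes.getD a.1 0) (nodes.getD b.1 0) (M a b) r.1 = r.1) &&
  decide (∀ j : Fin k, ∀ r : Fin D.nroots, foldVec (D := D) T C π k (S.wO (nodes.getD j.1 0) r.1) =
    CfsgLib.Weyl.act C k j.1 (foldVec (D := D) T C π k r.1)) &&
  decide (∀ j : Fin k, D.simple (nodes.getD j.1 0) < D.nroots ∧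
    foldVec (D := D) T C π k (D.simple (nodes.getD j.1 0)) =
      (List.range k).map fun l => CfsgLib.Weyl.cmat C j.1 l) &&
  decide (∀ a b : Fin k, ((List.range k).map fun i =>
    CfsgLib.Weyl.cmat C' a.1 i * CfsgLib.Weyl.cmat C i b.1).sum = if a = b then 1 else 0)

variable {S} {H : List ℤ} {K : Type*} [Field K]

/-- The Coxeter group as a group of permutations of the roots, generated by the reflections of the
chosen orbits of nodes; it contains the permutations given by the monomial part. -/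
theorem exists_weyl_rep (hc : Checked D T) (hS : S.test = true) (φ : K ≃+* K)
    (hO : S.orbitTest T = true) (hN : S.nodeTest H = true) (hT : S.bnTest = true)
    {M : CoxeterMatrix (Fin k)} {C C' : List (List ℤ)} {π nodes : List ℕ}
    (hW : S.weylTest T M C C' π nodes = true) (hr : CfsgLib.Weyl.repTest C M = true)
    (hinj : Function.Injective (CfsgLib.Weyl.rep hr)) :
    ∃ ψ : M.Group →* Equiv.Perm (Fin D.nroots), Function.Injective ψ ∧
      (∀ j : Fin k, nodes.getD j.1 0 < D.rank) ∧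
      (∀ (j : Fin k) (r : Fin D.nroots),
        (ψ (M.simple j) r).1 = S.wO (nodes.getD j.1 0) r.1) ∧
      ∀ ρ : ↥(D.monomialSubgroup K) →* Equiv.Perm (Fin D.nroots),
        (∀ (n : ↥(D.monomialSubgroup K)) (r : Fin D.nroots),
          IsImg D (n : GL D.Idx K) r.1 (ρ n r).1) →
        ∀ n : ↥(D.monomialSubgroup K ⊓ twistGrp hS φ),
          ρ (Subgroup.inclusion inf_le_left n) ∈ ψ.range := by
  simp only [TwistSym.weylTest, Bool.and_eq_true, decide_eq_true_eq] at hW
  obtain ⟨⟨⟨⟨⟨hcov, hrep⟩, hrel⟩, hequiv⟩, hrow⟩, hinv⟩ := hW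
  obtain ⟨ρ, hρ⟩ := exists_rootPerm hc (K := K)
  set N₁ := D.monomialSubgroup K ⊓ twistGrp hS φ
  let ρ₁ : ↥N₁ →* Equiv.Perm (Fin D.nroots) :=
    ρ.comp (Subgroup.inclusion (inf_le_left : N₁ ≤ D.monomialSubgroup K))
  have hnode : ∀ j : Fin k, nodes.getD j.1 0 < D.rank := fun j => (mem_repNodes (hrep j)).1
  have hmem : ∀ i < D.rank, nOrb hS φ i ∈ N₁ := fun i hi =>
    ⟨nOrb_mem_monomial hc hS φ hi, nOrb_mem hc hS φ hN hi⟩
  have hact : ∀ (i : ℕ) (hi : i < D.rank) (r : Fin D.nroots),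
      (ρ₁ ⟨_, hmem i hi⟩ r).1 = S.wO i r.1 := by
    intro i hi r
    obtain ⟨hlt, -⟩ := wK_conj hc hS φ (S.olen (D.simple i)) hi r.2 (1 : K)
    obtain ⟨v, c, hv, hcx, -⟩ := monomial_conj_elX hc (nOrb_mem_monomial hc hS φ hi) r.2
    obtain ⟨-, e1, -, h1⟩ := wK_conj hc hS φ (S.olen (D.simple i)) hi r.2 (1 : K)
    have hv' : v = S.wO i r.1 :=
      elX_root_unique hc hv hlt (by simp : (c : K) * 1 ≠ 0) ((hcx 1).symm.trans h1)
    refine IsImg.unique hc (Fin.isLt _) hlt (hρ _ r) ⟨c, fun t => ?_⟩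
    rw [← hv']
    exact hcx t
  let gen : Fin k → Equiv.Perm (Fin D.nroots) := fun j => ρ₁ ⟨_, hmem _ (hnode j)⟩
  have hlift : M.IsLiftable gen := by
    intro a b
    refine Equiv.ext fun r => Fin.ext ?_
    have key : ∀ m : ℕ, (((gen a * gen b) ^ m) r).1 =
        S.wPow (nodes.getD a.1 0) (nodes.getD b.1 0) m r.1 := by
      intro m
      induction m with
      | zero => rfl
      | succ m ih =>
        rw [pow_succ', Equiv.Perm.mul_apply, Equiv.Perm.mul_apply]
        show (ρ₁ ⟨_, hmem _ (hnode a)⟩ (ρ₁ ⟨_, hmem _ (hnode b)⟩ _)).1 = _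
        rw [hact _ (hnode a), hact _ (hnode b), ih]
        rfl
    rw [key]
    exact hrel a b r
  let ψ : M.Group →* Equiv.Perm (Fin D.nroots) := M.toCoxeterSystem.lift ⟨gen, hlift⟩
  have hψs : ∀ j, ψ (M.simple j) = gen j := fun j => M.toCoxeterSystem.lift_apply_simple hlift j
  let vec : Fin D.nroots → (Fin k → ℤ) := fun r j => (foldVec (D := D) T C π k r.1).getD j.1 0
  have hlen : ∀ r : ℕ, (foldVec (D := D) T C π k r).length = k := fun r => by simp [foldVec]
  have hofFn : ∀ r : Fin D.nroots, List.ofFn (vec r) = foldVec (D := D) T C π k r.1 := by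
    intro r
    apply List.ext_getElem
    · simp [hlen]
    · intro a h1 h2
      simp [vec, List.getD_eq_getElem?_getD, List.getElem?_eq_getElem h2]
  have hequ : ∀ (w : M.Group) (r : Fin D.nroots),
      (CfsgLib.Weyl.rep hr w).1 (vec r) = vec (ψ w r) := by
    intro w
    induction w using M.toCoxeterSystem.simple_induction_left with
    | one => intro r; simp
    | mul_simple_left w j ih =>
      intro r
      rw [map_mul, map_mul, Units.val_mul, Module.End.mul_apply, ih, Equiv.Perm.mul_apply]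
      show (CfsgLib.Weyl.rep hr (M.simple j)).1 _ = vec ((ψ (M.simple j)) _)
      rw [CfsgLib.Weyl.rep_simple, hψs]
      apply List.ofFn_injective
      rw [CfsgLib.Weyl.ofFn_refl, hofFn, hofFn]
      show CfsgLib.Weyl.act C k j.1 _ = foldVec (D := D) T C π k (ρ₁ ⟨_, hmem _ (hnode j)⟩ _).1
      rw [hact _ (hnode j), hequiv]
  have hψ : Function.Injective ψ := by
    rw [injective_iff_map_eq_one]
    intro w hw
    apply hinj
    rw [map_one]
    refine Units.ext ((Pi.basisFun ℤ (Fin k)).ext fun a => ?_)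
    rw [Pi.basisFun_apply, Units.val_one, Module.End.one_apply]
    have hrows : ∀ j : Fin k, (CfsgLib.Weyl.rep hr w).1 (fun l => CfsgLib.Weyl.cmat C j.1 l.1) =
        fun l => CfsgLib.Weyl.cmat C j.1 l.1 := by
      intro j
      obtain ⟨hlt, hv⟩ := hrow j
      have hvec : vec ⟨_, hlt⟩ = fun l => CfsgLib.Weyl.cmat C j.1 l.1 := by
        funext l
        show (foldVec (D := D) T C π k (D.simple (nodes.getD j.1 0))).getD l.1 0 = _
        rw [hv]
        simp [List.getD_eq_getElem?_getD]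
      rw [← hvec, hequ, hw, Equiv.Perm.one_apply]
    have hcomb : (Pi.single a (1 : ℤ) : Fin k → ℤ) =
        ∑ i : Fin k, CfsgLib.Weyl.cmat C' a.1 i.1 • fun l : Fin k => CfsgLib.Weyl.cmat C i.1 l.1 := by
      funext l
      rw [Finset.sum_apply]
      simp only [Pi.smul_apply, smul_eq_mul]
      have := hinv a l
      rw [← List.sum_toFinset _ List.nodup_range, List.toFinset_range, Finset.sum_range] at this
      rw [this, Pi.single_apply]
      exact if_congr eq_comm rfl rfl
    rw [hcomb, map_sum]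
    exact Finset.sum_congr rfl fun i _ => by rw [map_smul, hrows]
  have hgen_eq : N₁ = Subgroup.closure (nOrb hS φ '' {i | i ∈ S.repNodes}) ⊔
      (D.diagonalSubgroup K ⊓ twistGrp hS φ) :=
    twistN_eq hc hS φ hO hN hT (twistGrp_le_fixed hc hS φ) fun i hi => nOrb_mem hc hS φ hN hi
  refine ⟨ψ, hψ, hnode, fun j r => by rw [hψs]; exact hact _ (hnode j) r, ?_⟩
  intro ρ' hρ' n
  have hρρ : ∀ m, ρ' m = ρ m := fun m => Equiv.ext fun r => Fin.ext
    (IsImg.unique hc (Fin.isLt _) (Fin.isLt _) (hρ' m r) (hρ m r))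
  rw [hρρ]
  change ρ₁ n ∈ ψ.range
  revert n
  · rintro ⟨n, hn⟩
    have hle : Subgroup.closure (nOrb hS φ '' {i | i ∈ S.repNodes}) ⊔
        (D.diagonalSubgroup K ⊓ twistGrp hS φ) ≤ ((ψ.range).comap ρ₁).map N₁.subtype := by
      refine sup_le ((Subgroup.closure_le _).2 ?_) ?_
      · rintro _ ⟨i, hi, rfl⟩
        obtain ⟨j, rfl⟩ := hcov i hi
        exact ⟨⟨_, hmem _ (hnode j)⟩, ⟨M.simple j, hψs j⟩, rfl⟩
      · intro x hx
        refine ⟨⟨x, diagonal_le_monomial hc hx.1, hx.2⟩, ⟨1, ?_⟩, rfl⟩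
        rw [map_one]
        exact ((rootPerm_ker hc hρ _).2 hx.1).symm
    obtain ⟨m, hm, e⟩ := hle (hgen_eq.le hn)
    rwa [show (⟨n, hn⟩ : ↥N₁) = m from Subtype.ext e.symm]

/-- The Coxeter group onto which the monomial part of a twisted group maps. -/
theorem exists_weyl_map (hc : Checked D T) (hS : S.test = true) (φ : K ≃+* K)
    (hO : S.orbitTest T = true) (hN : S.nodeTest H = true) (hT : S.bnTest = true)
    {M : CoxeterMatrix (Fin k)} {C C' : List (List ℤ)} {π nodes : List ℕ}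
    (hW : S.weylTest T M C C' π nodes = true) (hr : CfsgLib.Weyl.repTest C M = true)
    (hinj : Function.Injective (CfsgLib.Weyl.rep hr)) :
    ∃ Φ : ↥(D.monomialSubgroup K ⊓ twistGrp hS φ) →* M.Group, Function.Surjective Φ ∧
      Φ.ker = (D.diagonalSubgroup K ⊓ twistGrp hS φ).subgroupOf
        (D.monomialSubgroup K ⊓ twistGrp hS φ) := by
  obtain ⟨ψ, hψ, hnode, hψs, hrange'⟩ := exists_weyl_rep hc hS φ hO hN hT hW hr hinj
  obtain ⟨ρ, hρ⟩ := exists_rootPerm hc (K := K)
  set N₁ := D.monomialSubgroup K ⊓ twistGrp hS φ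
  let ρ₁ : ↥N₁ →* Equiv.Perm (Fin D.nroots) :=
    ρ.comp (Subgroup.inclusion (inf_le_left : N₁ ≤ D.monomialSubgroup K))
  have hrange : ∀ n : ↥N₁, ρ₁ n ∈ ψ.range := fun n => hrange' ρ hρ n
  have hmem : ∀ i < D.rank, nOrb hS φ i ∈ N₁ := fun i hi =>
    ⟨nOrb_mem_monomial hc hS φ hi, nOrb_mem hc hS φ hN hi⟩
  let Φ : ↥N₁ →* M.Group :=
    (MonoidHom.ofInjective hψ).symm.toMonoidHom.comp (ρ₁.codRestrict ψ.range hrange)
  have hΦ : ∀ n, ψ (Φ n) = ρ₁ n := by
    intro n
    have := (MonoidHom.ofInjective hψ).apply_symm_apply ⟨ρ₁ n, hrange n⟩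
    exact congrArg Subtype.val this
  refine ⟨Φ, fun w => ?_, ?_⟩
  · induction w using M.toCoxeterSystem.simple_induction_left with
    | one => exact ⟨1, map_one _⟩
    | mul_simple_left w j ih =>
      obtain ⟨n, hn⟩ := ih
      refine ⟨⟨_, hmem _ (hnode j)⟩ * n, ?_⟩
      rw [map_mul, hn]
      congr 1
      apply hψ
      rw [hΦ]
      refine Equiv.ext fun r => Fin.ext (Eq.trans ?_ (hψs j r).symm)
      obtain ⟨hlt, e1, -, h1⟩ :=
        wK_conj hc hS φ (S.olen (D.simple (nodes.getD j.1 0))) (hnode j) r.2 (1 : K)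
      obtain ⟨v, c, hv, hcx, -⟩ :=
        monomial_conj_elX hc (nOrb_mem_monomial hc hS φ (hnode j)) r.2
      have hv' : v = S.wO (nodes.getD j.1 0) r.1 :=
        elX_root_unique hc hv hlt (by simp : (c : K) * 1 ≠ 0) ((hcx 1).symm.trans h1)
      refine IsImg.unique hc (Fin.isLt _) hlt (hρ _ r) ⟨c, fun t => ?_⟩
      rw [← hv']
      exact hcx t
  · ext n
    rw [MonoidHom.mem_ker, Subgroup.mem_subgroupOf]
    constructor
    · intro h
      have := hΦ n
      rw [h, map_one] at this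
      exact ⟨(rootPerm_ker hc hρ _).1 this.symm, n.2.2⟩
    · intro h
      apply hψ
      rw [map_one, hΦ]
      exact (rootPerm_ker hc hρ _).2 h.1

end CfsgLib.Twisted
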