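import Cfsg.Agent.Lib.Twisted.Torus
import Cfsg.Agent.Lib.Chev.Torus

/-!
Relations in the kernel of the parametrisation of the diagonal subgroup, and corrections of
parameters of fixed diagonal elements to fixed parameters.
-/

set_option autoImplicit false
set_option linter.unusedSectionVars false

namespace CfsgLib.Twisted

open Cfsg.Lie CfsgLib.Chev CfsgLib.Chevalley

variable {D : ChevalleyDatum} {T : Tabs} {S : TwistSym D} {K : Type*} [Field K]

theorem hPar_prod_zpow (c : Fin D.rank → Kˣ) (w : Fin D.rank → ℤ) :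
    ∏ j, hPar D K c j ^ w j = ∏ i, c i ^ ∑ j, cm D i j * w j := by
  show ∏ j, (∏ i, c i ^ cm D i j) ^ w j = _
  simp only [← Finset.prod_zpow, ← zpow_mul]
  rw [Finset.prod_comm]
  exact Finset.prod_congr rfl fun i _ => prod_zpow_sum (c i) _ _

/-- A multiple of the inverse Cartan matrix bounds the order of the kernel elements. -/
theorem ker_pow_eq_one {d : ℕ} (B : Fin D.rank → Fin D.rank → ℤ)
    (hB : ∀ i k, ∑ j, cm D i j * B j k = if i = k then (d : ℤ) else 0)
    {c : Fin D.rank → Kˣ} (h : hPar D K c = 1) : c ^ d = 1 := by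
  funext k
  have e := hPar_prod_zpow (D := D) c fun j => B j k
  rw [h] at e
  simp only [hB, Pi.one_apply, one_zpow, Finset.prod_const_one] at e
  rw [Finset.prod_eq_single k (fun i _ hi => by rw [if_neg hi, zpow_zero]) (by simp), if_pos rfl,
    zpow_natCast] at e
  exact e.symm

/-- Kernel elements as powers of one entry. -/
theorem ker_eq_zpow (p : Fin D.rank) (V : Fin D.rank → ℤ) (A : Fin D.rank → Fin D.rank → ℤ)
    (hA : ∀ i k, ∑ j, cm D i j * A j k = (if i = k then 1 else 0) - if p = i then V k else 0)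
    {c : Fin D.rank → Kˣ} (h : hPar D K c = 1) (k : Fin D.rank) : c k = c p ^ V k := by
  have e := hPar_prod_zpow (D := D) c fun j => A j k
  rw [h] at e
  simp only [hA, Pi.one_apply, one_zpow, Finset.prod_const_one, zpow_sub, Finset.prod_mul_distrib,
    Finset.prod_inv_distrib] at e
  rw [Finset.prod_eq_single k (fun i _ hi => by rw [if_neg hi, zpow_zero]) (by simp), if_pos rfl,
    zpow_one, eq_comm, mul_inv_eq_one] at e
  rw [e, Finset.prod_eq_single p (fun i _ hi => by rw [if_neg (Ne.symm hi), zpow_zero]) (by simp),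
    if_pos rfl]

variable (hc : Checked D T) (hS : S.test = true) (φ : K ≃+* K)
include hc

theorem tauPar_ker {c : Fin D.rank → Kˣ} (h : hPar D K c = 1) :
    hPar D K (tauPar hS φ c) = 1 := by
  refine torus_injective hc (((twistSigma_torus hc hS φ c).symm.trans ?_).trans (map_one _).symm)
  rw [h, map_one, map_one]

/-- Order two symmetries, kernel of exponent three. -/
theorem exists_ker_two (hinv : ∀ c, tauPar hS φ (tauPar hS φ c) = c)
    (h3 : ∀ {c : Fin D.rank → Kˣ}, hPar D K c = 1 → c ^ 3 = 1) (c : Fin D.rank → Kˣ)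
    (h : hPar D K (tauPar hS φ c) = hPar D K c) :
    ∃ w, hPar D K w = 1 ∧ tauPar hS φ (c * w) = c * w := by
  set z := tauPar hS φ c * c⁻¹ with hz
  have hzk : hPar D K z = 1 := by rw [hz, map_mul, map_inv, h, mul_inv_cancel]
  have ht : tauPar hS φ c = z * c := by rw [hz, inv_mul_cancel_right]
  have htz : tauPar hS φ z = z⁻¹ := by
    rw [hz, map_mul, map_inv, hinv, mul_inv_rev, inv_inv]
  have hzi : z⁻¹ = z * z := inv_eq_of_mul_eq_one_right (by
    have := h3 hzk
    rwa [pow_succ', sq] at this)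
  refine ⟨z * z, by rw [map_mul, hzk, one_mul], ?_⟩
  rw [map_mul, map_mul, htz, ht, mul_comm z c, mul_assoc, mul_inv_cancel_left, hzi]

/-- Order three symmetries, kernel of exponent two. -/
theorem exists_ker_three (hinv : ∀ c, tauPar hS φ (tauPar hS φ (tauPar hS φ c)) = c)
    (h2 : ∀ {c : Fin D.rank → Kˣ}, hPar D K c = 1 → c ^ 2 = 1) (c : Fin D.rank → Kˣ)
    (h : hPar D K (tauPar hS φ c) = hPar D K c) :
    ∃ w, hPar D K w = 1 ∧ tauPar hS φ (c * w) = c * w := by
  set τ := tauPar hS φ
  set z := τ c * c⁻¹ with hz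
  have hzk : hPar D K z = 1 := by rw [hz, map_mul, map_inv, h, mul_inv_cancel]
  have hwk := tauPar_ker hc hS φ hzk
  have hwk' := tauPar_ker hc hS φ hwk
  have ht : τ c = z * c := by rw [hz, inv_mul_cancel_right]
  have hzz : z * z = 1 := (sq z).symm.trans (h2 hzk)
  have hprod : τ (τ z) * (τ z * z) = 1 := by
    rw [hz]
    simp only [map_mul, map_inv]
    rw [show τ (τ (τ c)) = c from hinv c]
    group
  have hw2 : τ z * τ z = 1 := (sq _).symm.trans (h2 hwk)
  have hww : τ (τ z) = τ z * z := by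
    rw [eq_inv_of_mul_eq_one_left hprod, mul_inv_rev, inv_eq_of_mul_eq_one_right hzz,
      inv_eq_of_mul_eq_one_right hw2, mul_comm]
  refine ⟨τ z, hwk, ?_⟩
  rw [map_mul τ, hww, ht, mul_mul_mul_comm, mul_comm z (τ z), mul_mul_mul_comm, hzz, mul_one,
    mul_comm]

end CfsgLib.Twisted
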