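import Cfsg.Agent.Lib.Twisted.D4BN
import Cfsg.Agent.Lib.Twisted.Weyl
import Cfsg.Agent.Lib.Weyl.G2

/-!
The Weyl group of the twisted group of type D4.
-/

set_option autoImplicit false

namespace CfsgLib.Twisted.D4

open Cfsg.Lie CfsgLib.Chev CfsgLib.Chevalley

theorem sym_weylTest : sym.weylTest tb CoxeterMatrix.G₂ CfsgLib.Weyl.G2.cartan
    [[2, 1], [3, 2]] [0, 1, 0, 0] [3, 1] =
      true := by decide +kernel

variable {K : Type*} [Field K] [Fintype K] {q : ℕ}

theorem weyl_group (hq : IsPrimePow q) (hK : Fintype.card K = q ^ 3) :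
    ∃ φ : ↥(chevD4.monomialSubgroup K ⊓ twistedD4 K q) →* (CoxeterMatrix.G₂).Group,
      Function.Surjective φ ∧ φ.ker = (chevD4.diagonalSubgroup K ⊓ twistedD4 K q).subgroupOf
        (chevD4.monomialSubgroup K ⊓ twistedD4 K q) := by
  obtain ⟨φ, hφ⟩ := exists_frob hq three_ne_zero hK
  rw [twistedD4_eq hK φ hφ]
  exact exists_weyl_map CfsgLib.Chev.D4.checked sym_test φ orbit_ok sym_nodeTest sym_bnTest
    sym_weylTest _ CfsgLib.Weyl.G2.card_and_faithful.2.2

end CfsgLib.Twisted.D4
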