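import Cfsg.Agent.Lib.Twisted.WeylCount
import Cfsg.Agent.Lib.Twisted.D4Weyl
import Cfsg.Agent.Lib.Twisted.D4Torus

/-!
The order of the twisted group of type D4.
-/

set_option autoImplicit false

namespace CfsgLib.Twisted.D4

open Cfsg.Lie CfsgLib.Chev CfsgLib.Chevalley

theorem table1_sum : sym.sumTest [3, 1] CfsgLib.Weyl.G2.table1 [] [1, 0, 0, 1] = true := by
  decide +kernel

theorem table2_sum : sym.sumTest [3, 1] CfsgLib.Weyl.G2.table2 [0]
    [1, 1, 0, 0, 1, 1, 0, 0, 1, 1] = true := by decide +kernel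

variable {K : Type*} [Field K] [Fintype K] {q : ℕ}

theorem card_group_twisted (hq : IsPrimePow q) (hK : Fintype.card K = q ^ 3) :
    Nat.card ↥(twistedD4 K q) =
      q ^ 12 * (q ^ 2 - 1) * (q ^ 6 - 1) * (q ^ 8 + q ^ 4 + 1) := by
  obtain ⟨φ, hφ⟩ := exists_frob hq three_ne_zero hK
  haveI := CfsgLib.Weyl.G2.card_and_faithful.1
  haveI := Fintype.ofFinite CoxeterMatrix.G₂.Group
  have hc := CfsgLib.Chev.D4.checked
  have hinj := CfsgLib.Weyl.G2.card_and_faithful.2.2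
  have hq1 : 1 ≤ q := hq.one_lt.le
  obtain ⟨ψ, nd, hnd, hψ, hcard⟩ := exists_card_twistGrp hc comm_one sym_test orbit_ok φ
    (Nat.lt_of_lt_of_le Nat.zero_lt_one hq1) (card_par hq hK φ hφ) sym_nodeTest sym_bnTest
    sym_weylTest _ hinj
  have s1 := parSum_step hc sym_test hnd hψ _ hinj CfsgLib.Weyl.G2.table1_cosetTest
    CfsgLib.Weyl.G2.table1_vecTest table1_sum q
  have s2 := parSum_step hc sym_test hnd hψ _ hinj CfsgLib.Weyl.G2.table2_cosetTest
    CfsgLib.Weyl.G2.table2_vecTest table2_sum q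
  have hH := card_diagonal_twisted (K := K) hq hK
  rw [twistedD4_eq hK φ hφ] at hH ⊢
  rw [hcard _ (show ∀ j : Fin 2, j ∈ ([0, 1] : List (Fin 2)) by decide), hH, sum_olen, s2, s1,
    parSum_nil, mul_one]
  simp only [polyEval]
  zify [hq1, Nat.one_le_pow 2 q hq1, Nat.one_le_pow 6 q hq1]
  ring

end CfsgLib.Twisted.D4
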