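import Cfsg.Agent.Lib.ChevIsog.Auto
import Cfsg.Agent.Lib.Chev.Bruhat
import Cfsg.Prelude.Def_LieTwisted

/-!
The automorphism σ of F4(K), |K| = 2^(2m+1), which defines the large Ree group: an odd power of the
exceptional isogeny. It is an involution and sends `x_r(t)` to `x_{ρ r}(φ_r t)`.
-/

set_option autoImplicit false
set_option linter.unusedSectionVars false

namespace CfsgLib.ReeF4

open Cfsg.Lie CfsgLib.Chev CfsgLib.ChevIsog
open CfsgLib.ChevGraph (gX coe_gX)

/-- The checked tables of F4. -/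
abbrev tb : Tabs := CfsgLib.Chev.F4.tabs

theorem hc : Checked chevF4 tb := f4_tabs.1

theorem hcomm : CommOne chevF4 tb := f4_tabs.2

/-- The permutation of the roots exchanging short and long ones. -/
def rho (r : ℕ) : ℕ := bC f4Data r

/-- The exponent attached to a root: 2 if short, 1 if long. -/
def rexp (r : ℕ) : ℕ := expo f4Data r

theorem rho_facts : ∀ r : Fin 48, rho r < 48 ∧ rho (rho r) = r ∧ rexp r * rexp (rho r) = 2 ∧
    (24 ≤ rho r ↔ 24 ≤ (r : ℕ)) ∧ rho (chevF4.neg r) = chevF4.neg (rho r) := by decide +kernel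

theorem rexp_sig : ∀ i : Fin chevF4.rank, ∀ r : Fin 48,
    rexp (chevF4.reflectRoot i.val r) = rexp r := by decide +kernel

theorem rho_lt {r : ℕ} (hr : r < 48) : rho r < 48 := (rho_facts ⟨r, hr⟩).1
theorem rho_rho {r : ℕ} (hr : r < 48) : rho (rho r) = r := (rho_facts ⟨r, hr⟩).2.1
theorem rexp_mul {r : ℕ} (hr : r < 48) : rexp r * rexp (rho r) = 2 := (rho_facts ⟨r, hr⟩).2.2.1
theorem rho_pos {r : ℕ} (hr : r < 48) : 24 ≤ rho r ↔ 24 ≤ r := (rho_facts ⟨r, hr⟩).2.2.2.1
theorem rho_neg {r : ℕ} (hr : r < 48) : rho (chevF4.neg r) = chevF4.neg (rho r) :=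
  (rho_facts ⟨r, hr⟩).2.2.2.2

variable {K : Type*} [Field K]

/-- The action on parameters. -/
def phi (m r : ℕ) (t : K) : K := t ^ (rexp r * 2 ^ m)

/-- σ is the twisting automorphism of F4(K) for `|K| = 2 ^ (2 * m + 1)`. -/
structure IsSigma [Fintype K] (m : ℕ) (σ : MulAut ↥(chevF4.group K)) : Prop where
  card : Fintype.card K = 2 ^ (2 * m + 1)
  char2 : (2 : K) = 0
  act : ∀ r (hr : r < chevF4.nroots) (t : K),
    σ (gX hc hr t) = gX hc (show rho r < chevF4.nroots from rho_lt hr) (phi m r t)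

theorem charP_two [Fintype K] {n : ℕ} (hK : Fintype.card K = 2 ^ n) : CharP K 2 := by
  obtain ⟨p, hp⟩ := CharP.exists K
  obtain ⟨k, hk1, hk2⟩ := FiniteField.card K p
  have hd : p ∣ 2 ^ n := by
    rw [← hK, hk2]; exact dvd_pow_self p k.ne_zero
  rw [← (Nat.prime_dvd_prime_iff_eq hk1 Nat.prime_two).1 (hk1.dvd_of_dvd_pow hd)]
  exact hp

theorem eta_one (h2 : (2 : K) = 0) (i : Fin chevF4.rank) {s : ℕ} (hs : s < chevF4.nroots) :
    ((eta chevF4 tb i s : ℤ) : K) = 1 := by
  rcases eta_cast hc (F := K) i hs with e | e <;> rw [e]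
  linear_combination -h2

theorem isogeny_exact [CharP K f4Data.p] (h2 : (2 : K) = 0) {α : MulAut ↥(chevF4.group K)}
    (hα : ∀ r (hr : GenRoot chevF4 r) (t : K),
      α (gX hc (hr.lt hc) t) = gX hc ((bC_gen f4_ok hr).lt hc) (t ^ expo f4Data r))
    {r : ℕ} (hr : r < chevF4.nroots) (t : K) :
    α (gX hc hr t) = gX hc (show rho r < chevF4.nroots from rho_lt hr) (t ^ rexp r) := by
  refine root_induction hc (P := fun r => ∀ (hr : r < chevF4.nroots) (t : K),
      α (gX hc hr t) = gX hc (show rho r < chevF4.nroots from rho_lt hr) (t ^ rexp r))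
    (fun i h t => hα _ ⟨i, Or.inl rfl⟩ t) (fun i s hs hP h t => ?_) hr hr t
  have hn := map_elN hc f4_ok f4_root hα i
  set n : ↥(chevF4.group K) := ⟨_, elN_mem_group hc (simple_lt hc i.2) 1⟩
  have e : gX hc h t = n * gX hc hs t * n⁻¹ := Subtype.ext (by
    show elX chevF4 K (sig chevF4 tb i s) t = elN chevF4 K (chevF4.simple i.val) 1 *
      elX chevF4 K s t * (elN chevF4 K (chevF4.simple i.val) 1)⁻¹
    rw [nOne_conj_elX hc i hs, eta_one h2 i hs, one_mul])
  have hs' : rho s < chevF4.nroots := rho_lt hs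
  rw [e, map_mul, map_mul, map_inv, hP hs t]
  refine Subtype.ext ?_
  show (α n : GL chevF4.Idx K) * elX chevF4 K (rho s) _ * (α n : GL chevF4.Idx K)⁻¹ =
    elX chevF4 K (rho (sig chevF4 tb i s)) _
  rw [hn, nOne_conj_elX hc (f4Perm i) hs', eta_one h2 _ hs', one_mul, ← reflectRoot_eq hc _ hs',
    ← reflectRoot_eq hc i hs, show rho s = bC f4Data s from rfl, ← f4_root.refl i s hs,
    rexp_sig i ⟨s, hs⟩]
  rfl

theorem exists_sigma [Fintype K] {m : ℕ} (hK : Fintype.card K = 2 ^ (2 * m + 1)) :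
    ∃ σ : MulAut ↥(chevF4.group K), IsSigma m σ := by
  have : CharP K f4Data.p := charP_two hK
  have h2 : (2 : K) = 0 := by
    have := CharP.cast_eq_zero K f4Data.p
    rw [show f4Data.p = 2 from rfl] at this
    exact_mod_cast this
  haveI : Fact f4Data.p.Prime := ⟨Nat.prime_two⟩
  obtain ⟨α, hα⟩ := exists_isogeny hc hcomm f4_ok (perfect_of_finite K f4Data.p)
  have key : ∀ k r (hr : r < chevF4.nroots) (t : K),
      (α ^ (2 * k + 1)) (gX hc hr t) =
        gX hc (show rho r < chevF4.nroots from rho_lt hr) (t ^ (rexp r * 2 ^ k)) := by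
    intro k
    induction k with
    | zero => intro r hr t; simpa using isogeny_exact h2 hα hr t
    | succ k ih =>
      intro r hr t
      have h1 : rho r < chevF4.nroots := rho_lt hr
      rw [show 2 * (k + 1) + 1 = 2 * k + 1 + 2 by ring, pow_add, pow_two,
        MulAut.mul_apply, MulAut.mul_apply, isogeny_exact h2 hα hr,
        isogeny_exact h2 hα h1, ih]
      apply Subtype.ext
      show elX chevF4 K _ _ = elX chevF4 K _ _
      congr 1
      · rw [rho_rho hr]
      · rw [← pow_mul, ← pow_mul, rho_rho hr, ← mul_assoc (rexp (rho r)), mul_comm (rexp (rho r)), rexp_mul hr, pow_succ]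
        congr 1; ring
  exact ⟨α ^ (2 * m + 1), hK, h2, fun r hr t => key m r hr t⟩

section
variable [Fintype K] {m : ℕ} {σ : MulAut ↥(chevF4.group K)} (hσ : IsSigma m σ)
include hσ

theorem pow_cycle (t : K) : t ^ (2 * 2 ^ m * 2 ^ m) = t := by
  rw [show 2 * 2 ^ m * 2 ^ m = Fintype.card K by rw [hσ.card]; ring]
  exact FiniteField.pow_card t

theorem phi_phi {r : ℕ} (hr : r < 48) (t : K) : phi m (rho r) (phi m r t) = t := by
  rw [phi, phi, ← pow_mul, show rexp r * 2 ^ m * (rexp (rho r) * 2 ^ m)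
    = rexp r * rexp (rho r) * 2 ^ m * 2 ^ m by ring, rexp_mul hr]
  exact pow_cycle hσ t

theorem phi_inj {r : ℕ} (hr : r < 48) : Function.Injective (phi (K := K) m r) :=
  Function.LeftInverse.injective (g := phi m (rho r)) (phi_phi hσ hr)

theorem phi_eq_iff {r : ℕ} (hr : r < 48) {t u : K} : phi m r t = u ↔ t = phi m (rho r) u := by
  constructor
  · rintro rfl; exact (phi_phi hσ hr t).symm
  · rintro rfl
    have := phi_phi hσ (rho_lt hr) u
    rwa [rho_rho hr] at this

theorem sigma_sigma (x : ↥(chevF4.group K)) : σ (σ x) = x := by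
  have h : (σ * σ).toMonoidHom = MonoidHom.id _ := by
    refine MonoidHom.eq_of_eqOn_dense (s := {g | ∃ r, ∃ hr : r < chevF4.nroots, ∃ t, g = gX hc hr t}) ?_ ?_
    · exact eq_top_of_gens hc fun r hr t => Subgroup.subset_closure ⟨r, hr.lt hc, t, rfl⟩
    · rintro g ⟨r, hr, t, rfl⟩
      show σ (σ (gX hc hr t)) = gX hc hr t
      rw [hσ.act, hσ.act]
      apply Subtype.ext
      show elX chevF4 K _ _ = elX chevF4 K _ _
      rw [rho_rho hr, phi_phi hσ hr]
  exact DFunLike.congr_fun h x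

end

/-- The image of a group element under σ, inside GL. -/
noncomputable def simg (σ : MulAut ↥(chevF4.group K)) (g : GL chevF4.Idx K) : GL chevF4.Idx K :=
  open Classical in if h : g ∈ chevF4.group K then (σ ⟨g, h⟩ : GL chevF4.Idx K) else 1

/-- The group fixed by σ. -/
def fixF (σ : MulAut ↥(chevF4.group K)) : Subgroup (GL chevF4.Idx K) where
  carrier := {g | ∃ h : g ∈ chevF4.group K, (σ ⟨g, h⟩ : GL chevF4.Idx K) = g}
  one_mem' := ⟨one_mem _, by
    show (σ (1 : ↥(chevF4.group K)) : GL chevF4.Idx K) = 1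
    rw [map_one]; rfl⟩
  mul_mem' := by
    rintro a b ⟨ha, ea⟩ ⟨hb, eb⟩
    refine ⟨mul_mem ha hb, ?_⟩
    show (σ (⟨a, ha⟩ * ⟨b, hb⟩ : ↥(chevF4.group K)) : GL chevF4.Idx K) = a * b
    rw [map_mul, Subgroup.coe_mul, ea, eb]
  inv_mem' := by
    rintro a ⟨ha, ea⟩
    refine ⟨inv_mem ha, ?_⟩
    show (σ (⟨a, ha⟩⁻¹ : ↥(chevF4.group K)) : GL chevF4.Idx K) = a⁻¹
    rw [map_inv, Subgroup.coe_inv, ea]

section
variable {σ : MulAut ↥(chevF4.group K)}

theorem simg_of_mem {g : GL chevF4.Idx K} (h : g ∈ chevF4.group K) :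
    simg σ g = (σ ⟨g, h⟩ : GL chevF4.Idx K) := dif_pos h

theorem simg_mem {g : GL chevF4.Idx K} (h : g ∈ chevF4.group K) :
    simg σ g ∈ chevF4.group K := by rw [simg_of_mem h]; exact SetLike.coe_mem _

theorem simg_mul {a b : GL chevF4.Idx K} (ha : a ∈ chevF4.group K) (hb : b ∈ chevF4.group K) :
    simg σ (a * b) = simg σ a * simg σ b := by
  rw [simg_of_mem ha, simg_of_mem hb, simg_of_mem (mul_mem ha hb), ← Subgroup.coe_mul, ← map_mul]
  rfl

theorem simg_inv {a : GL chevF4.Idx K} (ha : a ∈ chevF4.group K) :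
    simg σ a⁻¹ = (simg σ a)⁻¹ := by
  rw [simg_of_mem ha, simg_of_mem (inv_mem ha), ← Subgroup.coe_inv, ← map_inv]
  rfl

theorem simg_one : simg σ (1 : GL chevF4.Idx K) = 1 := by
  rw [simg_of_mem (one_mem _)]
  show (σ (1 : ↥(chevF4.group K)) : GL chevF4.Idx K) = 1
  rw [map_one]; rfl

theorem mem_fixF {g : GL chevF4.Idx K} : g ∈ fixF σ ↔ g ∈ chevF4.group K ∧ simg σ g = g :=
  ⟨fun ⟨h, e⟩ => ⟨h, by rw [simg_of_mem h, e]⟩, fun ⟨h, e⟩ => ⟨h, by rwa [simg_of_mem h] at e⟩⟩

theorem fixF_le_group : fixF σ ≤ chevF4.group K := fun _ h => (mem_fixF.1 h).1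

variable [Fintype K] {m : ℕ} (hσ : IsSigma m σ)
include hσ

theorem simg_elX {r : ℕ} (hr : r < chevF4.nroots) (t : K) :
    simg σ (elX chevF4 K r t) = elX chevF4 K (rho r) (phi m r t) := by
  rw [simg_of_mem (elX_mem_group hc hr t)]
  exact congrArg Subtype.val (hσ.act r hr t)

theorem simg_elN {r : ℕ} (hr : r < chevF4.nroots) (t : K) :
    simg σ (elN chevF4 K r t) = elN chevF4 K (rho r) (phi m r t) := by
  have hn := neg_lt hc hr
  have e : phi m (chevF4.neg r) (-t⁻¹) = -(phi m r t)⁻¹ := by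
    have hneg : ∀ x : K, -x = x := fun x => by linear_combination (-x) * hσ.char2
    rw [hneg, hneg, phi, phi, inv_pow]
    congr 2
    rw [show rexp (chevF4.neg r) = rexp r from
      (by decide +kernel : ∀ r : Fin 48, rexp (chevF4.neg r) = rexp r) ⟨r, hr⟩]
  unfold elN
  rw [simg_mul (mul_mem (elX_mem_group hc hr t) (elX_mem_group hc hn _)) (elX_mem_group hc hr t),
    simg_mul (elX_mem_group hc hr t) (elX_mem_group hc hn _), simg_elX hσ hr, simg_elX hσ hn,
    rho_neg hr, e]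

theorem simg_mem_uGen {P Q : ℕ → Prop} (h : ∀ r < 48, P r → Q (rho r)) {g : GL chevF4.Idx K}
    (hg : g ∈ uGen chevF4 K P) : simg σ g ∈ uGen chevF4 K Q := by
  have key : ∀ g ∈ uGen chevF4 K P, g ∈ chevF4.group K ∧ simg σ g ∈ uGen chevF4 K Q := by
    intro g hg
    induction hg using Subgroup.closure_induction with
    | mem x hx =>
      obtain ⟨r, t, hr, hP, rfl⟩ := hx
      rw [simg_elX hσ hr]
      exact ⟨elX_mem_group hc hr t, elX_mem_uGen (show rho r < chevF4.nroots from rho_lt hr) (h r hr hP) _⟩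
    | one => exact ⟨one_mem _, by rw [simg_one]; exact one_mem _⟩
    | mul x y _ _ hx hy =>
      exact ⟨mul_mem hx.1 hy.1, by rw [simg_mul hx.1 hy.1]; exact mul_mem hx.2 hy.2⟩
    | inv x _ hx => exact ⟨inv_mem hx.1, by rw [simg_inv hx.1]; exact inv_mem hx.2⟩
  exact (key g hg).2

end

end CfsgLib.ReeF4
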