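import Cfsg.Agent.Lib.Twisted.E6BN
import Cfsg.Agent.Lib.Twisted.Weyl
import Cfsg.Agent.Lib.Weyl.F4

/-!
The Weyl group of the twisted group of type E6.
-/

set_option autoImplicit false

namespace CfsgLib.Twisted.E6

open Cfsg.Lie CfsgLib.Chev CfsgLib.Chevalley

theorem sym_weylTest : sym.weylTest tb CoxeterMatrix.F₄ CfsgLib.Weyl.F4.cartan
    [[2, 3, 4, 2], [3, 6, 8, 4], [2, 4, 6, 3], [1, 2, 3, 2]] [3, 0, 2, 1, 2, 3] [1, 3, 4, 5] =
      true := by decide +kernel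

variable {K : Type*} [Field K] [Fintype K] {q : ℕ}

theorem weyl_group (hq : IsPrimePow q) (hK : Fintype.card K = q ^ 2) :
    ∃ φ : ↥(chevE6.monomialSubgroup K ⊓ twistedE6 K q) →* (CoxeterMatrix.F₄).Group,
      Function.Surjective φ ∧ φ.ker = (chevE6.diagonalSubgroup K ⊓ twistedE6 K q).subgroupOf
        (chevE6.monomialSubgroup K ⊓ twistedE6 K q) := by
  obtain ⟨φ, hφ⟩ := exists_frob hq two_ne_zero hK
  rw [twistedE6_eq hK φ hφ]
  exact exists_weyl_map CfsgLib.Chev.E6.checked sym_test φ orbit_ok sym_nodeTest sym_bnTest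
    sym_weylTest _ CfsgLib.Weyl.F4.card_and_faithful.2.2

end CfsgLib.Twisted.E6
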