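import Cfsg.Agent.Lib.Twisted.WeylCount
import Cfsg.Agent.Lib.Twisted.E6Weyl
import Cfsg.Agent.Lib.Twisted.E6Torus

/-!
The order of the twisted group of type E6.
-/

set_option autoImplicit false

namespace CfsgLib.Twisted.E6

open Cfsg.Lie CfsgLib.Chev CfsgLib.Chevalley

theorem table1_sum : sym.sumTest [1, 3, 4, 5] CfsgLib.Weyl.F4.table1 [] [1, 1] = true := by
  decide +kernel

theorem table2_sum : sym.sumTest [1, 3, 4, 5] CfsgLib.Weyl.F4.table2 [0] [1, 1, 1] = true := by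
  decide +kernel

theorem table3_sum : sym.sumTest [1, 3, 4, 5] CfsgLib.Weyl.F4.table3 [0, 1]
    [1, 0, 1, 1, 1, 1, 1, 1, 0, 1] = true := by decide +kernel

theorem table4_sum : sym.sumTest [1, 3, 4, 5] CfsgLib.Weyl.F4.table4 [0, 1, 2]
    [1, 0, 1, 0, 1, 1, 1, 1, 1, 2, 1, 2, 0, 2, 1, 2, 1, 1, 1, 1, 1, 0, 1, 0, 1] = true := by
  decide +kernel

theorem poly_key (x : ℤ) :
    (x - 1) ^ 4 * (x + 1) ^ 2 *
      ((1 + x ^ 2 + x ^ 4 + x ^ 5 + x ^ 6 + x ^ 7 + x ^ 8 + 2 * x ^ 9 + x ^ 10 + 2 * x ^ 11 +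
        2 * x ^ 13 + x ^ 14 + 2 * x ^ 15 + x ^ 16 + x ^ 17 + x ^ 18 + x ^ 19 + x ^ 20 + x ^ 22 +
        x ^ 24) * ((1 + x ^ 2 + x ^ 3 + x ^ 4 + x ^ 5 + x ^ 6 + x ^ 7 + x ^ 9) *
        ((1 + x + x ^ 2) * (1 + x)))) =
      (x ^ 2 - 1) * (x ^ 5 + 1) * (x ^ 6 - 1) * (x ^ 8 - 1) * (x ^ 9 + 1) * (x ^ 12 - 1) := by
  ring

variable {K : Type*} [Field K] [Fintype K] {q : ℕ}

theorem card_group_twisted (hq : IsPrimePow q) (hK : Fintype.card K = q ^ 2) :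
    Nat.gcd 3 (q + 1) * Nat.card ↥(twistedE6 K q) =
      q ^ 36 * (q ^ 2 - 1) * (q ^ 5 + 1) * (q ^ 6 - 1) * (q ^ 8 - 1) * (q ^ 9 + 1) *
        (q ^ 12 - 1) := by
  obtain ⟨φ, hφ⟩ := exists_frob hq two_ne_zero hK
  haveI := CfsgLib.Weyl.F4.card_and_faithful.1
  haveI := Fintype.ofFinite CoxeterMatrix.F₄.Group
  have hc := CfsgLib.Chev.E6.checked
  have hinj := CfsgLib.Weyl.F4.card_and_faithful.2.2
  have hq1 : 1 ≤ q := hq.one_lt.le
  obtain ⟨ψ, nd, hnd, hψ, hcard⟩ := exists_card_twistGrp hc comm_one sym_test orbit_ok φ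
    (Nat.lt_of_lt_of_le Nat.zero_lt_one hq1) (card_par hq hK φ hφ) sym_nodeTest sym_bnTest
    sym_weylTest _ hinj
  have s1 := parSum_step hc sym_test hnd hψ _ hinj CfsgLib.Weyl.F4.table1_cosetTest
    CfsgLib.Weyl.F4.table1_vecTest table1_sum q
  have s2 := parSum_step hc sym_test hnd hψ _ hinj CfsgLib.Weyl.F4.table2_cosetTest
    CfsgLib.Weyl.F4.table2_vecTest table2_sum q
  have s3 := parSum_step hc sym_test hnd hψ _ hinj CfsgLib.Weyl.F4.table3_cosetTest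
    CfsgLib.Weyl.F4.table3_vecTest table3_sum q
  have s4 := parSum_step hc sym_test hnd hψ _ hinj CfsgLib.Weyl.F4.table4_cosetTest
    CfsgLib.Weyl.F4.table4_vecTest table4_sum q
  have hH := card_diagonal_twisted (K := K) hq hK
  rw [twistedE6_eq hK φ hφ] at hH ⊢
  rw [hcard _ (show ∀ j : Fin 4, j ∈ ([0, 1, 2, 3] : List (Fin 4)) by decide), sum_olen, s4, s3,
    s2, s1, parSum_nil, mul_one]
  simp only [← mul_assoc]
  rw [mul_comm (Nat.gcd 3 (q + 1)) (q ^ 36), mul_assoc (q ^ 36) (Nat.gcd 3 (q + 1)), hH]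
  simp only [polyEval]
  zify [hq1, Nat.one_le_pow 2 q hq1, Nat.one_le_pow 6 q hq1, Nat.one_le_pow 8 q hq1,
    Nat.one_le_pow 12 q hq1]
  linear_combination ((q : ℤ) ^ 36) * poly_key (q : ℤ)

end CfsgLib.Twisted.E6
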