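import Cfsg.Agent.Lib.Twisted.BN

/-!
The diagonal part of a twisted group: the parameters fixed by the twisted action on the values at
the fundamental coroots, and the order of their image.
-/

set_option autoImplicit false
set_option linter.unusedSectionVars false

namespace CfsgLib.Twisted

open Cfsg.Lie CfsgLib.Chev CfsgLib.Chevalley

variable {D : ChevalleyDatum} {T : Tabs} {S : TwistSym D} {H : List ℤ} {K : Type*} [Field K]

/-- The node carried to a given node. -/
def preNode (hS : S.test = true) (j : Fin D.rank) : Fin D.rank :=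
  ⟨S.π'.getD j.1 0, (symTest_node (TwistSym.symOK hS) j.1 j.2).2.1⟩

/-- The node to which a node is carried. -/
def imgNode (hS : S.test = true) (i : Fin D.rank) : Fin D.rank :=
  ⟨S.node i.1, TwistSym.node_lt hS i.2⟩

theorem preNode_imgNode (hS : S.test = true) (i : Fin D.rank) : preNode hS (imgNode hS i) = i :=
  Fin.ext (symTest_node (TwistSym.symOK hS) i.1 i.2).2.2.1

theorem imgNode_preNode (hS : S.test = true) (j : Fin D.rank) : imgNode hS (preNode hS j) = j :=
  Fin.ext (symTest_node (TwistSym.symOK hS) j.1 j.2).2.2.2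

/-- The action of `σ` on the parameters of the diagonal subgroup. -/
noncomputable def tauPar (hS : S.test = true) (φ : K ≃+* K) :
    (Fin D.rank → Kˣ) →* (Fin D.rank → Kˣ) where
  toFun c := fun j => Units.map φ.toRingHom.toMonoidHom (c (preNode hS j))
  map_one' := by funext j; simp
  map_mul' a b := by funext j; simp

theorem tauPar_imgNode (hS : S.test = true) (φ : K ≃+* K) (c : Fin D.rank → Kˣ) (i : Fin D.rank) :
    ((tauPar hS φ c (imgNode hS i) : Kˣ) : K) = φ (c i : K) := by
  simp [tauPar, preNode_imgNode]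

/-- The fixed parameters. -/
noncomputable def fixPar (hS : S.test = true) (φ : K ≃+* K) : Subgroup (Fin D.rank → Kˣ) where
  carrier := {c | tauPar hS φ c = c}
  mul_mem' := fun {a b} ha hb => by
    show tauPar hS φ (a * b) = a * b
    rw [map_mul, show tauPar hS φ a = a from ha, show tauPar hS φ b = b from hb]
  one_mem' := map_one _
  inv_mem' := fun {a} ha => by
    show tauPar hS φ a⁻¹ = a⁻¹
    rw [map_inv, show tauPar hS φ a = a from ha]

theorem mem_fixPar {hS : S.test = true} {φ : K ≃+* K} {c : Fin D.rank → Kˣ} :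
    c ∈ fixPar hS φ ↔ tauPar hS φ c = c := Iff.rfl

/-- The parameter supported on the orbit of a node. -/
noncomputable def orbPar (hS : S.test = true) (φ : K ≃+* K) (i : Fin D.rank) (a : Kˣ) :
    Fin D.rank → Kˣ :=
  ∏ k ∈ Finset.range (S.olen (D.simple i)), (⇑(tauPar hS φ))^[k] (Pi.mulSingle i a)

/-- The node reached from `i` in `k` steps. -/
def iterNode (hS : S.test = true) : ℕ → Fin D.rank → Fin D.rank
  | 0, i => i
  | k + 1, i => imgNode hS (iterNode hS k i)

theorem iterNode_val (hS : S.test = true) (k : ℕ) (i : Fin D.rank) :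
    (iterNode hS k i).1 = S.nodeIter k i.1 := by
  induction k with
  | zero => rfl
  | succ k ih =>
    show S.node (iterNode hS k i).1 = S.node (S.nodeIter k i.1)
    rw [ih]

theorem tauPar_single (hS : S.test = true) (φ : K ≃+* K) (i : Fin D.rank) (a : Kˣ) :
    tauPar hS φ (Pi.mulSingle i a) =
      Pi.mulSingle (imgNode hS i) (Units.map φ.toRingHom.toMonoidHom a) := by
  funext j
  show Units.map φ.toRingHom.toMonoidHom ((Pi.mulSingle i a : Fin D.rank → Kˣ) (preNode hS j)) = _
  by_cases h : j = imgNode hS i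
  · subst h; rw [preNode_imgNode, Pi.mulSingle_eq_same, Pi.mulSingle_eq_same]
  · rw [Pi.mulSingle_eq_of_ne h, Pi.mulSingle_eq_of_ne (fun e => h (by rw [← e, imgNode_preNode])),
      map_one]

theorem iterate_tauPar_single (hS : S.test = true) (φ : K ≃+* K) (i : Fin D.rank) (a : Kˣ)
    (k : ℕ) : (⇑(tauPar hS φ))^[k] (Pi.mulSingle i a) =
      Pi.mulSingle (iterNode hS k i) ((⇑(Units.map φ.toRingHom.toMonoidHom))^[k] a) := by
  induction k with
  | zero => rfl
  | succ k ih =>
    rw [Function.iterate_succ_apply', ih, tauPar_single, Function.iterate_succ_apply']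
    rfl

theorem coe_iterate_unitsMap (φ : K ≃+* K) (a : Kˣ) (k : ℕ) :
    ((((⇑(Units.map φ.toRingHom.toMonoidHom))^[k] a) : Kˣ) : K) = (⇑φ)^[k] (a : K) := by
  induction k with
  | zero => rfl
  | succ k ih =>
    rw [Function.iterate_succ_apply', Function.iterate_succ_apply', ← ih]
    rfl

section
variable (hc : Checked D T) (hS : S.test = true) (φ : K ≃+* K) (hO : S.orbitTest T = true)
  (hN : S.nodeTest H = true) (hT : S.bnTest = true)
include hc hS

theorem iterNode_simple (k : ℕ) (i : Fin D.rank) :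
    S.imgIter k (D.simple i) = D.simple (iterNode hS k i).1 := by
  rw [iterNode_val]
  exact (TwistSym.imgIter_simple hc hS i.2 k).2.1

theorem twistSigma_torus (c : Fin D.rank → Kˣ) :
    twistSigma S hS φ (torus D T K (hPar D K c)) = torus D T K (hPar D K (tauPar hS φ c)) := by
  rw [hPar_eq_corChar hc, Fin.prod_univ_def, map_list_prod, map_list_prod, List.map_map,
    List.map_map]
  have hterm : ∀ i : Fin D.rank,
      twistSigma S hS φ (torus D T K (corChar D T (D.simple i.val) (c i))) =
        torus D T K (corChar D T (D.simple (imgNode hS i).1)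
          (tauPar hS φ c (imgNode hS i))) := by
    intro i
    have hp := simple_lt hc i.2
    obtain ⟨h1, -, h3, -⟩ := TwistSym.simple_spec hS i.2
    have hp' := simple_lt hc (imgNode hS i).2
    rw [← elH_eq_torus hc hp, ← elH_eq_torus hc hp', tauPar_imgNode]
    simp only [elH, map_mul, twistSigma_elN hc hS φ hp, h1, h3, Int.cast_one, one_mul, map_neg,
      map_one]
    rfl
  simp only [Function.comp_def]
  rw [List.map_congr_left (f := fun i => twistSigma S hS φ (torus D T K
    (corChar D T (D.simple i.val) (c i)))) (g := fun i => torus D T K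
    (corChar D T (D.simple (imgNode hS i).1) (tauPar hS φ c (imgNode hS i))))
    fun i _ => hterm i]
  have e : hPar D K (tauPar hS φ c) = ∏ i : Fin D.rank,
      corChar D T (D.simple (imgNode hS i).1) (tauPar hS φ c (imgNode hS i)) := by
    rw [hPar_eq_corChar hc]
    exact (Fintype.prod_bijective (imgNode hS)
      ⟨fun a b h => by rw [← preNode_imgNode hS a, h, preNode_imgNode],
        fun j => ⟨_, imgNode_preNode hS j⟩⟩ _ _ fun i => rfl).symm
  rw [e, Fin.prod_univ_def, map_list_prod, List.map_map]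
  rfl

theorem twistSigma_iter_torus (c : Fin D.rank → Kˣ) (k : ℕ) :
    (⇑(twistSigma S hS φ))^[k] (torus D T K (hPar D K c)) =
      torus D T K (hPar D K ((⇑(tauPar hS φ))^[k] c)) := by
  induction k with
  | zero => rfl
  | succ k ih =>
    rw [Function.iterate_succ_apply', ih, twistSigma_torus hc hS φ, Function.iterate_succ_apply']

include hN

theorem torus_orbPar_mem (i : Fin D.rank) {a : Kˣ} (ha : IsPar S φ (D.simple i) (a : K)) :
    torus D T K (hPar D K (orbPar hS φ i a)) ∈ twistGrp hS φ := by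
  have hp := simple_lt hc i.2
  set f := (twistSigma S hS φ).toMonoidHom
  set d := torus D T K (hPar D K (Pi.mulSingle i a)) with hd
  have hd' : d = elN D K (D.simple i) (a : K) * (elN D K (D.simple i) 1)⁻¹ := by
    have h := elN_mul_inv hc (F := K) hp a 1
    rw [Units.val_one, div_one] at h
    rw [hd, h, hPar_eq_corChar hc, Finset.prod_eq_single i]
    · rw [Pi.mulSingle_eq_same]
    · intro j _ hj; rw [Pi.mulSingle_eq_of_ne hj, corChar_one]
    · simp
  have h1 : torus D T K (hPar D K (orbPar hS φ i a)) =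
      orbProd (⇑(twistSigma S hS φ)) (S.olen (D.simple i)) d := by
    unfold orbPar
    generalize S.olen (D.simple i) = n
    induction n with
    | zero => simp [orbProd]
    | succ n ih =>
      rw [Finset.prod_range_succ, map_mul, map_mul, ih, orbProd_succ, hd,
        twistSigma_iter_torus hc hS φ]
  have hpar : ∀ k < S.olen (D.simple i), ∀ l < S.olen (D.simple i), k ≠ l → ∀ x y : K,
      Commute ((⇑f)^[k] (elN D K (D.simple i) x)) ((⇑f)^[l] (elN D K (D.simple i) y)) := by
    intro k hk l hl hkl x y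
    simp only [elN, iterate_map_mul]
    have hxx := fun u w => commute_iter_elX hc hS φ hp u w hk hl
    have hxy := fun u w => commute_node_mixed hc hS φ hN i.2 u w hk hl hkl
    have hyx := fun u w => (commute_node_mixed hc hS φ hN i.2 u w hl hk (Ne.symm hkl)).symm
    have hyy := fun u w => commute_iter_elX hc hS φ (neg_lt hc hp) u w
      (by rwa [TwistSym.olen_neg hc hS hp] : k < _) (by rwa [TwistSym.olen_neg hc hS hp] : l < _)
    exact ((((hxx _ _).mul_right (hxy _ _)).mul_right (hxx _ _)).mul_left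
      (((hyx _ _).mul_right (hyy _ _)).mul_right (hyx _ _))).mul_left
      (((hxx _ _).mul_right (hxy _ _)).mul_right (hxx _ _))
  have h2 : orbProd (⇑f) (S.olen (D.simple i)) d * nOrb hS φ i =
      orbProd (⇑f) (S.olen (D.simple i)) (elN D K (D.simple i) (a : K)) := by
    have hmul : d * elN D K (D.simple i) 1 = elN D K (D.simple i) (a : K) := by
      rw [hd', inv_mul_cancel_right]
    rw [← hmul]
    refine (orbProd_mul f _ _ _ fun j k hj hk hjk => ?_).symm
    rw [hd', elN_inv hc hp, iterate_map_mul]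
    exact (hpar j hj k hk hjk _ _).mul_left (hpar j hj k hk hjk _ _)
  rw [h1]
  show orbProd (⇑f) _ d ∈ _
  rw [eq_mul_inv_of_mul_eq h2]
  refine Subgroup.mul_mem _ ?_ (Subgroup.inv_mem _ (nOrb_mem hc hS φ hN i.2))
  show orbProd (⇑(twistSigma S hS φ)) _ _ ∈ _
  rw [orbProd_elN_eq hc hS φ hN i.2]
  have hna : IsPar S φ (D.neg (D.simple i)) (-(a : K)⁻¹) := by
    have := isPar_neg_inv hc hS φ ha
    simp only [IsPar] at this ⊢
    rwa [TwistSym.olen_neg hc hS hp]
  exact Subgroup.mul_mem _ (Subgroup.mul_mem _ (orbX_simple_mem i.2 ha)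
    (orbX_neg_simple_mem i.2 hna)) (orbX_simple_mem i.2 ha)

omit hN
include hO hT

theorem rep_orbit_unique {i i' : Fin D.rank} (hi : i.1 ∈ S.repNodes) (hi' : i'.1 ∈ S.repNodes)
    {k k' : ℕ} (hk : k < S.olen (D.simple i)) (hk' : k' < S.olen (D.simple i'))
    (e : iterNode hS k i = iterNode hS k' i') : i = i' ∧ k = k' := by
  obtain ⟨h1, h2⟩ := TwistSym.rep_unique hO (repNode_at hc hS hO hi).1 (repNode_at hc hS hO hi').1
    hk hk' (by rw [iterNode_simple hc hS, iterNode_simple hc hS, e])
  exact ⟨Fin.ext (simple_inj hc i.2 i'.2 h1), h2⟩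

theorem node_cases (j : Fin D.rank) : ∃ i : Fin D.rank, i.1 ∈ S.repNodes ∧
    ∃ k < S.olen (D.simple i), iterNode hS k i = j := by
  obtain ⟨i, hi, k, hk, e⟩ := TwistSym.node_cover hT j.2
  exact ⟨⟨i, (mem_repNodes hi).1⟩, hi, k, hk, Fin.ext (simple_inj hc (Fin.is_lt _) j.2
    (by rw [← iterNode_simple hc hS k ⟨i, (mem_repNodes hi).1⟩]; exact e))⟩

omit hO hT in
theorem fixPar_iter {c : Fin D.rank → Kˣ} (hcc : c ∈ fixPar hS φ) (i : Fin D.rank) (k : ℕ) :
    ((c (iterNode hS k i) : Kˣ) : K) = (⇑φ)^[k] (c i : K) := by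
  induction k with
  | zero => rfl
  | succ k ih =>
    show ((c (imgNode hS (iterNode hS k i)) : Kˣ) : K) = _
    conv_lhs => rw [← mem_fixPar.mp hcc]
    rw [tauPar_imgNode, ih, Function.iterate_succ_apply']

omit hO hT in
theorem iterNode_olen (i : Fin D.rank) : iterNode hS (S.olen (D.simple i)) i = i :=
  Fin.ext (simple_inj hc (Fin.is_lt _) i.2
    (by rw [← iterNode_simple hc hS, TwistSym.imgIter_olen hS (simple_lt hc i.2)]))

omit hO hT in
theorem fixPar_isPar {c : Fin D.rank → Kˣ} (hcc : c ∈ fixPar hS φ) (i : Fin D.rank) :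
    IsPar S φ (D.simple i) ((c i : Kˣ) : K) := by
  have h := fixPar_iter hc hS φ hcc i (S.olen (D.simple i))
  rw [iterNode_olen hc hS i] at h
  exact h.symm

/-- The product of the parameters supported on the orbits of the representing nodes. -/
theorem prod_orbPar_apply (a : Fin D.rank → Kˣ) {i : Fin D.rank} (hi : i.1 ∈ S.repNodes) {k : ℕ}
    (hk : k < S.olen (D.simple i)) :
    (∏ l ∈ Finset.univ.filter (fun l : Fin D.rank => l.1 ∈ S.repNodes), orbPar hS φ l (a l))
      (iterNode hS k i) = (⇑(Units.map φ.toRingHom.toMonoidHom))^[k] (a i) := by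
  rw [Finset.prod_apply, Finset.prod_eq_single i]
  · rw [orbPar, Finset.prod_apply, Finset.prod_eq_single k]
    · rw [iterate_tauPar_single, Pi.mulSingle_eq_same]
    · intro k' hk' hne
      rw [iterate_tauPar_single, Pi.mulSingle_eq_of_ne]
      exact fun e => hne (rep_orbit_unique hc hS hO hT hi hi hk (Finset.mem_range.1 hk') e).2.symm
    · exact fun h => absurd (Finset.mem_range.2 hk) h
  · intro l hl hne
    rw [orbPar, Finset.prod_apply]
    refine Finset.prod_eq_one fun k' hk' => ?_
    rw [iterate_tauPar_single, Pi.mulSingle_eq_of_ne]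
    exact fun e => hne (rep_orbit_unique hc hS hO hT hi (Finset.mem_filter.1 hl).2 hk
      (Finset.mem_range.1 hk') e).1.symm
  · exact fun h => absurd (show i ∈ Finset.univ.filter (fun l : Fin D.rank => l.1 ∈ S.repNodes)
      from Finset.mem_filter.2 ⟨Finset.mem_univ _, hi⟩) h

theorem fixPar_eq_prod {c : Fin D.rank → Kˣ} (hcc : c ∈ fixPar hS φ) :
    c = ∏ l ∈ Finset.univ.filter (fun l : Fin D.rank => l.1 ∈ S.repNodes), orbPar hS φ l (c l) := by
  funext j
  obtain ⟨i, hi, k, hk, rfl⟩ := node_cases hc hS hO hT j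
  rw [prod_orbPar_apply hc hS φ hO hT c hi hk]
  exact Units.ext (by rw [coe_iterate_unitsMap, fixPar_iter hc hS φ hcc])

/-- Admissible parameters at the representing nodes give fixed parameters. -/
theorem prod_orbPar_fixed (a : Fin D.rank → Kˣ)
    (ha : ∀ i : Fin D.rank, i.1 ∈ S.repNodes → IsPar S φ (D.simple i) (a i : K)) :
    (∏ l ∈ Finset.univ.filter (fun l : Fin D.rank => l.1 ∈ S.repNodes), orbPar hS φ l (a l)) ∈
      fixPar hS φ := by
  rw [mem_fixPar]
  funext j
  obtain ⟨i, hi, k, hk, hj⟩ := node_cases hc hS hO hT (preNode hS j)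
  have hj' : j = iterNode hS (k + 1) i := by
    show j = imgNode hS (iterNode hS k i)
    rw [hj, imgNode_preNode]
  show Units.map φ.toRingHom.toMonoidHom (_ : Kˣ) = _
  rw [← hj, prod_orbPar_apply hc hS φ hO hT a hi hk, hj']
  by_cases hlt : k + 1 < S.olen (D.simple i)
  · rw [prod_orbPar_apply hc hS φ hO hT a hi hlt, Function.iterate_succ_apply']
  · have e : k + 1 = S.olen (D.simple i) := by omega
    have h0 := prod_orbPar_apply hc hS φ hO hT a hi (k := 0) (by omega)
    rw [e, iterNode_olen hc hS i]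
    refine Eq.trans ?_ h0.symm
    rw [← Function.iterate_succ_apply' (⇑(Units.map φ.toRingHom.toMonoidHom)), Nat.succ_eq_add_one, e]
    exact Units.ext (by rw [coe_iterate_unitsMap]; exact ha i hi)

include hN

theorem torus_fixPar_mem {c : Fin D.rank → Kˣ} (hcc : c ∈ fixPar hS φ) :
    torus D T K (hPar D K c) ∈ twistGrp hS φ := by
  rw [fixPar_eq_prod hc hS φ hO hT hcc]
  show _ ∈ Subgroup.comap ((torus D T K).comp (hPar D K)) (twistGrp hS φ)
  exact Subgroup.prod_mem _ fun l _ =>
    torus_orbPar_mem hc hS φ hN l (fixPar_isPar hc hS φ hcc l)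

/-- The diagonal part of the twisted group. -/
theorem diag_inf_twist (hker : ∀ c : Fin D.rank → Kˣ, hPar D K (tauPar hS φ c) = hPar D K c →
      ∃ w, hPar D K w = 1 ∧ tauPar hS φ (c * w) = c * w) :
    D.diagonalSubgroup K ⊓ twistGrp hS φ = (fixPar hS φ).map ((torus D T K).comp (hPar D K)) := by
  refine le_antisymm ?_ ?_
  · rintro g ⟨hg, hg'⟩
    obtain ⟨c, rfl⟩ := (mem_diagonal hc).1 hg
    have hf := mem_fixedSub.mp (twistGrp_le_fixed hc hS φ hg')
    rw [twistSigma_torus hc hS φ] at hf
    obtain ⟨w, hw, hcw⟩ := hker c (torus_injective hc hf)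
    exact ⟨c * w, hcw, by rw [MonoidHom.comp_apply, map_mul, hw, mul_one]⟩
  · rintro g ⟨c, hcc, rfl⟩
    exact ⟨(mem_diagonal hc).2 ⟨c, rfl⟩, torus_fixPar_mem hc hS φ hO hN hT hcc⟩

omit hN

theorem card_fixPar [Fintype K] {q : ℕ}
    (hpar : ∀ r ∈ S.repList, Nat.card {t : K // IsPar S φ r t} = q ^ S.olen r) :
    Nat.card ↥(fixPar hS φ) =
      ∏ i ∈ Finset.univ.filter (fun l : Fin D.rank => l.1 ∈ S.repNodes),
        (q ^ S.olen (D.simple i) - 1) := by
  classical
  set R := Finset.univ.filter (fun l : Fin D.rank => l.1 ∈ S.repNodes) with hR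
  have hmem : ∀ {i : Fin D.rank}, i ∈ R → i.1 ∈ S.repNodes := fun h => (Finset.mem_filter.1 h).2
  let ext : ((i : {i // i ∈ R}) → {a : Kˣ // IsPar S φ (D.simple i.1) (a : K)}) → Fin D.rank → Kˣ :=
    fun a i => if hi : i ∈ R then (a ⟨i, hi⟩).1 else 1
  have hext : ∀ a (i : Fin D.rank), i.1 ∈ S.repNodes → IsPar S φ (D.simple i) (ext a i : K) := by
    intro a i hi
    have hi' : i ∈ R := Finset.mem_filter.2 ⟨Finset.mem_univ _, hi⟩
    simp only [ext, dif_pos hi']
    exact (a ⟨i, hi'⟩).2
  let f : ((i : {i // i ∈ R}) → {a : Kˣ // IsPar S φ (D.simple i.1) (a : K)}) → ↥(fixPar hS φ) :=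
    fun a => ⟨_, prod_orbPar_fixed hc hS φ hO hT (ext a) (hext a)⟩
  have hf : Function.Bijective f := by
    constructor
    · intro a b e
      funext i
      have hi := hmem i.2
      have h0 : ∀ a, (f a).1 (iterNode hS 0 i.1) = ext a i.1 := fun a =>
        prod_orbPar_apply hc hS φ hO hT (ext a) hi (by
          unfold TwistSym.olen
          split_ifs
          · exact one_pos
          · exact TwistSym.d_pos hS)
      have := congrArg (fun c : ↥(fixPar hS φ) => c.1 (iterNode hS 0 i.1)) e
      simp only [h0, ext, dif_pos i.2] at this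
      exact Subtype.ext this
    · rintro ⟨c, hcc⟩
      refine ⟨fun i => ⟨c i.1, fixPar_isPar hc hS φ hcc i.1⟩, Subtype.ext ?_⟩
      show ∏ l ∈ R, orbPar hS φ l
        (ext (fun i => ⟨c i.1, fixPar_isPar hc hS φ hcc i.1⟩) l) = c
      refine (Finset.prod_congr rfl fun l hl => ?_).trans
        (fixPar_eq_prod hc hS φ hO hT hcc).symm
      simp only [ext, dif_pos hl]
  rw [← Nat.card_congr (Equiv.ofBijective f hf), Nat.card_pi,
    Finset.prod_coe_sort R (fun i => Nat.card {a : Kˣ // IsPar S φ (D.simple i) (a : K)})]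
  refine Finset.prod_congr rfl fun i hi => ?_
  have h := hpar _ (repNode_at hc hS hO (hmem hi)).1
  have e : {t : K // IsPar S φ (D.simple i) t} ≃ Option {a : Kˣ // IsPar S φ (D.simple i) (a : K)} :=
    { toFun := fun t => if h : t.1 = 0 then none else some ⟨Units.mk0 t.1 h, t.2⟩
      invFun := fun o => o.elim ⟨0, isPar_zero φ _⟩ fun a => ⟨a.1, a.2⟩
      left_inv := fun t => by
        by_cases h : t.1 = 0
        · simp only [h, dif_pos, Option.elim_none]; exact Subtype.ext h.symm
        · simp [h]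
      right_inv := fun o => by
        cases o with
        | none => simp
        | some u => simp }
  rw [Nat.card_congr e, Finite.card_option] at h
  omega

include hN

/-- The order of the diagonal part. -/
theorem card_diag_inf_twist [Fintype K] {q : ℕ}
    (hpar : ∀ r ∈ S.repList, Nat.card {t : K // IsPar S φ r t} = q ^ S.olen r)
    (hker : ∀ c : Fin D.rank → Kˣ, hPar D K (tauPar hS φ c) = hPar D K c →
      ∃ w, hPar D K w = 1 ∧ tauPar hS φ (c * w) = c * w) :
    Nat.card {c : Fin D.rank → Kˣ // tauPar hS φ c = c ∧ hPar D K c = 1} *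
      Nat.card ↥(D.diagonalSubgroup K ⊓ twistGrp hS φ) =
      ∏ i ∈ Finset.univ.filter (fun l : Fin D.rank => l.1 ∈ S.repNodes),
        (q ^ S.olen (D.simple i) - 1) := by
  rw [diag_inf_twist hc hS φ hO hN hT hker, ← card_fixPar hc hS φ hO hT hpar]
  set F := ((torus D T K).comp (hPar D K)).comp (fixPar hS φ).subtype with hF
  have hr : (fixPar hS φ).map ((torus D T K).comp (hPar D K)) = F.range := by
    rw [hF, MonoidHom.range_comp, Subgroup.range_subtype]
  have hk : Nat.card {c : Fin D.rank → Kˣ // tauPar hS φ c = c ∧ hPar D K c = 1} = Nat.card ↥F.ker := by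
    refine Nat.card_congr ⟨fun c => ⟨⟨c.1, c.2.1⟩, ?_⟩, fun c => ⟨c.1.1, c.1.2, ?_⟩,
      fun c => rfl, fun c => rfl⟩
    · rw [MonoidHom.mem_ker, hF, MonoidHom.comp_apply, MonoidHom.comp_apply]
      show torus D T K (hPar D K c.1) = 1
      rw [c.2.2, map_one]
    · have h := c.2
      rw [MonoidHom.mem_ker] at h
      exact torus_injective hc (h.trans (map_one _).symm)
  rw [hr, hk, ← Subgroup.index_ker, Subgroup.card_mul_index]

end

end CfsgLib.Twisted
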