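import Cfsg.Agent.Lib.Twisted.Torus
import Cfsg.Agent.Lib.Twisted.Weyl
import Cfsg.Agent.Lib.Chev.WeylSum
import Cfsg.Agent.Lib.BN.Basic

/-!
The fixed elements of the groups `U_w^-` and the order of a twisted group as a sum over its cells.
-/

set_option autoImplicit false
set_option linter.unusedSectionVars false

namespace CfsgLib.Twisted

open Cfsg.Lie CfsgLib.Chev CfsgLib.Chevalley

variable {D : ChevalleyDatum} {T : Tabs} {S : TwistSym D} {H : List ℤ} {K : Type*} [Field K]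

/-- The product of orbit products over the representatives of the heights `h`, …, `h + m - 1`. -/
noncomputable def prodFrom (hS : S.test = true) (φ : K ≃+* K) (T : Tabs) :
    ℤ → ℕ → (ℕ → K) → GL D.Idx K
  | _, 0, _ => 1
  | h, m + 1, a => orbP hS φ (repsAt D T S h) a * prodFrom hS φ T (h + 1) m a

/-- The representatives of the orbits of the positive roots in a set. -/
noncomputable def repsIn (S : TwistSym D) (P : ℕ → Prop) [DecidablePred P] : Finset ℕ :=
  S.repList.toFinset.filter P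

section
variable (hc : Checked D T) (hS : S.test = true) (hO : S.orbitTest T = true) (φ : K ≃+* K)
include hc hS hO

theorem prodFrom_mem_highU (a : ℕ → K) : ∀ (m : ℕ) (h : ℤ),
    prodFrom hS φ T h m a ∈ highU D T K h
  | 0, _ => one_mem _
  | m + 1, h => mul_mem (orbP_mem_highU hc hS hO φ (fun _ hr => mem_repsAt.1 hr) a)
      (highU_mono hc (by omega) (prodFrom_mem_highU a m (h + 1)))

theorem prodFrom_inj : ∀ (m : ℕ) (h : ℤ), 1 ≤ h → ∀ a b : ℕ → K,
    prodFrom hS φ T h m a = prodFrom hS φ T h m b →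
      ∀ r ∈ S.repList, h ≤ hgt D T r → hgt D T r < h + m → a r = b r
  | 0, h, _, _, _, _ => fun r _ h1 h2 => absurd h2 (by push_cast; omega)
  | m + 1, h, h1, a, b, e => by
    intro r hr hle hlt
    have hab := split_unique hc hS hO φ h1 repsAt_nodup (fun _ hr => mem_repsAt.1 hr)
      (prodFrom_mem_highU hc hS hO φ a m (h + 1)) (prodFrom_mem_highU hc hS hO φ b m (h + 1)) e
    rcases hle.eq_or_lt with g | g
    · exact hab r (mem_repsAt.2 ⟨hr, g.symm⟩)
    · have eP : orbP hS φ (repsAt D T S h) a = orbP hS φ (repsAt D T S h) b :=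
        congrArg List.prod (List.map_congr_left fun r hr => by rw [hab r hr])
      change orbP hS φ (repsAt D T S h) a * prodFrom hS φ T (h + 1) m a =
        orbP hS φ (repsAt D T S h) b * prodFrom hS φ T (h + 1) m b at e
      rw [eP] at e
      exact prodFrom_inj m (h + 1) (by omega) a b (mul_left_cancel e) r hr (by omega)
        (by push_cast at hlt ⊢; omega)

theorem orbX_mem_uGen {P : ℕ → Prop}
    (hP : ∀ r, r < D.nroots → D.nroots / 2 ≤ r → P r → P (S.img r)) {r : ℕ}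
    (hr : r < D.nroots) (hp : D.nroots / 2 ≤ r) (hr' : P r) (t : K) :
    orbX hS φ r t ∈ uGen D K P := by
  rw [orbX_eq_prod hc hS φ hr]
  refine Subgroup.list_prod_mem _ fun g hg => ?_
  obtain ⟨k, -, rfl⟩ := List.mem_map.1 hg
  refine elX_mem_uGen (TwistSym.imgIter_lt hS hr k) ?_ _
  clear hg
  induction k with
  | zero => exact hr'
  | succ k ih =>
    exact hP _ (TwistSym.imgIter_lt hS hr k) (TwistSym.img_pos hO hS hr hp k).1 ih

theorem prodFrom_mem_uGen {P : ℕ → Prop}
    (hP : ∀ r, r < D.nroots → D.nroots / 2 ≤ r → P r → P (S.img r)) (a : ℕ → K)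
    (ha : ∀ r ∈ S.repList, ¬ P r → a r = 0) (hpar : ∀ r ∈ S.repList, IsPar S φ r (a r)) :
    ∀ (m : ℕ) (h : ℤ), prodFrom hS φ T h m a ∈ uGen D K P ⊓ fixedSub S hS φ
  | 0, _ => one_mem _
  | m + 1, h => by
    refine mul_mem ⟨Subgroup.list_prod_mem _ fun g hg => ?_,
      orbP_fixed hc hS hO φ (fun _ hr => mem_repsAt.1 hr)
        fun r hr => hpar r (mem_repsAt.1 hr).1⟩ (prodFrom_mem_uGen hP a ha hpar m (h + 1))
    obtain ⟨r, hr, rfl⟩ := List.mem_map.1 hg
    have hr1 := (mem_repsAt.1 hr).1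
    obtain ⟨hrn, hrp⟩ := mem_repList hr1
    by_cases h' : P r
    · exact orbX_mem_uGen hc hS hO φ hP hrn hrp h' _
    · rw [ha r hr1 h', orbX_zero hc hS φ hrn]; exact one_mem _

/-- A lower bound for the number of fixed elements in a stable set of positive roots. -/
theorem pow_le_card_fixed [Fintype K] {P : ℕ → Prop} [DecidablePred P]
    (hP : ∀ r, r < D.nroots → D.nroots / 2 ≤ r → P r → P (S.img r)) {q : ℕ}
    (hpar : ∀ r ∈ S.repList, Nat.card {t : K // IsPar S φ r t} = q ^ S.olen r) :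
    q ^ ∑ r ∈ repsIn S P, S.olen r ≤ Nat.card ↥(uGen D K P ⊓ fixedSub S hS φ) := by
  classical
  have hR : ∀ {r}, r ∈ repsIn S P ↔ r ∈ S.repList ∧ P r := fun {r} => by
    simp [repsIn]
  let ext : ((r : {r // r ∈ repsIn S P}) → {t : K // IsPar S φ r.1 t}) → ℕ → K :=
    fun a r => if h : r ∈ repsIn S P then (a ⟨r, h⟩).1 else 0
  have hext : ∀ a r, r ∈ S.repList → IsPar S φ r (ext a r) := by
    intro a r _
    by_cases h : r ∈ repsIn S P
    · simp only [ext, dif_pos h]; exact (a ⟨r, h⟩).2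
    · simp only [ext, dif_neg h]; exact isPar_zero φ r
  have hext0 : ∀ a r, r ∈ S.repList → ¬ P r → ext a r = 0 := fun a r _ h => by
    simp only [ext, dif_neg (fun g => h (hR.1 g).2)]
  let f : ((r : {r // r ∈ repsIn S P}) → {t : K // IsPar S φ r.1 t}) →
      ↥(uGen D K P ⊓ fixedSub S hS φ) := fun a =>
    ⟨prodFrom hS φ T 1 (hgtTop D T - 1).toNat (ext a),
      prodFrom_mem_uGen hc hS hO φ hP (ext a) (hext0 a) (hext a) _ _⟩
  have hf : Function.Injective f := by
    intro a b e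
    funext ⟨r, hr⟩
    have hr1 := (hR.1 hr).1
    obtain ⟨hrn, hrp⟩ := mem_repList hr1
    have h1 := TwistSym.htPos hO r hrn hrp
    have h2 := hgt_lt_top (T := T) hrn
    have := prodFrom_inj hc hS hO φ _ 1 le_rfl _ _ (congrArg Subtype.val e) r hr1 h1 (by omega)
    simp only [ext, dif_pos hr] at this
    exact Subtype.ext this
  refine le_trans (le_of_eq ?_) (Nat.card_le_card_of_injective f hf)
  rw [Nat.card_pi, Finset.prod_coe_sort (repsIn S P) (fun r => Nat.card {t : K // IsPar S φ r t}),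
    ← Finset.prod_pow_eq_pow_sum]
  exact Finset.prod_congr rfl fun r hr => (hpar r (hR.1 hr).1).symm

omit φ

/-- The stable sets of positive roots are unions of orbits of representatives. -/
theorem sum_repsIn {P : ℕ → Prop} [DecidablePred P]
    (hP : ∀ r, r < D.nroots → D.nroots / 2 ≤ r → (P r ↔ P (S.img r))) :
    ∑ r ∈ repsIn S P, S.olen r =
      (Finset.univ.filter fun r : Fin D.nroots => D.nroots / 2 ≤ r.1 ∧ P r.1).card := by
  classical
  have hiter : ∀ r, r < D.nroots → D.nroots / 2 ≤ r → ∀ k, (P r ↔ P (S.imgIter k r)) := by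
    intro r hr hp k
    induction k with
    | zero => rfl
    | succ k ih =>
      exact ih.trans (hP _ (TwistSym.imgIter_lt hS hr k) (TwistSym.img_pos hO hS hr hp k).1)
  have e : (Finset.univ.filter fun r : Fin D.nroots => D.nroots / 2 ≤ r.1 ∧ P r.1).map
      Fin.valEmbedding = (repsIn S P).biUnion fun r => (Finset.range (S.olen r)).image
        fun k => S.imgIter k r := by
    ext v
    simp only [Finset.mem_map, Finset.mem_filter, Finset.mem_univ, true_and, Fin.valEmbedding_apply,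
      Finset.mem_biUnion, Finset.mem_image, Finset.mem_range, repsIn, List.mem_toFinset]
    constructor
    · rintro ⟨r, ⟨hp, hPr⟩, rfl⟩
      obtain ⟨-, -, r₀, hr₀, k, hk, e⟩ := TwistSym.pos_spec hO r.2 hp
      obtain ⟨h1, h2⟩ := mem_repList hr₀
      exact ⟨r₀, ⟨hr₀, (hiter r₀ h1 h2 k).2 (e ▸ hPr)⟩, k, hk, e⟩
    · rintro ⟨r₀, ⟨hr₀, hP₀⟩, k, -, rfl⟩
      obtain ⟨h1, h2⟩ := mem_repList hr₀
      exact ⟨⟨_, TwistSym.imgIter_lt hS h1 k⟩,
        ⟨(TwistSym.img_pos hO hS h1 h2 k).1, (hiter r₀ h1 h2 k).1 hP₀⟩, rfl⟩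
  rw [← Finset.card_map Fin.valEmbedding, e, Finset.card_biUnion]
  · refine Finset.sum_congr rfl fun r hr => ?_
    have hr1 : r ∈ S.repList := List.mem_toFinset.1 (Finset.mem_filter.1 hr).1
    rw [Finset.card_image_of_injOn, Finset.card_range]
    intro k hk k' hk' e'
    exact (TwistSym.rep_unique hO hr1 hr1 (Finset.mem_range.1 hk) (Finset.mem_range.1 hk') e').2
  · intro r hr r' hr' hne
    rw [Function.onFun, Finset.disjoint_left]
    intro v hv hv'
    obtain ⟨k, hk, rfl⟩ := Finset.mem_image.1 hv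
    obtain ⟨k', hk', e'⟩ := Finset.mem_image.1 hv'
    exact hne (TwistSym.rep_unique hO (List.mem_toFinset.1 (Finset.mem_filter.1 hr).1)
      (List.mem_toFinset.1 (Finset.mem_filter.1 hr').1) (Finset.mem_range.1 hk)
      (Finset.mem_range.1 hk') e'.symm).1

end

/-- The word commutes with the symmetry on the roots. -/
def StableWord (D : ChevalleyDatum) (T : Tabs) (S : TwistSym D) (L : List (Fin D.rank)) : Prop :=
  ∀ r, r < D.nroots → sigs D T L (S.img r) = S.img (sigs D T L r)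

section
variable (hc : Checked D T) (hcomm : CommOne D T) (hS : S.test = true)
  (hO : S.orbitTest T = true) (φ : K ≃+* K) [Fintype K] {q : ℕ} (hq : 0 < q)
  (hpar : ∀ r ∈ S.repList, Nat.card {t : K // IsPar S φ r t} = q ^ S.olen r)
include hc hcomm hS hO hq hpar

/-- The fixed elements of `U` split along a stable word, and their numbers. -/
theorem fixed_split {L : List (Fin D.rank)} (hL : StableWord D T S L) :
    Nat.card ↥(uInv D T K L ⊓ fixedSub S hS φ) = q ^ (invSet D (wfun D T L)).card ∧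
      ∀ u ∈ D.posUnipotent K ⊓ fixedSub S hS φ,
        ∃ a ∈ uGen D K (KeepRoot D T L) ⊓ fixedSub S hS φ,
          ∃ v ∈ uInv D T K L ⊓ fixedSub S hS φ, u = a * v := by
  classical
  have hneg : ∀ s, s < D.nroots → (s < D.nroots / 2 ↔ S.img s < D.nroots / 2) := by
    intro s hs
    rw [← not_le, ← not_le, not_iff_not]
    exact (TwistSym.orbit_spec hS hs).2.2.1
  have hI : ∀ r, r < D.nroots → D.nroots / 2 ≤ r →
      (InvRoot D T L r ↔ InvRoot D T L (S.img r)) := by
    intro r hr hp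
    have h1 := (TwistSym.img_pos hO hS hr hp 1).1
    change D.nroots / 2 ≤ S.img r at h1
    rw [InvRoot, InvRoot, hL r hr, ← hneg _ (sigs_lt hc L hr)]
    tauto
  have hK : ∀ r, r < D.nroots → D.nroots / 2 ≤ r →
      (KeepRoot D T L r ↔ KeepRoot D T L (S.img r)) := by
    intro r hr hp
    have h1 := (TwistSym.img_pos hO hS hr hp 1).1
    change D.nroots / 2 ≤ S.img r at h1
    have hg := hneg _ (sigs_lt hc L hr)
    rw [KeepRoot, KeepRoot, hL r hr]
    omega
  set U := D.posUnipotent K ⊓ fixedSub S hS φ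
  set A := uGen D K (KeepRoot D T L) ⊓ fixedSub S hS φ
  set B := uInv D T K L ⊓ fixedSub S hS φ
  have hAle : A ≤ U := inf_le_inf_right _ (by
    rw [posUnipotent_eq hc]; exact uGen_mono fun _ _ h => h.1)
  have hBle : B ≤ U := inf_le_inf_right _ (by rw [posUnipotent_eq hc]; exact uInv_le_pos hc L)
  let f : ↥A × ↥B → ↥U := fun p => ⟨p.1.1 * p.2.1, mul_mem (hAle p.1.2) (hBle p.2.2)⟩
  have hf : Function.Injective f := by
    rintro ⟨a, v⟩ ⟨b, w⟩ e
    have e' : a.1 * v.1 = b.1 * w.1 := congrArg Subtype.val e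
    have e1 : b.1⁻¹ * a.1 = w.1 * v.1⁻¹ := by
      rw [inv_mul_eq_iff_eq_mul, ← mul_assoc, ← e', mul_inv_cancel_right]
    have hpos := nProd_conj_keep hc L (mul_mem (inv_mem b.2.1) a.2.1)
    rw [e1] at hpos
    have h1 := borel_inf_neg hc (pos_le_borel hc hpos)
      (nProd_conj_uInv hc L (mul_mem w.2.1 (inv_mem v.2.1)))
    rw [conj_eq_one_iff, mul_inv_eq_one] at h1
    refine Prod.ext (Subtype.ext ?_) (Subtype.ext h1.symm)
    rw [h1] at e'
    exact mul_right_cancel e'
  have hA := pow_le_card_fixed hc hS hO φ (P := KeepRoot D T L) (fun r hr hp => (hK r hr hp).1) hpar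
  have hB := pow_le_card_fixed hc hS hO φ (P := InvRoot D T L) (fun r hr hp => (hI r hr hp).1) hpar
  have hAB := Nat.card_le_card_of_injective f hf
  rw [Nat.card_prod] at hAB
  have hsum : ∑ r ∈ repsIn S (KeepRoot D T L), S.olen r + ∑ r ∈ repsIn S (InvRoot D T L), S.olen r =
      (S.repList.map S.olen).sum := by
    rw [← List.sum_toFinset _ repList_nodup, ← Finset.sum_union]
    · refine Finset.sum_congr ?_ fun _ _ => rfl
      ext r
      simp only [Finset.mem_union, repsIn, Finset.mem_filter, List.mem_toFinset]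
      refine ⟨fun h => h.elim (·.1) (·.1), fun h => ?_⟩
      obtain ⟨-, hp⟩ := mem_repList h
      rcases Nat.lt_or_ge (sigs D T L r) (D.nroots / 2) with g | g
      · exact Or.inr ⟨h, hp, g⟩
      · exact Or.inl ⟨h, hp, g⟩
    · rw [Finset.disjoint_left]
      intro r hr hr'
      have h1 := (Finset.mem_filter.1 hr).2.2
      have h2 := (Finset.mem_filter.1 hr').2.2
      omega
  have hU : Nat.card ↥U = q ^ (S.repList.map S.olen).sum :=
    card_posU_fixed hc hcomm hS hO φ hpar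
  rw [← hsum, pow_add] at hU
  set α := q ^ ∑ r ∈ repsIn S (KeepRoot D T L), S.olen r with hα
  set β := q ^ ∑ r ∈ repsIn S (InvRoot D T L), S.olen r with hβ
  have hαpos : 0 < α := pow_pos hq _
  have hβpos : 0 < β := pow_pos hq _
  have hBeq : Nat.card ↥B = β := by
    refine le_antisymm (Nat.le_of_mul_le_mul_left ?_ hαpos) hB
    calc α * Nat.card ↥B ≤ Nat.card ↥A * Nat.card ↥B := Nat.mul_le_mul_right _ hA
      _ ≤ Nat.card ↥U := hAB
      _ = α * β := hU
  refine ⟨?_, ?_⟩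
  · rw [hBeq, hβ, sum_repsIn hc hS hO hI]
    congr 2
    ext r
    rw [Finset.mem_filter, mem_invSet]
    exact ⟨fun h => h.2.2, fun h => ⟨Finset.mem_univ _, h.1, h⟩⟩
  · have hcard : Nat.card (↥A × ↥B) = Nat.card ↥U := by
      refine le_antisymm (Nat.card_le_card_of_injective f hf) ?_
      rw [hU, Nat.card_prod]
      exact Nat.mul_le_mul hA hB
    have hs := ((Nat.bijective_iff_injective_and_card f).2 ⟨hf, hcard⟩).2
    intro u hu
    obtain ⟨⟨a, v⟩, e⟩ := hs ⟨u, hu⟩
    exact ⟨a.1, a.2, v.1, v.2, (congrArg Subtype.val e).symm⟩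

variable (hN : S.nodeTest H = true) (hT : S.bnTest = true)
include hN hT

/-- The order of a twisted group from words representing the elements of its Weyl group. -/
theorem card_twistGrp {ι : Type*} [Fintype ι] (Lf : ι → List (Fin D.rank))
    (hmem : ∀ i, nProd D K (Lf i) ∈ twistGrp hS φ)
    (hcov : ∀ (h : GL D.Idx K) (L : List (Fin D.rank)), h ∈ D.diagonalSubgroup K →
      h * nProd D K L ∈ twistGrp hS φ →
        ∃ i, ∀ r, r < D.nroots → sigs D T L r = sigs D T (Lf i) r)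
    (hdis : ∀ i j, (∀ r, r < D.nroots → sigs D T (Lf i) r = sigs D T (Lf j) r) → i = j) :
    Nat.card ↥(twistGrp hS φ) = q ^ (S.repList.map S.olen).sum *
      Nat.card ↥(D.diagonalSubgroup K ⊓ twistGrp hS φ) *
      ∑ i, q ^ (invSet D (wfun D T (Lf i))).card := by
  classical
  set G := twistGrp hS φ
  set U := D.posUnipotent K ⊓ fixedSub S hS φ
  set Hd := D.diagonalSubgroup K ⊓ G
  have hfixG := twistGrp_le_fixed hc hS φ (S := S)
  have hUG : U ≤ G := posU_fixed_le hc hcomm hS hO φ hN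
  have hstab : ∀ i, StableWord D T S (Lf i) := fun i r hr =>
    simple_img_image hc hS φ (one_mem _) (by rw [one_mul]; exact hfixG (hmem i)) hr
  have hVG : ∀ i, uInv D T K (Lf i) ⊓ fixedSub S hS φ ≤ G := fun i =>
    le_trans (inf_le_inf_right _ (by rw [posUnipotent_eq hc]; exact uInv_le_pos hc _)) hUG
  let F : (Σ i : ι, ↥U × ↥Hd × ↥(uInv D T K (Lf i) ⊓ fixedSub S hS φ)) → ↥G := fun p =>
    ⟨p.2.1.1 * (p.2.2.1.1 * nProd D K (Lf p.1)) * p.2.2.2.1,
      mul_mem (mul_mem (hUG p.2.1.2) (mul_mem p.2.2.1.2.2 (hmem _))) (hVG _ p.2.2.2.2)⟩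
  have hinj : Function.Injective F := by
    rintro ⟨i, u, h, v⟩ ⟨j, u', h', v'⟩ e
    have hu : ∀ x : ↥U, x.1 ∈ uGen D K (fun r => D.nroots / 2 ≤ r) := fun x => by
      rw [← posUnipotent_eq hc]; exact x.2.1
    obtain ⟨h1, h2, h3, h4⟩ := bruhat_unique hc h.2.1 h'.2.1 (hu u) (hu u') v.2.1 v'.2.1
      (congrArg Subtype.val e)
    obtain rfl := hdis i j h1
    obtain rfl : u = u' := Subtype.ext h2
    obtain rfl : v = v' := Subtype.ext h3
    obtain rfl : h = h' := Subtype.ext (mul_right_cancel h4)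
    rfl
  have hsurj : Function.Surjective F := by
    intro g
    obtain ⟨P, hB, hNN, -⟩ := exists_twist_bnPair hc hS φ hO hN hT hcomm (G := G) rfl
    obtain ⟨w, hw⟩ := CfsgLib.BN.exists_cell P g
    obtain ⟨n, hn, rfl⟩ := CfsgLib.BN.exists_rep P w
    obtain ⟨b, hb, b', hb', rfl⟩ := (CfsgLib.BN.mem_cell_wk P hn).1 hw
    rw [hB, Subgroup.mem_subgroupOf] at hb hb'
    rw [hNN, Subgroup.mem_subgroupOf] at hn
    obtain ⟨u₁, hu₁, h₁, hh₁, eb⟩ := twistB_split hc hS φ hO hN hcomm (b := (b : GL D.Idx K)) hb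
    obtain ⟨u₂, hu₂, h₃, hh₃, eb'⟩ := twistB_split hc hS φ hO hN hcomm (b := (b' : GL D.Idx K)) hb'
    obtain ⟨h₂, hh₂, L, en⟩ := monomial_cases hc hn.1
    obtain ⟨i, hi⟩ := hcov h₂ L hh₂ (en ▸ n.2)
    set m := nProd D K (Lf i) with hm
    set d := h₂ * (nProd D K L * m⁻¹) with hd
    have hdH : d ∈ D.diagonalSubgroup K := mul_mem hh₂ (nProd_div_mem hc hi)
    have hdG : d ∈ G := by
      rw [hd, show h₂ * (nProd D K L * m⁻¹) = h₂ * nProd D K L * m⁻¹ by group, ← en]
      exact mul_mem n.2 (inv_mem (hmem i))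
    have hw' : h₃⁻¹ * u₂ * h₃ ∈ U := by
      have hf : h₃⁻¹ * u₂ * h₃ ∈ fixedSub S hS φ :=
        mul_mem (mul_mem (inv_mem (hfixG hh₃.2)) hu₂.2) (hfixG hh₃.2)
      refine ⟨?_, hf⟩
      rw [posUnipotent_eq hc]
      exact diag_conj_mem' hc _ hh₃.1 (by rw [← posUnipotent_eq hc]; exact hu₂.1)
    obtain ⟨a, ha, v, hv, ew⟩ :=
      (fixed_split hc hcomm hS hO φ hq hpar (hstab i)).2 _ hw'
    set k := h₁ * d * (m * h₃ * m⁻¹) with hk
    have hkG : k ∈ G :=
      mul_mem (mul_mem hh₁.2 hdG) (mul_mem (mul_mem (hmem i) hh₃.2) (inv_mem (hmem i)))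
    have hkH : k ∈ Hd :=
      ⟨mul_mem (mul_mem hh₁.1 hdH) (nProd_conj_diagonal hc (Lf i) hh₃.1), hkG⟩
    have hx : u₁ * (k * (m * a * m⁻¹) * k⁻¹) ∈ U := by
      have hf : k * (m * a * m⁻¹) * k⁻¹ ∈ fixedSub S hS φ :=
        mul_mem (mul_mem (hfixG hkH.2) (mul_mem (mul_mem (hfixG (hmem i)) ha.2)
          (inv_mem (hfixG (hmem i))))) (inv_mem (hfixG hkH.2))
      refine mul_mem hu₁ ⟨?_, hf⟩
      rw [posUnipotent_eq hc]
      exact diag_conj_mem hc _ hkH.1 (nProd_conj_keep hc _ ha.1)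
    refine ⟨⟨i, ⟨_, hx⟩, ⟨k, hkH⟩, ⟨v, hv⟩⟩, Subtype.ext ?_⟩
    show u₁ * (k * (m * a * m⁻¹) * k⁻¹) * (k * m) * v =
      (b : GL D.Idx K) * (n : GL D.Idx K) * (b' : GL D.Idx K)
    rw [eb, eb', en, show h₂ * nProd D K L = d * m by rw [hd]; group]
    calc _ = u₁ * k * m * (a * v) := by group
      _ = u₁ * (h₁ * d * (m * h₃ * m⁻¹)) * m * (h₃⁻¹ * u₂ * h₃) := by rw [← ew]
      _ = _ := by group
  rw [← Nat.card_congr (Equiv.ofBijective F ⟨hinj, hsurj⟩), Nat.card_sigma, Finset.mul_sum]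
  refine Finset.sum_congr rfl fun i _ => ?_
  rw [Nat.card_prod, Nat.card_prod, (fixed_split hc hcomm hS hO φ hq hpar (hstab i)).1,
    show Nat.card ↥U = _ from card_posU_fixed hc hcomm hS hO φ hpar, mul_assoc]

end

end CfsgLib.Twisted
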