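import Cfsg.Agent.Lib.Chev.Torus

/-!
Root elements whose roots have no sum in the root system commute.
-/

set_option autoImplicit false

namespace CfsgLib.Twisted

open Cfsg.Lie CfsgLib.Chev Matrix

variable {D : ChevalleyDatum} {T : Tabs}

theorem commute_tabMat (hc : Checked D T) {r s : ℕ} (hr : r < D.nroots) (hs : s < D.nroots)
    (hne : s ≠ D.neg r) (h : D.chainEntry r s = []) {j k : ℕ} (hj : j = 1 ∨ j = 2 ∨ j = 3)
    (hk : k = 1 ∨ k = 2 ∨ k = 3) : Commute (tabMat D T j r) (tabMat D T k s) := by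
  have hder : IsDer D T (tabMat D T 1 r) := isDer_adB hc (Sum.inr ⟨r, hr⟩)
  have hcol : tabMat D T 1 r *ᵥ eVec D s = 0 := by
    funext x
    rw [show eVec D s = Pi.single (Sum.inr ⟨s, hs⟩) 1 from eVec_eq ⟨s, hs⟩,
      Matrix.mulVec_single_one, Matrix.col_apply, tabMat_apply, tabK_one, cd_inr,
      field_t1 hc hr hs, if_neg hne, h]
    simp [optCode]
  have h11 : Commute (tabMat D T 1 r) (tabMat D T 1 s) := by
    have := hder (eVec D s)
    rw [adV_eVec hs, hcol, map_zero, sub_eq_zero] at this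
    exact this
  have lift : ∀ (a : ℕ) (A : Matrix D.Idx D.Idx ℤ), a < D.nroots →
      Commute (tabMat D T 1 a) A → ∀ i, i = 1 ∨ i = 2 ∨ i = 3 → Commute (tabMat D T i a) A := by
    intro a A ha h1 i hi
    obtain ⟨p1, p2, -, -⟩ := pow_spec hc ha
    have h2 : Commute (tabMat D T 2 a) A := by
      have h : Commute ((2 : ℤ) • tabMat D T 2 a) A := by rw [← p1]; exact h1.mul_left h1
      have e := h.eq
      rw [Matrix.smul_mul, Matrix.mul_smul] at e
      exact smul_right_injective (Matrix D.Idx D.Idx ℤ) (show (2 : ℤ) ≠ 0 by norm_num) e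
    rcases hi with rfl | rfl | rfl
    · exact h1
    · exact h2
    · have h : Commute ((3 : ℤ) • tabMat D T 3 a) A := by rw [← p2]; exact h1.mul_left h2
      have e := h.eq
      rw [Matrix.smul_mul, Matrix.mul_smul] at e
      exact smul_right_injective (Matrix D.Idx D.Idx ℤ) (show (3 : ℤ) ≠ 0 by norm_num) e
  exact lift r _ hr (lift s _ hs h11.symm k hk).symm j hj

/-- Root elements commute when the second root is not the negative of the first and the sum is not
a root. -/
theorem commute_elX (hc : Checked D T) {F : Type*} [Field F] {r s : ℕ} (hr : r < D.nroots)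
    (hs : s < D.nroots) (hne : s ≠ D.neg r) (h : D.chainEntry r s = []) (t u : F) :
    Commute (elX D F r t) (elX D F s u) := by
  apply Units.ext
  simp only [Units.val_mul, coe_elX hc F hr, coe_elX hc F hs, xMat_eq hc F hr, xMat_eq hc F hs]
  have hc' : ∀ j k, (j = 1 ∨ j = 2 ∨ j = 3) → (k = 1 ∨ k = 2 ∨ k = 3) →
      Commute ((tabMat D T j r).map (Int.castRingHom F)) ((tabMat D T k s).map (Int.castRingHom F)) :=
    fun j k hj hk => (commute_tabMat hc hr hs hne h hj hk).map (Int.castRingHom F).mapMatrix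
  have a1 : (1 : ℕ) = 1 ∨ (1 : ℕ) = 2 ∨ (1 : ℕ) = 3 := Or.inl rfl
  have a2 : (2 : ℕ) = 1 ∨ (2 : ℕ) = 2 ∨ (2 : ℕ) = 3 := Or.inr (Or.inl rfl)
  have a3 : (3 : ℕ) = 1 ∨ (3 : ℕ) = 2 ∨ (3 : ℕ) = 3 := Or.inr (Or.inr rfl)
  refine Commute.eq ?_
  unfold xTab
  exact (((Commute.one_left _).add_left
      (((((Commute.one_right _).add_right ((hc' 1 1 a1 a1).smul_right _)).add_right
        ((hc' 1 2 a1 a2).smul_right _)).add_right ((hc' 1 3 a1 a3).smul_right _)).smul_left _)).add_left
      (((((Commute.one_right _).add_right ((hc' 2 1 a2 a1).smul_right _)).add_right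
        ((hc' 2 2 a2 a2).smul_right _)).add_right ((hc' 2 3 a2 a3).smul_right _)).smul_left _)).add_left
      (((((Commute.one_right _).add_right ((hc' 3 1 a3 a1).smul_right _)).add_right
        ((hc' 3 2 a3 a2).smul_right _)).add_right ((hc' 3 3 a3 a3).smul_right _)).smul_left _)

end CfsgLib.Twisted
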