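import Cfsg.Agent.Lib.Twisted.Cells
import Cfsg.Agent.Lib.Chev.Order

/-!
The sum of `x ^ length` over the Weyl group of a twisted group, the length being the number of
positive roots made negative, computed from tables of cosets along a chain of parabolic subgroups.
-/

set_option autoImplicit false
set_option linter.unusedSectionVars false

namespace CfsgLib.Twisted

open Cfsg.Lie CfsgLib.Chev CfsgLib.Chevalley

variable {D : ChevalleyDatum} {T : Tabs} {S : TwistSym D} {k : ℕ} [NeZero k]

/-- The word in the fundamental reflections for the reflection of the orbit of a node. -/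
def nodeWord (hS : S.test = true) (i : Fin D.rank) : List (Fin D.rank) :=
  (List.range (S.olen (D.simple i))).map fun m => iterNode hS m i

/-- The word in the fundamental reflections for a word in the orbit reflections. -/
def expand (hS : S.test = true) (nd : Fin k → Fin D.rank) (l : List (Fin k)) :
    List (Fin D.rank) :=
  l.flatMap fun j => nodeWord hS (nd j)

/-- A word in the orbit reflections applied to a root. -/
def TwistSym.wSigs (S : TwistSym D) (nodes : List ℕ) (l : List (Fin k)) (r : ℕ) : ℕ :=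
  l.foldr (fun j s => S.wO (nodes.getD j.1 0) s) r

/-- The number of positive roots made negative by a word in the orbit reflections. -/
def TwistSym.invCnt (S : TwistSym D) (nodes : List ℕ) (l : List (Fin k)) : ℕ :=
  ((List.range D.nroots).filter fun r =>
    decide (D.nroots / 2 ≤ r) && decide (S.wSigs nodes l r < D.nroots / 2)).length

/-- The test for a table of cosets: the representatives keep the fundamental roots of the smaller
parabolic subgroup positive, and the list of the numbers of their lengths. -/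
def TwistSym.sumTest (S : TwistSym D) (nodes : List ℕ)
    (Tb : List (CfsgLib.Weyl.Node k)) (J' : List (Fin k)) (sz : List ℕ) : Bool :=
  let cs := (List.range Tb.length).map fun m =>
    S.invCnt nodes (CfsgLib.Weyl.word Tb m).reverse
  (List.range Tb.length).all (fun m => J'.all fun j =>
    (List.range (S.olen (D.simple (nodes.getD j.1 0)))).all fun t => decide (D.nroots / 2 ≤
      S.wSigs nodes (CfsgLib.Weyl.word Tb m).reverse
        (D.simple (S.nodeIter t (nodes.getD j.1 0))))) &&
  decide (((List.range sz.length).map fun i => cs.count i) = sz ∧ ∀ c ∈ cs, c < sz.length)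

/-- The number of positive roots made negative by a permutation. -/
def permCnt (p : Equiv.Perm (Fin D.nroots)) : ℕ :=
  (Finset.univ.filter fun r : Fin D.nroots =>
    D.nroots / 2 ≤ r.1 ∧ (p r).1 < D.nroots / 2).card

theorem sum_pow_eq_polyEval (cs sz : List ℕ) (x : ℕ)
    (h : ((List.range sz.length).map fun i => cs.count i) = sz ∧ ∀ c ∈ cs, c < sz.length) :
    (cs.map fun c => x ^ c).sum = polyEval sz x := by
  have key : ∀ (m : ℕ) (cs : List ℕ), (∀ c ∈ cs, c < m) →
      (cs.map fun c => x ^ c).sum = ∑ i ∈ Finset.range m, cs.count i * x ^ i := by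
    intro m cs
    induction cs with
    | nil => simp
    | cons a cs ih =>
      intro hlt
      rw [List.map_cons, List.sum_cons, ih fun c hc => hlt c (List.mem_cons_of_mem _ hc)]
      simp only [List.count_cons, add_mul, Finset.sum_add_distrib, beq_iff_eq, ite_mul, one_mul,
        zero_mul]
      rw [Finset.sum_ite_eq, if_pos (Finset.mem_range.2 (hlt a List.mem_cons_self)), add_comm]
  have := polyEval_map (fun i => cs.count i) x sz.length 0
  rw [pow_zero, one_mul, ← List.range_eq_range', h.1] at this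
  rw [key _ cs h.2, this]
  simp

/-- The sum of `x ^ length` over a parabolic subgroup. -/
noncomputable def parSum {M : CoxeterMatrix (Fin k)} [Fintype M.Group]
    (ψ : M.Group →* Equiv.Perm (Fin D.nroots)) (J : List (Fin k)) (x : ℕ) : ℕ :=
  ∑ᶠ w : ↥(CfsgLib.Weyl.par M J), x ^ permCnt (ψ w.1)

theorem wp_reverse {M : CoxeterMatrix (Fin k)} (l : List (Fin k)) :
    CfsgLib.Weyl.wp M l.reverse = (CfsgLib.Weyl.wp M l)⁻¹ := by
  induction l with
  | nil => simp [CfsgLib.Weyl.wp]
  | cons j l ih =>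
    rw [List.reverse_cons, CfsgLib.Weyl.wp_append, ih,
      CfsgLib.Weyl.wp_cons (M := M) j [], CfsgLib.Weyl.wp_nil, mul_one,
      CfsgLib.Weyl.wp_cons (M := M) j l, mul_inv_rev]
    congr 1
    exact (M.toCoxeterSystem.inv_simple j).symm

theorem parSum_nil {M : CoxeterMatrix (Fin k)} [Fintype M.Group]
    (ψ : M.Group →* Equiv.Perm (Fin D.nroots)) (x : ℕ) : parSum ψ [] x = 1 := by
  letI := Fintype.ofFinite ↥(CfsgLib.Weyl.par M [])
  rw [parSum, finsum_eq_sum_of_fintype, Finset.sum_eq_single (1 : ↥(CfsgLib.Weyl.par M []))]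
  · have : permCnt (ψ ((1 : ↥(CfsgLib.Weyl.par M [])) : M.Group)) = 0 := by
      rw [Subgroup.coe_one, map_one, permCnt, Finset.card_eq_zero, Finset.filter_eq_empty_iff]
      rintro r - ⟨h1, h2⟩
      simp only [Equiv.Perm.coe_one, id_eq] at h2
      omega
    rw [this, pow_zero]
  · exact fun w _ hne => absurd (Subtype.ext (Subgroup.mem_bot.1
      (show w.1 ∈ (⊥ : Subgroup M.Group) from CfsgLib.Weyl.par_nil (M := M) ▸ w.2))) hne
  · exact fun h => absurd (Finset.mem_univ _) h

section
variable (hc : Checked D T) (hS : S.test = true) {nodes : List ℕ}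
  {nd : Fin k → Fin D.rank} (hnd : ∀ j, (nd j).1 = nodes.getD j.1 0)
include hc hS

theorem sigs_nodeWord (i : Fin D.rank) {r : ℕ} (hr : r < D.nroots) :
    sigs D T (nodeWord hS i) r = S.wO i r := by
  have : ∀ (n r : ℕ), r < D.nroots →
      sigs D T ((List.range n).map fun m => iterNode hS m i) r = S.wK n i r := by
    intro n
    induction n with
    | zero => intro r _; rfl
    | succ n ih =>
      intro r hr
      rw [List.range_succ, List.map_append, sigs_append]
      show sigs D T _ (sig D T (iterNode hS n i).1 r) = S.wK n i (D.reflectRoot (S.nodeIter n i) r)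
      rw [ih _ (sig_lt hc _ hr), ← iterNode_val hS, reflectRoot_eq hc _ hr]
  exact this _ _ hr

theorem nProd_nodeWord {K : Type*} [Field K] (φ : K ≃+* K) (i : Fin D.rank) :
    nProd D K (nodeWord hS i) = nOrb hS φ i := by
  unfold nodeWord nOrb
  generalize S.olen (D.simple i) = n
  induction n with
  | zero => simp [orbProd]
  | succ n ih =>
    rw [List.range_succ, List.map_append, nProd_append, ih, orbProd_succ,
      iter_elN_simple hc hS φ i.2, List.map_singleton, nProd_cons, nProd_nil, mul_one, iterNode_val]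

theorem nProd_expand_mem {H : List ℤ} {K : Type*} [Field K] (φ : K ≃+* K)
    (hN : S.nodeTest H = true) (l : List (Fin k)) :
    nProd D K (expand hS nd l) ∈ twistGrp hS φ := by
  induction l with
  | nil => simp [expand]
  | cons j l ih =>
    rw [show expand hS nd (j :: l) = nodeWord hS (nd j) ++ expand hS nd l from List.flatMap_cons,
      nProd_append, nProd_nodeWord hc hS φ]
    exact mul_mem (nOrb_mem hc hS φ hN (nd j).2) ih

include hnd

theorem sigs_expand (l : List (Fin k)) {r : ℕ} (hr : r < D.nroots) :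
    sigs D T (expand hS nd l) r = S.wSigs nodes l r := by
  induction l with
  | nil => rfl
  | cons j l ih =>
    rw [show expand hS nd (j :: l) = nodeWord hS (nd j) ++ expand hS nd l from List.flatMap_cons,
      sigs_append, sigs_nodeWord hc hS _ (sigs_lt hc _ hr), ih, hnd]
    rfl

theorem invCnt_eq (l : List (Fin k)) :
    S.invCnt nodes l = (invSet D (wfun D T (expand hS nd l))).card := by
  classical
  rw [TwistSym.invCnt, ← List.toFinset_card_of_nodup (List.nodup_range.filter _),
    ← Finset.card_map Fin.valEmbedding (s := invSet D (wfun D T (expand hS nd l)))]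
  congr 1
  ext r
  simp only [List.mem_toFinset, List.mem_filter, List.mem_range, Bool.and_eq_true,
    decide_eq_true_eq, Finset.mem_map, mem_invSet, Fin.valEmbedding_apply]
  constructor
  · rintro ⟨h1, h2, h3⟩
    exact ⟨⟨r, h1⟩, ⟨h2, by rwa [sigs_expand hc hS hnd l h1]⟩, rfl⟩
  · rintro ⟨v, ⟨h2, h3⟩, rfl⟩
    exact ⟨v.2, h2, by rwa [← sigs_expand hc hS hnd l v.2]⟩

variable {M : CoxeterMatrix (Fin k)} {ψ : M.Group →* Equiv.Perm (Fin D.nroots)}
  (hψ : ∀ (j : Fin k) (r : Fin D.nroots), (ψ (M.simple j) r).1 = S.wO (nodes.getD j.1 0) r.1)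
include hψ

theorem psi_wp (l : List (Fin k)) (r : Fin D.nroots) :
    (ψ (CfsgLib.Weyl.wp M l) r).1 = sigs D T (expand hS nd l) r.1 := by
  induction l generalizing r with
  | nil => rw [CfsgLib.Weyl.wp_nil, map_one]; rfl
  | cons j l ih =>
    rw [CfsgLib.Weyl.wp_cons, map_mul, Equiv.Perm.mul_apply, hψ, ih,
      show expand hS nd (j :: l) = nodeWord hS (nd j) ++ expand hS nd l from List.flatMap_cons,
      sigs_append, sigs_nodeWord hc hS _ (sigs_lt hc _ r.2), hnd]

theorem permCnt_wp (l : List (Fin k)) :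
    permCnt (ψ (CfsgLib.Weyl.wp M l)) = (invSet D (wfun D T (expand hS nd l))).card := by
  unfold permCnt
  congr 1
  ext r
  rw [mem_invSet, ← psi_wp hc hS hnd hψ, Finset.mem_filter]
  exact and_iff_right (Finset.mem_univ r)

omit hnd hψ in
theorem exists_word {J : List (Fin k)} {w : M.Group} (hw : w ∈ CfsgLib.Weyl.par M J) :
    ∃ l : List (Fin k), (∀ j ∈ l, j ∈ J) ∧ CfsgLib.Weyl.wp M l = w := by
  induction hw using Subgroup.closure_induction with
  | mem g hg => obtain ⟨j, hj, rfl⟩ := hg; exact ⟨[j], by simpa using hj, by simp [CfsgLib.Weyl.wp]⟩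
  | one => exact ⟨[], by simp, CfsgLib.Weyl.wp_nil⟩
  | mul a b _ _ ha hb =>
    obtain ⟨l, hl, rfl⟩ := ha
    obtain ⟨l', hl', rfl⟩ := hb
    exact ⟨l ++ l', fun j hj => (List.mem_append.1 hj).elim (hl j) (hl' j),
      CfsgLib.Weyl.wp_append l l'⟩
  | inv a _ ha =>
    obtain ⟨l, hl, rfl⟩ := ha
    exact ⟨l.reverse, fun j hj => hl j (List.mem_reverse.1 hj), wp_reverse l⟩

/-- One step of the chain. -/
theorem parSum_step [Fintype M.Group] {C : List (List ℤ)}
    (hr : CfsgLib.Weyl.repTest C M = true) (hinj : Function.Injective (CfsgLib.Weyl.rep hr))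
    {Tb : List (CfsgLib.Weyl.Node k)} {J J' : List (Fin k)} {sz : List ℕ}
    (h1 : CfsgLib.Weyl.cosetTest Tb M J J' = true) (h2 : CfsgLib.Weyl.vecTest C Tb J' = true)
    (h3 : S.sumTest nodes Tb J' sz = true) (x : ℕ) :
    parSum ψ J x = polyEval sz x * parSum ψ J' x := by
  classical
  simp only [TwistSym.sumTest, Bool.and_eq_true, List.all_eq_true, List.mem_range,
    decide_eq_true_eq] at h3
  obtain ⟨hmin, hsz⟩ := h3
  have hbase := CfsgLib.Weyl.cosetTest_base h1
  have hle : CfsgLib.Weyl.par M J' ≤ CfsgLib.Weyl.par M J :=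
    Subgroup.closure_mono fun g ⟨j, hj, e⟩ => ⟨j, hbase.2.2 j hj, e⟩
  have hword : ∀ m < Tb.length, ∀ x ∈ CfsgLib.Weyl.word Tb m, x ∈ J := by
    intro m
    induction m using Nat.strong_induction_on with
    | _ m ih =>
      intro hm
      by_cases h0 : m = 0
      · rw [h0, hbase.2.1]; simp
      · obtain ⟨hp, hg, hwd, -, -⟩ := CfsgLib.Weyl.cosetTest_tree h1 m hm h0
        rw [hwd]
        intro x hx
        rcases List.mem_append.1 hx with hx | hx
        · exact ih _ hp (hp.trans hm) x hx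
        · rw [List.mem_singleton.1 hx]; exact hg
  let g : Fin Tb.length × ↥(CfsgLib.Weyl.par M J') → ↥(CfsgLib.Weyl.par M J) := fun p =>
    ⟨(CfsgLib.Weyl.wp M (CfsgLib.Weyl.word Tb p.1.1))⁻¹ * p.2.1,
      mul_mem (inv_mem (CfsgLib.Weyl.wp_mem_par (hword _ p.1.2))) (hle p.2.2)⟩
  have hsurj : Function.Surjective g := by
    rintro ⟨w, hw⟩
    obtain ⟨m, hm, u, hu, e⟩ := CfsgLib.Weyl.mem_cosets h1 (inv_mem hw)
    refine ⟨(⟨m, hm⟩, ⟨u⁻¹, inv_mem hu⟩), Subtype.ext ?_⟩
    show (CfsgLib.Weyl.wp M (CfsgLib.Weyl.word Tb m))⁻¹ * u⁻¹ = w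
    rw [← mul_inv_rev, ← e, inv_inv]
  have hcard : Nat.card (Fin Tb.length × ↥(CfsgLib.Weyl.par M J')) =
      Nat.card ↥(CfsgLib.Weyl.par M J) := by
    refine le_antisymm ?_ (Nat.card_le_card_of_surjective g hsurj)
    have := CfsgLib.Weyl.card_map_step hr h1 h2
    rw [Subgroup.card_map_of_injective hinj, Subgroup.card_map_of_injective hinj] at this
    rwa [Nat.card_prod, Nat.card_eq_fintype_card, Fintype.card_fin]
  have hbij := (Nat.bijective_iff_surjective_and_card g).2 ⟨hsurj, hcard⟩
  letI := Fintype.ofFinite ↥(CfsgLib.Weyl.par M J)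
  letI := Fintype.ofFinite ↥(CfsgLib.Weyl.par M J')
  rw [parSum, parSum, finsum_eq_sum_of_fintype, finsum_eq_sum_of_fintype,
    ← Fintype.sum_bijective g hbij _ _ fun _ => rfl, Fintype.sum_prod_type,
    ← sum_pow_eq_polyEval _ _ x hsz, List.map_map, ← List.sum_toFinset _ List.nodup_range,
    List.toFinset_range, Finset.sum_range, Finset.sum_mul]
  refine Finset.sum_congr rfl fun m _ => ?_
  rw [Finset.mul_sum]
  refine Finset.sum_congr rfl fun u _ => ?_
  show x ^ permCnt (ψ ((CfsgLib.Weyl.wp M (CfsgLib.Weyl.word Tb m.1))⁻¹ * u.1)) = _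
  obtain ⟨l, hl, e⟩ := exists_word hc hS u.2
  have hrev := wp_reverse (M := M) (CfsgLib.Weyl.word Tb m.1)
  rw [← e, ← hrev, ← CfsgLib.Weyl.wp_append, permCnt_wp hc hS hnd hψ, permCnt_wp hc hS hnd hψ,
    Function.comp_apply, invCnt_eq hc hS hnd, ← pow_add, show expand hS nd
      ((CfsgLib.Weyl.word Tb m.1).reverse ++ l) = expand hS nd (CfsgLib.Weyl.word Tb m.1).reverse ++
        expand hS nd l from List.flatMap_append]
  congr 1
  refine inv_add hc (J' := expand hS nd J') ?_ ?_
  · intro i hi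
    simp only [expand, List.mem_flatMap] at hi ⊢
    obtain ⟨j, hj, hij⟩ := hi
    exact ⟨j, hl j hj, hij⟩
  · intro i hi
    simp only [expand, List.mem_flatMap, nodeWord, List.mem_map, List.mem_range] at hi
    obtain ⟨j, hj, t, ht, rfl⟩ := hi
    rw [sigs_expand hc hS hnd _ (simple_lt hc (Fin.is_lt _)), iterNode_val, hnd]
    exact hmin m.1 m.2 j hj t (by rwa [← hnd])

end

/-- The order of a twisted group from its Weyl group. -/
theorem exists_card_twistGrp {H : List ℤ} {K : Type*} [Field K] [Fintype K] (hc : Checked D T)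
    (hcomm : CommOne D T) (hS : S.test = true) (hO : S.orbitTest T = true) (φ : K ≃+* K) {q : ℕ}
    (hq : 0 < q) (hpar : ∀ r ∈ S.repList, Nat.card {t : K // IsPar S φ r t} = q ^ S.olen r)
    (hN : S.nodeTest H = true) (hT : S.bnTest = true) {M : CoxeterMatrix (Fin k)}
    [Fintype M.Group] {C C' : List (List ℤ)} {π nodes : List ℕ}
    (hW : S.weylTest T M C C' π nodes = true) (hr : CfsgLib.Weyl.repTest C M = true)
    (hinj : Function.Injective (CfsgLib.Weyl.rep hr)) :
    ∃ (ψ : M.Group →* Equiv.Perm (Fin D.nroots)) (nd : Fin k → Fin D.rank),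
      (∀ j, (nd j).1 = nodes.getD j.1 0) ∧
      (∀ (j : Fin k) (r : Fin D.nroots), (ψ (M.simple j) r).1 = S.wO (nodes.getD j.1 0) r.1) ∧
      ∀ J : List (Fin k), (∀ j, j ∈ J) →
        Nat.card ↥(twistGrp hS φ) = q ^ (S.repList.map S.olen).sum *
          Nat.card ↥(D.diagonalSubgroup K ⊓ twistGrp hS φ) * parSum ψ J q := by
  classical
  obtain ⟨ψ, hψi, hnode, hψs, hrange⟩ := exists_weyl_rep hc hS φ hO hN hT hW hr hinj
  obtain ⟨ρ, hρ⟩ := exists_rootPerm hc (K := K)
  set nd : Fin k → Fin D.rank := fun j => ⟨nodes.getD j.1 0, hnode j⟩ with hnd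
  refine ⟨ψ, nd, fun _ => rfl, hψs, fun J hJ => ?_⟩
  have htop := CfsgLib.Weyl.par_eq_top (M := M) hJ
  have hw : ∀ w : M.Group, ∃ l : List (Fin k), CfsgLib.Weyl.wp M l = w := fun w => by
    obtain ⟨l, -, e⟩ := exists_word hc hS (J := J) (w := w) (htop ▸ Subgroup.mem_top w)
    exact ⟨l, e⟩
  choose wl hwl using hw
  have hsig : ∀ (w : M.Group) (r : Fin D.nroots),
      sigs D T (expand hS nd (wl w)) r.1 = (ψ w r).1 := fun w r => by
    rw [← psi_wp hc hS (fun _ => rfl) hψs, hwl]
  rw [card_twistGrp hc hcomm hS hO φ hq hpar hN hT (fun w => expand hS nd (wl w))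
    (fun w => nProd_expand_mem hc hS φ hN _) ?_ ?_]
  · congr 1
    letI := Fintype.ofFinite ↥(CfsgLib.Weyl.par M J)
    rw [parSum, finsum_eq_sum_of_fintype]
    refine Fintype.sum_equiv ⟨fun w => ⟨w, htop ▸ Subgroup.mem_top w⟩, fun w => w.1,
      fun _ => rfl, fun _ => rfl⟩ _ _ fun w => ?_
    show q ^ _ = q ^ permCnt (ψ w)
    rw [← permCnt_wp hc hS (fun _ => rfl) hψs, hwl]
  · intro h L hh hmem
    have hN₁ : h * nProd D K L ∈ D.monomialSubgroup K ⊓ twistGrp hS φ :=
      ⟨mul_mem (diagonal_le_monomial hc hh) (nProd_mem_monomial hc L), hmem⟩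
    obtain ⟨w, hw⟩ : ρ (⟨h * nProd D K L, hN₁.1⟩ : ↥(D.monomialSubgroup K)) ∈ ψ.range :=
      hrange ρ hρ (⟨h * nProd D K L, hN₁⟩ : ↥(D.monomialSubgroup K ⊓ twistGrp hS φ))
    refine ⟨w, fun r hr => ?_⟩
    rw [hsig w ⟨r, hr⟩, hw]
    obtain ⟨c, -, hcx⟩ := nProd_conj_elX hc (F := K) L hr
    obtain ⟨e, he⟩ := diagonal_conj_elX hc hh (sigs_lt hc L hr)
    exact IsImg.unique hc (sigs_lt hc L hr) (Fin.isLt _)
      ((show IsImg D (nProd D K L) r (sigs D T L r) from ⟨c, hcx⟩).mul hc ⟨e, he⟩)
      (hρ (⟨h * nProd D K L, hN₁.1⟩ : ↥(D.monomialSubgroup K)) ⟨r, hr⟩)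
  · intro a b h
    refine hψi (Equiv.ext fun r => Fin.ext ?_)
    rw [← hsig, ← hsig, h r.1 r.2]

end CfsgLib.Twisted
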