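import Cfsg.Agent.Lib.Twisted.F4Sigma

/-!
The root combinatorics of 2F4: the two orbit reflections, their alternating products, and the
classes of positive roots that these cut out.
-/

set_option autoImplicit false
set_option maxRecDepth 4000

namespace CfsgLib.ReeF4

open Cfsg.Lie CfsgLib.Chev

/-- The words of the reflections of the two orbits of nodes: the orthogonal pair and the B2 pair. -/
def jl : Bool → List (Fin chevF4.rank)
  | false => [(⟨0, by decide⟩ : Fin chevF4.rank), ⟨3, by decide⟩]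
  | true => [(⟨1, by decide⟩ : Fin chevF4.rank), ⟨2, by decide⟩, ⟨1, by decide⟩, ⟨2, by decide⟩]

/-- The orbit used at step `k` of the alternating product that starts with `s`. -/
def sideAt (s : Bool) (k : ℕ) : Bool := xor s (Nat.beq (k % 2) 1)

/-- The alternating product of `k` orbit reflections starting with the orbit `s`. -/
def altW (s : Bool) : ℕ → List (Fin chevF4.rank)
  | 0 => []
  | k + 1 => altW s k ++ jl (sideAt s k)

/-- The positive roots of an orbit of nodes. -/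
abbrev JRoot (s : Bool) (r : ℕ) : Prop := InvRoot chevF4 tb (jl s) r

/-- The roots that remain positive after `k` steps. -/
abbrev TRoot (s : Bool) (k r : ℕ) : Prop := KeepRoot chevF4 tb (altW s k).reverse r

/-- The roots made negative in the first `k` steps. -/
abbrev IRoot (s : Bool) (k r : ℕ) : Prop := InvRoot chevF4 tb (altW s k).reverse r

/-- The class of roots cut out at step `k`. -/
def SRoot (s : Bool) (k r : ℕ) : Prop :=
  24 ≤ r ∧ 24 ≤ sigs chevF4 tb (altW s k).reverse r ∧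
    sigs chevF4 tb (altW s (k + 1)).reverse r < 24

theorem jl_roots : ∀ r : Fin 48,
    (JRoot false r ↔ (r : ℕ) ∈ [f4p1, f4p4]) ∧
    (JRoot true r ↔ (r : ℕ) ∈ [f4a, f4b, f4ab, f4aab]) := by
  unfold JRoot InvRoot; decide +kernel

theorem jl_commute : ∀ s : Bool, ∀ r : Fin 48,
    rho (sigs chevF4 tb (jl s) r) = sigs chevF4 tb (jl s) (rho r) ∧
    sigs chevF4 tb (jl s) (sigs chevF4 tb (jl s) r) = r ∧
    sigs chevF4 tb (jl s).reverse r = sigs chevF4 tb (jl s) r := by decide +kernel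

theorem step_mono : ∀ s : Bool, ∀ k : Fin 8, ∀ r : Fin 48, 24 ≤ (r : ℕ) →
    sigs chevF4 tb (altW s k).reverse r < 24 →
    sigs chevF4 tb (altW s (k + 1)).reverse r < 24 := by decide +kernel

theorem sroot_image : ∀ s : Bool, ∀ k : Fin 8, ∀ r : Fin 48,
    (24 ≤ (r : ℕ) ∧ 24 ≤ sigs chevF4 tb (altW s k).reverse r ∧
      sigs chevF4 tb (altW s (k + 1)).reverse r < 24) ↔
    (24 ≤ sigs chevF4 tb (altW s k).reverse r ∧
      sigs chevF4 tb (jl (sideAt s k)) (sigs chevF4 tb (altW s k).reverse r) < 24) := by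
  decide +kernel

theorem altW_commute : ∀ s : Bool, ∀ k : Fin 9, ∀ r : Fin 48,
    rho (sigs chevF4 tb (altW s k).reverse r) = sigs chevF4 tb (altW s k).reverse (rho r) ∧
    sigs chevF4 tb (altW s k).reverse (sigs chevF4 tb (altW s k) r) = r := by decide +kernel

theorem longest : ∀ s : Bool, ∀ r : Fin 48, 24 ≤ (r : ℕ) →
    sigs chevF4 tb (altW s 8).reverse r < 24 ∧ sigs chevF4 tb (altW s 8) r < 24 := by
  decide +kernel

theorem sideAt_succ (s : Bool) (k : ℕ) : sideAt s (k + 1) = !sideAt s k := by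
  unfold sideAt
  rcases Nat.mod_two_eq_zero_or_one k with h | h <;>
    simp [h, Nat.add_mod, show Nat.beq 0 1 = false from rfl, show Nat.beq 1 1 = true from rfl]

theorem sideAt_zero (s : Bool) : sideAt s 0 = s := by cases s <;> rfl

section
variable {s : Bool} {k r : ℕ}

theorem sroot_iff (hk : k < 8) (hr : r < 48) : SRoot s k r ↔
    JRoot (sideAt s k) (sigs chevF4 tb (altW s k).reverse r) :=
  sroot_image s ⟨k, hk⟩ ⟨r, hr⟩

theorem troot_split (hk : k < 8) (hr : r < 48) :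
    TRoot s k r ↔ SRoot s k r ∨ TRoot s (k + 1) r := by
  constructor
  · rintro ⟨h1, h2⟩
    rcases Nat.lt_or_ge (sigs chevF4 tb (altW s (k + 1)).reverse r) 24 with g | g
    · exact Or.inl ⟨h1, h2, g⟩
    · exact Or.inr ⟨h1, g⟩
  · rintro (⟨h1, h2, -⟩ | ⟨h1, h2⟩)
    · exact ⟨h1, h2⟩
    · refine ⟨h1, Nat.le_of_not_lt fun g => ?_⟩
      exact absurd (step_mono s ⟨k, hk⟩ ⟨r, hr⟩ h1 g) (Nat.not_lt.2 h2)

theorem iroot_split (hk : k < 8) (hr : r < 48) :
    IRoot s (k + 1) r ↔ IRoot s k r ∨ SRoot s k r := by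
  constructor
  · rintro ⟨h1, h2⟩
    rcases Nat.lt_or_ge (sigs chevF4 tb (altW s k).reverse r) 24 with g | g
    · exact Or.inl ⟨h1, g⟩
    · exact Or.inr ⟨h1, g, h2⟩
  · rintro (⟨h1, h2⟩ | ⟨h1, -, h3⟩)
    · exact ⟨h1, step_mono s ⟨k, hk⟩ ⟨r, hr⟩ h1 h2⟩
    · exact ⟨h1, h3⟩

theorem rho_sigs (hk : k < 9) (hr : r < 48) :
    rho (sigs chevF4 tb (altW s k).reverse r) = sigs chevF4 tb (altW s k).reverse (rho r) :=
  (altW_commute s ⟨k, hk⟩ ⟨r, hr⟩).1

theorem rho_pos' {x : ℕ} (hx : x < 48) : 24 ≤ rho x ↔ 24 ≤ x := rho_pos hx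

theorem troot_rho (hk : k < 9) (hr : r < 48) (h : TRoot s k r) : TRoot s k (rho r) := by
  refine ⟨(rho_pos hr).2 h.1, ?_⟩
  rw [← rho_sigs hk hr]
  exact (rho_pos (sigs_lt hc _ hr)).2 h.2

theorem iroot_rho (hk : k < 9) (hr : r < 48) (h : IRoot s k r) : IRoot s k (rho r) := by
  refine ⟨(rho_pos hr).2 h.1, ?_⟩
  rw [← rho_sigs hk hr]
  have := rho_pos (sigs_lt hc (altW s k).reverse hr)
  have := h.2
  show _ < 24
  change _ < 24 at this
  omega

theorem sroot_rho (hk : k < 8) (hr : r < 48) (h : SRoot s k r) : SRoot s k (rho r) := by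
  refine ⟨(rho_pos hr).2 h.1, (troot_rho (by omega) hr ⟨h.1, h.2.1⟩).2,
    (iroot_rho (s := s) (k := k + 1) (by omega) hr ⟨h.1, h.2.2⟩).2⟩

theorem closedPos_and {P Q : ℕ → Prop} (hP : ClosedPos chevF4 tb P) (hQ : ClosedPos chevF4 tb Q) :
    ClosedPos chevF4 tb fun r => P r ∧ Q r :=
  ⟨fun r hr h => hP.1 r hr h.1, fun r s v hr hs h1 h2 hv =>
    ⟨hP.2 r s v hr hs h1.1 h2.1 hv, hQ.2 r s v hr hs h1.2 h2.2 hv⟩⟩

theorem closedPos_sroot (s : Bool) (k : ℕ) : ClosedPos chevF4 tb (SRoot s k) := by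
  have h := closedPos_and (closedPos_keep hc (altW s k).reverse)
    (closedPos_inv hc (altW s (k + 1)).reverse)
  refine ⟨fun r _ h' => h'.1, fun r u v hr hu h1 h2 hv => ?_⟩
  obtain ⟨⟨a, b⟩, -, c⟩ := h.2 r u v hr hu ⟨⟨h1.1, h1.2.1⟩, h1.1, h1.2.2⟩
    ⟨⟨h2.1, h2.2.1⟩, h2.1, h2.2.2⟩ hv
  exact ⟨a, b, c⟩

end

end CfsgLib.ReeF4
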