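import Cfsg.Agent.Lib.Twisted.F4Word
import Cfsg.Agent.Lib.Twisted.F4Roots
import Cfsg.Agent.Lib.Twisted.Commute

/-!
The generators of 2F4 are fixed by σ; the two elements `n_J`; the fixed elements in the unipotent
groups of the two classes of simple roots.
-/

set_option autoImplicit false
set_option linter.unusedSectionVars false
set_option maxRecDepth 4000

namespace CfsgLib.ReeF4

open Cfsg.Lie CfsgLib.Chev

variable {K : Type*} [Field K] [Fintype K] {m : ℕ} {σ : MulAut ↥(chevF4.group K)}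

/-- A root element. -/
noncomputable abbrev X (r : ℕ) (t : K) : GL chevF4.Idx K := elX chevF4 K r t

/-- The group 2F4 of the definition. -/
abbrev G1 (K : Type*) [Field K] (m : ℕ) : Subgroup (GL chevF4.Idx K) := twistedF4 K (2 ^ m)

/-- The monomial element of an orbit of nodes. -/
noncomputable abbrev nJ (K : Type*) [Field K] (s : Bool) : GL chevF4.Idx K := nProd chevF4 K (jl s)

theorem commute_check : ∀ p ∈ ([(33, 24), (24, 33), (14, 23), (23, 14), (28, 30), (30, 28), (19, 17),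
    (17, 19)] : List (ℕ × ℕ)), p.1 < 48 ∧ p.2 < 48 ∧ p.2 ≠ p.1 ∧ p.2 ≠ chevF4.neg p.1 ∧
      chevF4.chainEntry p.1 p.2 = [] := by decide +kernel

theorem X_comm {r s : ℕ} (h : (r, s) ∈ ([(33, 24), (24, 33), (14, 23), (23, 14), (28, 30), (30, 28),
    (19, 17), (17, 19)] : List (ℕ × ℕ))) (t u : K) : Commute (X r t) (X s u) := by
  obtain ⟨h1, h2, h3, h4, h5⟩ := commute_check _ h
  exact CfsgLib.Twisted.commute_elX hc h1 h2 h4 h5 t u

/-- The quadruples `(a, b, a + b, 2a + b)` of the two B2 classes of simple roots and negatives. -/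
def quads : List (ℕ × ℕ × ℕ × ℕ) :=
  [(f4a, f4b, f4ab, f4aab), (f4ma, f4mb, f4mab, f4maab)]

theorem quad_facts : ∀ q ∈ quads,
    q.1 < 48 ∧ q.2.1 < 48 ∧ q.2.2.1 < 48 ∧ q.2.2.2 < 48 ∧ q.1 ≠ q.2.1 ∧
    q.1 ≠ chevF4.neg q.2.1 ∧
    rho q.1 = q.2.1 ∧ rho q.2.1 = q.1 ∧ rho q.2.2.1 = q.2.2.2 ∧ rho q.2.2.2 = q.2.2.1 ∧
    rexp q.1 = 2 ∧ rexp q.2.1 = 1 ∧ rexp q.2.2.1 = 2 ∧ rexp q.2.2.2 = 1 ∧
    (q.2.2.1, q.2.2.2) ∈ ([(33, 24), (24, 33), (14, 23), (23, 14), (28, 30), (30, 28),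
      (19, 17), (17, 19)] : List (ℕ × ℕ)) ∧
    (chevF4.commTerms q.2.1 q.1).map (fun c => (c.1, c.2.1 % 2, c.2.2)) =
      [(q.2.2.1, 1, 1, 1), (q.2.2.2, 1, 1, 2)] := by decide +kernel

section
variable (hσ : IsSigma m σ)
include hσ

theorem neg_self (x : K) : -x = x := by linear_combination (-x) * hσ.char2

theorem add_self (x : K) : x + x = 0 := by linear_combination x * hσ.char2

theorem cast_odd {c : ℤ} (h : c % 2 = 1) : (c : K) = 1 := by
  rw [← Int.cast_one, ← sub_eq_zero, ← Int.cast_sub]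
  obtain ⟨d, hd⟩ : (2 : ℤ) ∣ c - 1 := by omega
  rw [hd, Int.cast_mul, Int.cast_ofNat, hσ.char2, zero_mul]

theorem quad_swap {a b ab aab : ℕ} (hq : (a, b, ab, aab) ∈ quads) (P Q : K) :
    X a P * X b Q = X b Q * X a P * X ab (P * Q) * X aab (P ^ 2 * Q) := by
  obtain ⟨ha, hb, hab, haab, h1, h2, -, -, -, -, -, -, -, -, -, ht⟩ := quad_facts _ hq
  simp only at ha hb hab haab h1 h2 ht
  have h := elX_comm hc hcomm (F := K) (show b < chevF4.nroots from hb)
    (show a < chevF4.nroots from ha) h1 h2 Q P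
  rw [wordGL, ChevalleyDatum.commWord] at h
  obtain ⟨c, d, e⟩ : ∃ c d, chevF4.commTerms b a = [c, d] := by
    rcases hl : chevF4.commTerms b a with _ | ⟨c, _ | ⟨d, _ | ⟨e, l⟩⟩⟩ <;> rw [hl] at ht <;>
      simp at ht
    exact ⟨c, d, rfl⟩
  rw [e] at h ht
  obtain ⟨c1, c2, c3, c4⟩ := c
  obtain ⟨d1, d2, d3, d4⟩ := d
  simp only [List.map_cons, List.map_nil, List.cons.injEq, Prod.mk.injEq, and_true] at ht
  obtain ⟨⟨rfl, hc2, rfl, rfl⟩, ⟨rfl, hd2, rfl, rfl⟩⟩ := ht
  simp only [List.map_cons, List.map_nil, List.prod_cons, List.prod_nil, mul_one,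
    cast_odd hσ hc2, cast_odd hσ hd2, one_mul, neg_self hσ, pow_one] at h
  rw [show X a P * X b Q = _ from h]
  show _ * (X c1 (Q * P) * X d1 (Q * P ^ 2)) = _
  rw [mul_comm Q P, mul_comm Q (P ^ 2), mul_assoc (X b Q * X a P)]

/-- Normal form of the fixed elements of a B2 class. -/
noncomputable def quadNF (m : ℕ) (a b ab aab : ℕ) (t u : K) : GL chevF4.Idx K :=
  X b t * X a (t ^ 2 ^ m) * X ab u * X aab (t ^ (2 * 2 ^ m + 1) + u ^ (2 * 2 ^ m))

theorem quad_word_eq {a b ab aab : ℕ} (hq : (a, b, ab, aab) ∈ quads) (t u : K) :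
    X a (t ^ 2 ^ m) * X b t * X ab (t ^ (2 ^ m + 1) + u) * X aab (u ^ (2 * 2 ^ m)) =
      quadNF m a b ab aab t u := by
  obtain ⟨-, -, hab, haab, -, -, -, -, -, -, -, -, -, -, hcc, -⟩ := quad_facts _ hq
  simp only at hab haab hcc
  rw [quad_swap hσ hq, quadNF]
  simp only [mul_assoc]
  congr 2
  rw [← mul_assoc (X aab _) (X ab _), ← (X_comm hcc _ _).eq, mul_assoc (X ab _) (X aab _),
    ← mul_assoc (X ab _) (X ab _), elX_add hc K (show ab < chevF4.nroots from hab),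
    elX_add hc K (show aab < chevF4.nroots from haab)]
  congr 2
  · rw [pow_succ, ← add_assoc, add_self hσ, zero_add]
  · rw [← pow_mul, ← pow_succ, mul_comm (2 ^ m) 2]

theorem quad_sigma {a b ab aab : ℕ} (hq : (a, b, ab, aab) ∈ quads) (A B C E : K) :
    simg σ (X b B * X a A * X ab C * X aab E) =
      X b (A ^ (2 * 2 ^ m)) * X a (B ^ 2 ^ m) * X ab (B ^ 2 ^ m * A ^ (2 * 2 ^ m) + E ^ 2 ^ m) *
        X aab ((B ^ 2 ^ m) ^ 2 * A ^ (2 * 2 ^ m) + C ^ (2 * 2 ^ m)) := by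
  obtain ⟨ha, hb, hab, haab, -, -, r1, r2, r3, r4, e1, e2, e3, e4, hcc, -⟩ := quad_facts _ hq
  simp only at ha hb hab haab r1 r2 r3 r4 e1 e2 e3 e4 hcc
  have gm := fun {r : ℕ} (hr : r < 48) (x : K) =>
    elX_mem_group hc (show r < chevF4.nroots from hr) x
  rw [simg_mul (mul_mem (mul_mem (gm hb B) (gm ha A)) (gm hab C)) (gm haab E),
    simg_mul (mul_mem (gm hb B) (gm ha A)) (gm hab C), simg_mul (gm hb B) (gm ha A),
    simg_elX hσ (show a < chevF4.nroots from ha), simg_elX hσ (show b < chevF4.nroots from hb),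
    simg_elX hσ (show ab < chevF4.nroots from hab),
    simg_elX hσ (show aab < chevF4.nroots from haab), r1, r2, r3, r4]
  simp only [phi, e1, e2, e3, e4, one_mul]
  rw [quad_swap hσ hq]
  simp only [mul_assoc]
  congr 2
  rw [← (X_comm hcc (E ^ 2 ^ m) (C ^ (2 * 2 ^ m))).eq,
    ← mul_assoc (X aab _) (X ab _), ← (X_comm hcc _ _).eq, mul_assoc (X ab _) (X aab _),
    ← mul_assoc (X ab _) (X ab _), elX_add hc K (show ab < chevF4.nroots from hab),
    elX_add hc K (show aab < chevF4.nroots from haab)]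

theorem quadNF_fixed {a b ab aab : ℕ} (hq : (a, b, ab, aab) ∈ quads) (t u : K) :
    quadNF m a b ab aab t u ∈ fixF σ := by
  obtain ⟨ha, hb, hab, haab, -⟩ := quad_facts _ hq
  simp only at ha hb hab haab
  refine mem_fixF.2 ⟨mul_mem (mul_mem (mul_mem (elX_mem_group hc (show b < chevF4.nroots from hb) _)
    (elX_mem_group hc (show a < chevF4.nroots from ha) _))
    (elX_mem_group hc (show ab < chevF4.nroots from hab) _))
    (elX_mem_group hc (show aab < chevF4.nroots from haab) _), ?_⟩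
  rw [quadNF, quad_sigma hσ hq]
  have hc1 := pow_cycle hσ t
  have hc2 := pow_cycle hσ u
  have h2 := CfsgLib.ReeF4.charP_two hσ.card
  have e1 : (t ^ 2 ^ m) ^ (2 * 2 ^ m) = t := by
    rw [← pow_mul, show 2 ^ m * (2 * 2 ^ m) = 2 * 2 ^ m * 2 ^ m by ring, hc1]
  have e2 : (t ^ (2 * 2 ^ m + 1) + u ^ (2 * 2 ^ m)) ^ 2 ^ m = t ^ (2 ^ m + 1) + u := by
    rw [add_pow_char_pow, ← pow_mul, ← pow_mul, hc2,
      show (2 * 2 ^ m + 1) * 2 ^ m = 2 * 2 ^ m * 2 ^ m + 2 ^ m by ring, pow_add, hc1, pow_succ']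
  rw [e1, e2]
  congr 2
  · rw [pow_succ, ← add_assoc, add_self hσ, zero_add]
  · rw [← pow_mul, ← pow_succ, mul_comm (2 ^ m) 2]

theorem pair_sigma {r s : ℕ} (h : (r, s) ∈ [(f4p1, f4p4), (f4m1, f4m4)]) (A B : K) :
    simg σ (X r A * X s B) = X r (B ^ 2 ^ m) * X s (A ^ (2 * 2 ^ m)) := by
  have hf : ∀ p ∈ [(f4p1, f4p4), (f4m1, f4m4)], p.1 < 48 ∧ p.2 < 48 ∧ rho p.1 = p.2 ∧
      rho p.2 = p.1 ∧ rexp p.1 = 2 ∧ rexp p.2 = 1 := by decide +kernel
  obtain ⟨h1, h2, r1, r2, e1, e2⟩ := hf _ h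
  simp only at h1 h2 r1 r2 e1 e2
  rw [simg_mul (elX_mem_group hc (show r < chevF4.nroots from h1) _)
    (elX_mem_group hc (show s < chevF4.nroots from h2) _),
    simg_elX hσ (show r < chevF4.nroots from h1), simg_elX hσ (show s < chevF4.nroots from h2),
    r1, r2]
  simp only [phi, e1, e2, one_mul]
  have hm : (s, r) ∈ ([(33, 24), (24, 33), (14, 23), (23, 14), (28, 30), (30, 28), (19, 17),
      (17, 19)] : List (ℕ × ℕ)) := by
    simp only [List.mem_cons, List.not_mem_nil, or_false, Prod.mk.injEq] at h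
    rcases h with ⟨rfl, rfl⟩ | ⟨rfl, rfl⟩ <;> decide
  exact (X_comm hm _ _).eq

theorem pair_fixed {r s : ℕ} (h : (r, s) ∈ [(f4p1, f4p4), (f4m1, f4m4)]) (t : K) :
    X r (t ^ 2 ^ m) * X s t ∈ fixF σ := by
  have hf : ∀ p ∈ [(f4p1, f4p4), (f4m1, f4m4)], p.1 < 48 ∧ p.2 < 48 := by decide +kernel
  refine mem_fixF.2 ⟨mul_mem (elX_mem_group hc (show r < chevF4.nroots from (hf _ h).1) _)
    (elX_mem_group hc (show s < chevF4.nroots from (hf _ h).2) _), ?_⟩
  rw [pair_sigma hσ h, ← pow_mul, show 2 ^ m * (2 * 2 ^ m) = 2 * 2 ^ m * 2 ^ m by ring,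
    pow_cycle hσ]

/-- The generators are fixed by σ. -/
theorem G1_le_fix : G1 K m ≤ fixF σ := by
  refine (Subgroup.closure_le _).2 ?_
  rintro g ⟨w, hw, hg⟩
  have hlt : ∀ r ∈ [f4p1, f4p4, f4m1, f4m4, f4a, f4b, f4ab, f4aab, f4ma, f4mb, f4mab, f4maab],
      r < chevF4.nroots := by decide +kernel
  rcases hw with ⟨t, rfl | rfl⟩ | ⟨t, u, rfl | rfl⟩
  · have e : g = X f4p1 (t ^ 2 ^ m) * X f4p4 t := by
      ext1; rw [hg, Units.val_mul, coe_elX hc K (hlt _ (by simp)), coe_elX hc K (hlt _ (by simp))]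
      simp [ChevalleyDatum.wordMat, f4PairWord]
    rw [e]; exact pair_fixed hσ (by simp) t
  · have e : g = X f4m1 (t ^ 2 ^ m) * X f4m4 t := by
      ext1; rw [hg, Units.val_mul, coe_elX hc K (hlt _ (by simp)), coe_elX hc K (hlt _ (by simp))]
      simp [ChevalleyDatum.wordMat, f4PairWord]
    rw [e]; exact pair_fixed hσ (by simp) t
  · have e : g = quadNF m f4a f4b f4ab f4aab t u := by
      rw [← quad_word_eq hσ (show (f4a, f4b, f4ab, f4aab) ∈ quads by simp [quads]) t u]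
      ext1
      rw [hg, Units.val_mul, Units.val_mul, Units.val_mul, coe_elX hc K (hlt _ (by simp)),
        coe_elX hc K (hlt _ (by simp)), coe_elX hc K (hlt _ (by simp)), coe_elX hc K (hlt _ (by simp))]
      simp [ChevalleyDatum.wordMat, b2ClassWord, mul_assoc]
    rw [e]; exact quadNF_fixed hσ (by simp [quads]) t u
  · have e : g = quadNF m f4ma f4mb f4mab f4maab t u := by
      rw [← quad_word_eq hσ (show (f4ma, f4mb, f4mab, f4maab) ∈ quads by simp [quads]) t u]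
      ext1
      rw [hg, Units.val_mul, Units.val_mul, Units.val_mul, coe_elX hc K (hlt _ (by simp)),
        coe_elX hc K (hlt _ (by simp)), coe_elX hc K (hlt _ (by simp)), coe_elX hc K (hlt _ (by simp))]
      simp [ChevalleyDatum.wordMat, b2ClassWord, mul_assoc]
    rw [e]; exact quadNF_fixed hσ (by simp [quads]) t u

theorem pairWord_mem (t : K) : X f4p1 (t ^ 2 ^ m) * X f4p4 t ∈ G1 K m ∧
    X f4m1 (t ^ 2 ^ m) * X f4m4 t ∈ G1 K m := by
  have hlt : ∀ r ∈ [f4p1, f4p4, f4m1, f4m4], r < chevF4.nroots := by decide +kernel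
  constructor
  · refine Subgroup.subset_closure ⟨_, Or.inl ⟨t, Or.inl rfl⟩, ?_⟩
    rw [Units.val_mul, coe_elX hc K (hlt _ (by simp)), coe_elX hc K (hlt _ (by simp))]
    simp [ChevalleyDatum.wordMat, f4PairWord]
  · refine Subgroup.subset_closure ⟨_, Or.inl ⟨t, Or.inr rfl⟩, ?_⟩
    rw [Units.val_mul, coe_elX hc K (hlt _ (by simp)), coe_elX hc K (hlt _ (by simp))]
    simp [ChevalleyDatum.wordMat, f4PairWord]

theorem quadNF_mem {a b ab aab : ℕ} (hq : (a, b, ab, aab) ∈ quads) (t u : K) :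
    quadNF m a b ab aab t u ∈ G1 K m := by
  obtain ⟨ha, hb, hab, haab, -⟩ := quad_facts _ hq
  simp only at ha hb hab haab
  rw [← quad_word_eq hσ hq]
  simp only [quads, List.mem_cons, Prod.mk.injEq, List.not_mem_nil, or_false] at hq
  refine Subgroup.subset_closure ⟨b2ClassWord (2 ^ m) a b ab aab t u, Or.inr ⟨t, u, ?_⟩, ?_⟩
  · rcases hq with ⟨rfl, rfl, rfl, rfl⟩ | ⟨rfl, rfl, rfl, rfl⟩
    · exact Or.inl rfl
    · exact Or.inr rfl
  · rw [Units.val_mul, Units.val_mul, Units.val_mul,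
      coe_elX hc K (show a < chevF4.nroots from ha), coe_elX hc K (show b < chevF4.nroots from hb),
      coe_elX hc K (show ab < chevF4.nroots from hab),
      coe_elX hc K (show aab < chevF4.nroots from haab)]
    simp [ChevalleyDatum.wordMat, b2ClassWord, mul_assoc]

theorem nProd_letters (L : List (Fin chevF4.rank)) :
    nProd chevF4 K L =
      ((L.map fun i => nLetters chevF4 i.val).flatten.map fun r => X r (1 : K)).prod := by
  induction L with
  | nil => simp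
  | cons i L ih =>
    rw [nProd_cons, ih, List.map_cons, List.flatten_cons, List.map_append, List.prod_append]
    congr 1
    simp [nLetters, elN, neg_self hσ, mul_assoc]

theorem nJ_mem (s : Bool) : nJ K s ∈ G1 K m := by
  obtain ⟨w1, -, w3, -⟩ := word_checks
  cases s
  · have h := word_eq_of_test hc hσ.char2 w1
    have hp := (pairWord_mem hσ (1 : K))
    rw [one_pow] at hp
    rw [nJ, nProd_letters hσ]
    show (((nLetters chevF4 0 ++ (nLetters chevF4 3 ++ [])) : List ℕ).map fun r => X r (1 : K)).prod ∈ _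
    rw [List.append_nil, h]
    simp only [List.map_append, List.prod_append, List.map_cons, List.map_nil, List.prod_cons,
      List.prod_nil, mul_one]
    exact mul_mem (mul_mem hp.1 hp.2) hp.1
  · have h := word_eq_of_test hc hσ.char2 w3
    rw [nJ, nProd_letters hσ]
    show (((nLetters chevF4 1 ++ (nLetters chevF4 2 ++ (nLetters chevF4 1 ++ (nLetters chevF4 2 ++ [])))) :
      List ℕ).map fun r => X r (1 : K)).prod ∈ _
    rw [List.append_nil, ← List.append_assoc, ← List.append_assoc, h]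
    have hz : ∀ r, r < chevF4.nroots → X r (0 : K) = 1 := fun r hr => elX_zero hc K hr
    have hlt : ∀ r ∈ [f4a, f4b, f4ab, f4aab, f4ma, f4mb, f4mab, f4maab], r < chevF4.nroots := by
      decide +kernel
    have e1 : ((2 : ℕ) ^ m) ≠ 0 := pow_ne_zero _ two_ne_zero
    have m1 : X f4a (1 : K) * X f4b 1 * X f4ab 1 ∈ G1 K m := by
      have := quadNF_mem hσ (show (f4a, f4b, f4ab, f4aab) ∈ quads by simp [quads]) (1 : K) 0
      rw [← quad_word_eq hσ (show (f4a, f4b, f4ab, f4aab) ∈ quads by simp [quads])] at this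
      simpa [zero_pow e1, hz _ (hlt f4aab (by simp))] using this
    have m2 : X f4mab (1 : K) * X f4maab 1 ∈ G1 K m := by
      have := quadNF_mem hσ (show (f4ma, f4mb, f4mab, f4maab) ∈ quads by simp [quads]) (0 : K) 1
      rw [← quad_word_eq hσ (show (f4ma, f4mb, f4mab, f4maab) ∈ quads by simp [quads])] at this
      simpa [zero_pow e1, hz _ (hlt f4ma (by simp)), hz _ (hlt f4mb (by simp))] using this
    have m3 : X f4a (1 : K) * X f4b 1 * X f4aab 1 ∈ G1 K m := by
      have := quadNF_mem hσ (show (f4a, f4b, f4ab, f4aab) ∈ quads by simp [quads]) (1 : K) 1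
      rw [← quad_word_eq hσ (show (f4a, f4b, f4ab, f4aab) ∈ quads by simp [quads])] at this
      simpa [add_self hσ, hz _ (hlt f4ab (by simp))] using this
    have := mul_mem (mul_mem m1 m2) m3
    simpa [List.map_append, mul_assoc] using this

theorem nJ_fixed (s : Bool) : nJ K s ∈ fixF σ := G1_le_fix hσ (nJ_mem hσ s)

end

end CfsgLib.ReeF4
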