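import Cfsg.Agent.Lib.Twisted.F4Torus
import Cfsg.Agent.Lib.Twisted.Weyl
import Mathlib.GroupTheory.SpecificGroups.Dihedral

/-!
The monomial elements fixed by σ: the root permutations commuting with ρ form the dihedral group of
order 16 of alternating products of the two orbit reflections, and all these elements lie in 2F4.
-/

set_option autoImplicit false
set_option linter.unusedSectionVars false
set_option maxRecDepth 4000

namespace CfsgLib.ReeF4

open Cfsg.Lie CfsgLib.Chev

/-- A word for the inverse of an alternating product, built of the two orbit words. -/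
def revW (s : Bool) : ℕ → List (Fin chevF4.rank)
  | 0 => []
  | k + 1 => jl (sideAt s k) ++ revW s k

theorem revW_sigs : ∀ s : Bool, ∀ k : Fin 9, ∀ r : Fin 48,
    sigs chevF4 tb (revW s k) r = sigs chevF4 tb (altW s k).reverse r ∧
    rho (sigs chevF4 tb (revW s k) r) = sigs chevF4 tb (revW s k) (rho r) := by decide +kernel

/-- The index of a product with an orbit reflection on the right. -/
def nextW (s : Bool) (k : Fin 9) (t : Bool) : Bool × Fin 9 :=
  if k.val = 0 then (t, 1) else if k.val = 8 then (!t, 7)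
  else if t = s then (!s, k - 1) else (t, k + 1)

theorem next_spec : ∀ s : Bool, ∀ k : Fin 9, ∀ t : Bool, ∀ r : Fin 48,
    sigs chevF4 tb (revW s k) (sigs chevF4 tb (jl t) r) =
      sigs chevF4 tb (revW (nextW s k t).1 (nextW s k t).2) r := by decide +kernel

/-- The orbit of a node. -/
def nodeSide (i : Fin chevF4.rank) : Bool := decide (i.val = 1 ∨ i.val = 2)

theorem node_side : ∀ i : Fin chevF4.rank,
    JRoot (nodeSide i) (chevF4.simple i.val) ∧ rho (chevF4.simple i.val) ≠ chevF4.simple i.val := by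
  unfold JRoot InvRoot; decide +kernel

/-- The roots of an orbit as combinations of its two fundamental roots. -/
theorem jroot_comb : ∀ s : Bool, ∀ r : Fin 48, JRoot s r →
    CombRoot chevF4 tb (chevF4.simple (orbPair s).1.val) (chevF4.simple (orbPair s).2.val) r ∨
      r.val = chevF4.simple (orbPair s).1.val ∨ r.val = chevF4.simple (orbPair s).2.val := by
  intro s r h
  have key : ∀ s : Bool, ∀ r : Fin 48, JRoot s r → ∃ i : Fin 3, ∃ j : Fin 3, 1 ≤ i.val + j.val ∧
      (i.val = 0 → j.val = 1) ∧ (j.val = 0 → i.val = 1) ∧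
      rv chevF4 tb r = (i.val : ℤ) • rv chevF4 tb (chevF4.simple (orbPair s).1.val) +
        (j.val : ℤ) • rv chevF4 tb (chevF4.simple (orbPair s).2.val) := by
    unfold JRoot InvRoot; decide +kernel
  obtain ⟨i, j, h0, h1, h2, e⟩ := key s r h
  have hlt : ∀ n : Fin chevF4.rank, chevF4.simple n.val < chevF4.nroots := fun n => simple_lt hc n.2
  rcases Nat.eq_zero_or_pos i.val with hi | hi
  · refine Or.inr (Or.inr (rv_inj hc r.2 (hlt _) ?_))
    rw [e, hi, h1 hi]; simp
  rcases Nat.eq_zero_or_pos j.val with hj | hj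
  · refine Or.inr (Or.inl (rv_inj hc r.2 (hlt _) ?_))
    rw [e, hj, h2 hj]; simp
  exact Or.inl ⟨r.2, i.val, j.val, hi, hj, e⟩

variable {L : List (Fin chevF4.rank)}

/-- If one fundamental root of an orbit becomes negative, all roots of the orbit do. -/
theorem jroot_neg (hL : ∀ r < 48, rho (sigs chevF4 tb L r) = sigs chevF4 tb L (rho r))
    {i : Fin chevF4.rank} (hi : sigs chevF4 tb L (chevF4.simple i.val) < 24) {r : ℕ} (hr : r < 48)
    (hJ : JRoot (nodeSide i) r) : sigs chevF4 tb L r < 24 := by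
  have hrho : ∀ {x : ℕ}, x < 48 → sigs chevF4 tb L x < 24 → sigs chevF4 tb L (rho x) < 24 := by
    intro x hx h
    rw [← hL x hx]
    have := rho_pos (sigs_lt hc L (r := x) hx)
    change _ < 24
    omega
  have hor : ∀ i : Fin chevF4.rank,
      (chevF4.simple (orbPair (nodeSide i)).1.val = chevF4.simple i.val ∧
        chevF4.simple (orbPair (nodeSide i)).2.val = rho (chevF4.simple i.val)) ∨
      (chevF4.simple (orbPair (nodeSide i)).2.val = chevF4.simple i.val ∧
        chevF4.simple (orbPair (nodeSide i)).1.val = rho (chevF4.simple i.val)) := by decide +kernel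
  have hs : chevF4.simple i.val < 48 := simple_lt hc i.2
  have h12 : sigs chevF4 tb L (chevF4.simple (orbPair (nodeSide i)).1.val) < 24 ∧
      sigs chevF4 tb L (chevF4.simple (orbPair (nodeSide i)).2.val) < 24 := by
    rcases hor i with ⟨a, b⟩ | ⟨a, b⟩ <;> rw [a, b]
    · exact ⟨hi, hrho hs hi⟩
    · exact ⟨hrho hs hi, hi⟩
  have hcl := closedPos_inv hc (D := chevF4) (T := tb) L
  have hp : ∀ n : Fin chevF4.rank, 24 ≤ chevF4.simple n.val := fun n => half_le_simple hc n.2
  rcases jroot_comb _ ⟨r, hr⟩ hJ with h | h | h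
  · exact (hcl.2 _ _ r (simple_lt hc (orbPair _).1.2) (simple_lt hc (orbPair _).2.2)
      ⟨hp _, h12.1⟩ ⟨hp _, h12.2⟩ h).2
  · rw [show r = _ from h]; exact h12.1
  · rw [show r = _ from h]; exact h12.2

/-- The number of positive roots made negative. -/
noncomputable def invNum (L : List (Fin chevF4.rank)) : ℕ :=
  (Finset.univ.filter fun r : Fin 48 => 24 ≤ r.val ∧ sigs chevF4 tb L r < 24).card

theorem jl_pos : ∀ s : Bool, ∀ r : Fin 48, 24 ≤ r.val → sigs chevF4 tb (jl s) r < 24 →
    ∃ x : Fin 48, JRoot s x ∧ sigs chevF4 tb (jl s) r = chevF4.neg x := by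
  unfold JRoot InvRoot; decide +kernel

theorem jl_out : ∀ s : Bool, ∀ r : Fin 48, 24 ≤ r.val →
    ¬ (sigs chevF4 tb (jl s) r = chevF4.simple (orbPair s).1.val ∨
      sigs chevF4 tb (jl s) r = chevF4.simple (orbPair s).2.val) := by decide +kernel

theorem invNum_lt (hL : ∀ r < 48, rho (sigs chevF4 tb L r) = sigs chevF4 tb L (rho r))
    {i : Fin chevF4.rank} (hi : sigs chevF4 tb L (chevF4.simple i.val) < 24) :
    invNum (L ++ jl (nodeSide i)) < invNum L := by
  classical
  set s := nodeSide i with hs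
  have hlt : ∀ r : Fin 48, sigs chevF4 tb (jl s) r < 48 := fun r => sigs_lt hc _ r.2
  have hmem : ∀ r : Fin 48, 24 ≤ r.val → sigs chevF4 tb (L ++ jl s) r < 24 →
      24 ≤ sigs chevF4 tb (jl s) r ∧ sigs chevF4 tb L (sigs chevF4 tb (jl s) r) < 24 := by
    intro r h1 h2
    rw [sigs_append] at h2
    refine ⟨Nat.le_of_not_lt fun g => ?_, h2⟩
    obtain ⟨x, hx, e⟩ := jl_pos s r h1 g
    rw [e, sigs_neg hc L x.2, neg_eq hc (sigs_lt hc L x.2)] at h2
    have := jroot_neg hL hi x.2 hx
    rw [show chevF4.nroots = 48 from rfl] at h2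
    omega
  let f : Fin 48 → Fin 48 := fun r => ⟨_, hlt r⟩
  have hinj : Function.Injective f := fun a b h =>
    Fin.ext (sigs_injOn hc (jl s) a.2 b.2 (congrArg Fin.val h))
  unfold invNum
  rw [← Finset.card_image_of_injective _ hinj]
  refine Finset.card_lt_card (Finset.ssubset_iff.2 ⟨⟨chevF4.simple i.val, simple_lt hc i.2⟩, ?_, ?_⟩)
  · intro h
    obtain ⟨r, hr, e⟩ := Finset.mem_image.1 h
    have e' : sigs chevF4 tb (jl s) r = chevF4.simple i.val := congrArg Fin.val e
    refine jl_out s r (Finset.mem_filter.1 hr).2.1 ?_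
    rw [e', hs]
    exact (by decide +kernel : ∀ i : Fin chevF4.rank,
      chevF4.simple i.val = chevF4.simple (orbPair (nodeSide i)).1.val ∨
      chevF4.simple i.val = chevF4.simple (orbPair (nodeSide i)).2.val) i
  · intro x hx
    rcases Finset.mem_insert.1 hx with rfl | hx
    · exact Finset.mem_filter.2 ⟨Finset.mem_univ _, half_le_simple hc i.2, hi⟩
    · obtain ⟨r, hr, rfl⟩ := Finset.mem_image.1 hx
      obtain ⟨-, h1, h2⟩ := Finset.mem_filter.1 hr
      exact Finset.mem_filter.2 ⟨Finset.mem_univ _, hmem r h1 h2⟩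

/-- A product of reflections commuting with ρ is an alternating product of the orbit reflections. -/
theorem exists_revW (hL : ∀ r < 48, rho (sigs chevF4 tb L r) = sigs chevF4 tb L (rho r)) :
    ∃ s : Bool, ∃ k : Fin 9, ∀ r < 48, sigs chevF4 tb L r = sigs chevF4 tb (revW s k) r := by
  suffices key : ∀ n, ∀ L : List (Fin chevF4.rank), invNum L = n →
      (∀ r < 48, rho (sigs chevF4 tb L r) = sigs chevF4 tb L (rho r)) →
      ∃ s : Bool, ∃ k : Fin 9, ∀ r < 48, sigs chevF4 tb L r = sigs chevF4 tb (revW s k) r from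
    key _ L rfl hL
  intro n
  induction n using Nat.strong_induction_on with
  | _ n ih =>
    intro L hn hL
    by_cases hpos : ∀ i : Fin chevF4.rank, chevF4.nroots / 2 ≤ sigs chevF4 tb L (chevF4.simple i.val)
    · refine ⟨false, 0, fun r hr => ?_⟩
      have h := nProd_mem_of_pos hc (F := ZMod 2) L hpos
      exact sigs_eq_of_mem hc (F := ZMod 2) (L := L) (M := []) (by simpa using h) hr
    · push Not at hpos
      obtain ⟨i, hi⟩ := hpos
      have hc' : ∀ r < 48, rho (sigs chevF4 tb (L ++ jl (nodeSide i)) r) =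
          sigs chevF4 tb (L ++ jl (nodeSide i)) (rho r) := fun r hr => by
        rw [sigs_append, sigs_append, hL _ (sigs_lt hc _ hr), (jl_commute _ ⟨r, hr⟩).1]
      obtain ⟨s, k, h⟩ := ih _ (hn ▸ invNum_lt hL hi) _ rfl hc'
      refine ⟨(nextW s k (nodeSide i)).1, (nextW s k (nodeSide i)).2, fun r hr => ?_⟩
      have h' := h _ (sigs_lt hc (jl (nodeSide i)) (r := r) hr)
      rw [sigs_append, (jl_commute _ ⟨r, hr⟩).2.1] at h'
      rw [h', next_spec s k (nodeSide i) ⟨r, hr⟩]

/-- The index of an element of the dihedral group. -/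
def dihIdx : DihedralGroup 8 → Bool × Fin 9
  | .r i => if i.val ≤ 4 then (true, (Fin.ofNat 9 (2 * i.val))) else (false, Fin.ofNat 9 (16 - 2 * i.val))
  | .sr i => if i.val = 0 then (false, 1) else if i.val ≤ 4 then (true, Fin.ofNat 9 (2 * i.val - 1))
      else (false, Fin.ofNat 9 (17 - 2 * i.val))

/-- The permutation of the roots of an element of the dihedral group. -/
noncomputable def dihFun (x : DihedralGroup 8) (r : Fin 48) : Fin 48 :=
  ⟨sigs chevF4 tb (revW (dihIdx x).1 (dihIdx x).2) r, sigs_lt hc _ r.2⟩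

theorem dih_one : ∀ r : Fin 48, (dihFun 1 r).val = r.val := by decide +kernel

theorem dih_gen : ∀ i : Fin 8, ∀ r : Fin 48,
    (dihFun (.r i * .r 1) r).val = (dihFun (.r i) (dihFun (.r 1) r)).val ∧
    (dihFun (.sr i * .r 1) r).val = (dihFun (.sr i) (dihFun (.r 1) r)).val ∧
    (dihFun (.r i * .sr 0) r).val = (dihFun (.r i) (dihFun (.sr 0) r)).val ∧
    (dihFun (.sr i * .sr 0) r).val = (dihFun (.sr i) (dihFun (.sr 0) r)).val := by decide +kernel

theorem dih_gen' (x : DihedralGroup 8) :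
    dihFun (x * .r 1) = dihFun x ∘ dihFun (.r 1) ∧ dihFun (x * .sr 0) = dihFun x ∘ dihFun (.sr 0) := by
  cases x with
  | r i => exact ⟨funext fun r => Fin.ext (dih_gen i r).1, funext fun r => Fin.ext (dih_gen i r).2.2.1⟩
  | sr i => exact ⟨funext fun r => Fin.ext (dih_gen i r).2.1, funext fun r => Fin.ext (dih_gen i r).2.2.2⟩

theorem dih_mul (x y : DihedralGroup 8) : dihFun (x * y) = dihFun x ∘ dihFun y := by
  have h1 : dihFun 1 = id := funext fun r => Fin.ext (dih_one r)
  have hr : ∀ n : ℕ, ∀ x, dihFun (x * (DihedralGroup.r 1) ^ n) =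
      dihFun x ∘ dihFun ((DihedralGroup.r 1) ^ n) := by
    intro n
    induction n with
    | zero => intro x; simp [h1]
    | succ n ih =>
      intro x
      rw [pow_succ, ← mul_assoc, (dih_gen' _).1, ih, (dih_gen' _).1, Function.comp_assoc]
  have hp : ∀ i : ZMod 8, (DihedralGroup.r 1 : DihedralGroup 8) ^ i.val = .r i := fun i => by
    rw [DihedralGroup.r_one_pow, ZMod.natCast_zmod_val]
  cases y with
  | r i => have := hr i.val x; rwa [hp] at this
  | sr i =>
    have h := hr i.val (x * .sr 0)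
    have h' := hr i.val (.sr 0)
    rw [hp] at h h'
    rw [(dih_gen' x).2, mul_assoc, DihedralGroup.sr_mul_r, zero_add] at h
    rw [DihedralGroup.sr_mul_r, zero_add] at h'
    rw [h, h', Function.comp_assoc]

/-- The dihedral group of order 16 as a group of permutations of the roots. -/
noncomputable def dihPerm : DihedralGroup 8 →* Equiv.Perm (Fin 48) :=
  MonoidHom.toHomPerm
    { toFun := dihFun
      map_one' := funext fun r => Fin.ext (dih_one r)
      map_mul' := dih_mul }

theorem dihPerm_apply (x : DihedralGroup 8) (r : Fin 48) : dihPerm x r = dihFun x r := rfl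

theorem dih_faithful : ∀ i : Fin 8,
    (i ≠ 0 → ∃ j : Fin chevF4.rank, (dihFun (.r i) ⟨chevF4.simple j.val, simple_lt hc j.2⟩).val ≠ chevF4.simple j.val) ∧
    ∃ j : Fin chevF4.rank, (dihFun (.sr i) ⟨chevF4.simple j.val, simple_lt hc j.2⟩).val ≠ chevF4.simple j.val := by
  decide +kernel

theorem dihPerm_injective : Function.Injective dihPerm := by
  refine (injective_iff_map_eq_one _).2 fun x h => ?_
  have hfix : ∀ r, (dihFun x r).val = r.val := fun r => by rw [← dihPerm_apply, h]; rfl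
  cases x with
  | r i =>
    by_contra hne
    obtain ⟨j, hj⟩ := (dih_faithful i).1 fun e => hne (by rw [show i = 0 from e]; rfl)
    exact hj (hfix _)
  | sr i =>
    obtain ⟨j, hj⟩ := (dih_faithful i).2
    exact absurd (hfix _) hj

/-- An element of the dihedral group for an alternating product. -/
def dihOf (s : Bool) (k : Fin 9) : DihedralGroup 8 :=
  if k.val % 2 = 0 then
    (if s then .r ((k.val / 2 : ℕ) : ZMod 8) else .r (-((k.val / 2 : ℕ) : ZMod 8)))
  else
    (if s then .sr (((k.val + 1) / 2 : ℕ) : ZMod 8) else .sr (-((k.val / 2 : ℕ) : ZMod 8)))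

theorem dihOf_spec : ∀ s : Bool, ∀ k : Fin 9, ∀ r : Fin 48,
    (dihFun (dihOf s k) r).val = sigs chevF4 tb (revW s k) r := by decide +kernel

theorem dihOf_surj : ∀ x : DihedralGroup 8, ∃ s : Bool, ∃ k : Fin 9, dihOf s k = x := by decide +kernel

variable {K : Type*} [Field K] [Fintype K] {m : ℕ} {σ : MulAut ↥(chevF4.group K)}

section
variable (hσ : IsSigma m σ)
include hσ

theorem revW_mem (s : Bool) : ∀ k, nProd chevF4 K (revW s k) ∈ G1 K m
  | 0 => one_mem _
  | k + 1 => by
    rw [revW, nProd_append]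
    exact mul_mem (nJ_mem hσ _) (revW_mem s k)

theorem revW_monomial (s : Bool) (k : ℕ) :
    nProd chevF4 K (revW s k) ∈ chevF4.monomialSubgroup K ⊓ G1 K m :=
  ⟨nProd_mem_monomial hc _, revW_mem hσ s k⟩

/-- The root permutation of a fixed monomial element commutes with ρ. -/
theorem fixed_sigs_commute {h : GL chevF4.Idx K} (hh : h ∈ chevF4.diagonalSubgroup K)
    (hf : h * nProd chevF4 K L ∈ fixF σ) {r : ℕ} (hr : r < 48) :
    rho (sigs chevF4 tb L r) = sigs chevF4 tb L (rho r) := by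
  set n := h * nProd chevF4 K L with hn
  have conj : ∀ x, x < 48 → ∀ t : K, ∃ u : K, (t ≠ 0 → u ≠ 0) ∧
      n * X x t * n⁻¹ = X (sigs chevF4 tb L x) u := by
    intro x hx t
    obtain ⟨c, hc'⟩ := diagonal_conj_elX hc hh (sigs_lt hc L (r := x) hx)
    refine ⟨(c : K) * t, fun ht => mul_ne_zero c.ne_zero ht, ?_⟩
    show n * X x t * n⁻¹ = _
    refine Eq.trans ?_ (hc' t)
    refine Eq.trans ?_ (congrArg (fun g => h * g * h⁻¹)
      (conj_elX_one hσ.char2 L (show x < chevF4.nroots from hx) t))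
    rw [hn]
    group
  obtain ⟨u, hu, e⟩ := conj r hr 1
  obtain ⟨v, -, e'⟩ := conj (rho r) (rho_lt hr) (phi m r 1)
  obtain ⟨hg, hnn⟩ := mem_fixF.1 hf
  have hlt := sigs_lt hc L (T := tb) (r := r) hr
  have hX := elX_mem_group hc (F := K) (show r < chevF4.nroots from hr) 1
  have key : simg σ (n * X r 1 * n⁻¹) = n * X (rho r) (phi m r 1) * n⁻¹ := by
    rw [simg_mul (mul_mem hg hX) (inv_mem hg), simg_mul hg hX, simg_inv hg, hnn,
      simg_elX hσ (show r < chevF4.nroots from hr)]
  rw [e, simg_elX hσ hlt, e'] at key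
  refine elX_root_unique hc (show rho _ < chevF4.nroots from rho_lt hlt)
    (sigs_lt hc L (show rho r < chevF4.nroots from rho_lt hr)) ?_ key
  exact pow_ne_zero _ (hu one_ne_zero)

/-- Fixed monomial elements. -/
theorem fixed_monomial {g : GL chevF4.Idx K} (hg : g ∈ chevF4.monomialSubgroup K) (hf : g ∈ fixF σ) :
    ∃ h ∈ chevF4.diagonalSubgroup K ⊓ fixF σ, ∃ s : Bool, ∃ k : Fin 9,
      g = h * nProd chevF4 K (revW s k) := by
  obtain ⟨h, hh, L, rfl⟩ := monomial_cases hc hg
  obtain ⟨s, k, e⟩ := exists_revW fun r hr => fixed_sigs_commute hσ hh hf hr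
  have hn := G1_le_fix hσ (revW_mem hσ s k)
  refine ⟨h * (nProd chevF4 K L * (nProd chevF4 K (revW s k))⁻¹),
    Subgroup.mem_inf.2 ⟨mul_mem hh (nProd_div_mem hc e), ?_⟩, s, k, by group⟩
  rw [← mul_assoc]
  exact mul_mem hf (inv_mem hn)

theorem monomial_inf_eq :
    chevF4.monomialSubgroup K ⊓ G1 K m = chevF4.monomialSubgroup K ⊓ fixF σ := by
  refine le_antisymm (inf_le_inf_left _ (G1_le_fix hσ)) ?_
  rintro g ⟨hg, hf⟩
  obtain ⟨h, hh, s, k, rfl⟩ := fixed_monomial hσ hg hf
  exact ⟨hg, mul_mem (diag_le hσ hh) (revW_mem hσ s k)⟩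

/-- The Weyl group of 2F4. -/
theorem exists_weyl :
    ∃ φ : ↥(chevF4.monomialSubgroup K ⊓ G1 K m) →* DihedralGroup 8, Function.Surjective φ ∧
      φ.ker = (chevF4.diagonalSubgroup K ⊓ G1 K m).subgroupOf
        (chevF4.monomialSubgroup K ⊓ G1 K m) := by
  obtain ⟨ρ, hρ⟩ := CfsgLib.Twisted.exists_rootPerm hc (K := K)
  set N₁ := chevF4.monomialSubgroup K ⊓ G1 K m
  let ρ₁ : ↥N₁ →* Equiv.Perm (Fin 48) :=
    ρ.comp (Subgroup.inclusion (inf_le_left : N₁ ≤ chevF4.monomialSubgroup K))
  have hρn : ∀ (n : ↥N₁) (h : GL chevF4.Idx K), h ∈ chevF4.diagonalSubgroup K → ∀ s (k : Fin 9),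
      (n : GL chevF4.Idx K) = h * nProd chevF4 K (revW s k) → ρ₁ n = dihPerm (dihOf s k) := by
    intro n h hh s k e
    refine Equiv.ext fun r => Fin.ext ?_
    rw [dihPerm_apply, dihOf_spec]
    obtain ⟨c, -, hcx⟩ := nProd_conj_elX hc (F := K) (revW s k) r.2
    obtain ⟨d, hd⟩ := diagonal_conj_elX hc hh (sigs_lt hc (revW s k) r.2)
    have h1 := hρ (Subgroup.inclusion (inf_le_left : N₁ ≤ chevF4.monomialSubgroup K) n) r
    rw [show ((Subgroup.inclusion (inf_le_left : N₁ ≤ chevF4.monomialSubgroup K) n :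
      ↥(chevF4.monomialSubgroup K)) : GL chevF4.Idx K) = n from rfl, e] at h1
    exact CfsgLib.Twisted.IsImg.unique hc (Fin.isLt _) (sigs_lt hc _ r.2) h1
      ((show CfsgLib.Twisted.IsImg chevF4 (nProd chevF4 K (revW s k)) r.1 _ from ⟨c, hcx⟩).mul hc
        ⟨d, hd⟩)
  have hrange : ∀ n, ρ₁ n ∈ dihPerm.range := fun n => by
    obtain ⟨h, hh, s, k, e⟩ := fixed_monomial hσ n.2.1 (G1_le_fix hσ n.2.2)
    exact ⟨_, (hρn n h hh.1 s k e).symm⟩
  refine ⟨(MonoidHom.ofInjective dihPerm_injective).symm.toMonoidHom.comp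
    (ρ₁.codRestrict _ hrange), fun x => ?_, ?_⟩
  · obtain ⟨s, k, rfl⟩ := dihOf_surj x
    refine ⟨⟨_, revW_monomial hσ s k⟩, ?_⟩
    refine (MonoidHom.ofInjective dihPerm_injective).injective ?_
    rw [MonoidHom.comp_apply, MulEquiv.coe_toMonoidHom, MulEquiv.apply_symm_apply]
    exact Subtype.ext (hρn _ 1 (one_mem _) s k (one_mul _).symm)
  · ext n
    rw [MonoidHom.mem_ker, MonoidHom.comp_apply, MulEquiv.coe_toMonoidHom,
      EmbeddingLike.map_eq_one_iff, Subgroup.mem_subgroupOf, Subgroup.mem_inf, and_iff_left (show (n : GL chevF4.Idx K) ∈ G1 K m from n.2.2),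
      Subtype.ext_iff]
    exact CfsgLib.Twisted.rootPerm_ker hc hρ _

end

end CfsgLib.ReeF4
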