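import Cfsg.Agent.Lib.Twisted.F4Fix

/-!
The fixed elements of the unipotent subgroups of F4 cut out by the alternating products of the two
orbit reflections: they lie in 2F4 and their number is a power of `q`.
-/

set_option autoImplicit false
set_option linter.unusedSectionVars false
set_option maxRecDepth 4000

namespace CfsgLib.ReeF4

open Cfsg.Lie CfsgLib.Chev

variable {K : Type*} [Field K]

/-- The positive roots. -/
abbrev PosR (r : ℕ) : Prop := chevF4.nroots / 2 ≤ r

theorem posR_iff {r : ℕ} : PosR r ↔ 24 ≤ r := Iff.rfl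

theorem elX_zero' {r : ℕ} (hr : r < chevF4.nroots) : X r (0 : K) = 1 := elX_zero hc K hr

theorem uProd_filter (Q : ℕ → Prop) [DecidablePred Q] {L : List ℕ} (hL : ∀ r ∈ L, r < chevF4.nroots)
    {t : ℕ → K} (ht : ∀ r ∈ L, ¬ Q r → t r = 0) :
    uProd chevF4 K L t = uProd chevF4 K (L.filter fun r => decide (Q r)) t := by
  induction L with
  | nil => rfl
  | cons a L ih =>
    simp only [List.forall_mem_cons] at hL ht
    have ih' := ih hL.2 ht.2
    simp only [uProd] at ih' ⊢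
    by_cases h : Q a
    · rw [List.filter_cons_of_pos (by simpa using h), List.map_cons, List.map_cons, List.prod_cons,
        List.prod_cons, ih']
    · rw [List.filter_cons_of_neg (by simpa using h), List.map_cons, List.prod_cons, ih', ht.1 h,
        elX_zero hc K hL.1, one_mul]

theorem rootsFrom_congr {P Q : ℕ → Prop} (h : ∀ r, r < chevF4.nroots → (P r ↔ Q r)) :
    rootsFrom chevF4 P 0 = rootsFrom chevF4 Q 0 := by
  unfold rootsFrom
  refine List.filter_congr fun r hr => ?_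
  rw [List.mem_range'_1] at hr
  exact decide_eq_decide.2 (h r (by omega))

theorem rootsFrom_filter {P Q : ℕ → Prop} [DecidablePred Q]
    (h : ∀ r, r < chevF4.nroots → Q r → P r) :
    rootsFrom chevF4 Q 0 = (rootsFrom chevF4 P 0).filter fun r => decide (Q r) := by
  unfold rootsFrom
  rw [List.filter_filter]
  refine List.filter_congr fun r hr => ?_
  rw [List.mem_range'_1] at hr
  by_cases hq : Q r
  · simp [hq, h r (by omega) hq]
  · simp [hq]

theorem uGen_inf_disjoint {Q R : ℕ → Prop} (hQ : ClosedPos chevF4 tb Q)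
    (hR : ClosedPos chevF4 tb R) (hd : ∀ r, r < chevF4.nroots → Q r → R r → False)
    {g : GL chevF4.Idx K} (h1 : g ∈ uGen chevF4 K Q) (h2 : g ∈ uGen chevF4 K R) : g = 1 := by
  classical
  obtain ⟨t, rfl⟩ := uGen_exists hc hcomm hQ h1
  obtain ⟨u, e⟩ := uGen_exists hc hcomm hR h2
  have hlt : ∀ r ∈ rootsFrom chevF4 PosR 0, r < chevF4.nroots := fun r hr => (mem_rootsFrom.1 hr).2.1
  have key : ∀ (S : ℕ → Prop), ClosedPos chevF4 tb S → ∀ w : ℕ → K,
      uProd chevF4 K (rootsFrom chevF4 S 0) w =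
        uProd chevF4 K (rootsFrom chevF4 PosR 0) fun r => if S r then w r else 0 := by
    intro S hS w
    rw [uProd_filter S hlt (fun r _ h => if_neg h), ← rootsFrom_filter hS.1]
    exact uProd_congr fun r hr => (if_pos (mem_rootsFrom.1 hr).2.2).symm
  rw [key Q hQ, key R hR] at e
  have hinj := uProd_inj hc (fun _ _ h => h) 0 e
  rw [uProd]
  refine List.prod_eq_one fun x hx => ?_
  obtain ⟨r, hr, rfl⟩ := List.mem_map.1 hx
  obtain ⟨-, hr', hq⟩ := mem_rootsFrom.1 hr
  have := hinj r (mem_rootsFrom.2 ⟨Nat.zero_le _, hr', hQ.1 r hr' hq⟩)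
  rw [if_pos hq, if_neg (hd r hr' hq)] at this
  rw [this, elX_zero hc K hr']

theorem uGen_le_group (P : ℕ → Prop) : uGen chevF4 K P ≤ chevF4.group K :=
  uGen_le_iff.2 fun _ hr _ t => elX_mem_group hc hr t

theorem conj_nProd_uGen (L : List (Fin chevF4.rank)) {P Q : ℕ → Prop}
    (h : ∀ r, r < chevF4.nroots → P r → Q (sigs chevF4 tb L r)) {g : GL chevF4.Idx K}
    (hg : g ∈ uGen chevF4 K P) :
    nProd chevF4 K L * g * (nProd chevF4 K L)⁻¹ ∈ uGen chevF4 K Q := by
  have hle : uGen chevF4 K P ≤ (uGen chevF4 K Q).comap (MulAut.conj (nProd chevF4 K L)).toMonoidHom := by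
    refine uGen_le_iff.2 fun r hr hP t => ?_
    obtain ⟨c, -, e⟩ := nProd_conj_elX hc (F := K) L hr
    show nProd chevF4 K L * elX chevF4 K r t * (nProd chevF4 K L)⁻¹ ∈ uGen chevF4 K Q
    rw [e]
    exact elX_mem_uGen (sigs_lt hc L hr) (h r hr hP) _
  exact hle hg

theorem conj_nProd_inv_uGen (L : List (Fin chevF4.rank)) {P Q : ℕ → Prop}
    (h : ∀ r, r < chevF4.nroots → P r → Q (sigs chevF4 tb L.reverse r)) {g : GL chevF4.Idx K}
    (hg : g ∈ uGen chevF4 K P) :
    (nProd chevF4 K L)⁻¹ * g * nProd chevF4 K L ∈ uGen chevF4 K Q := by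
  obtain ⟨k, hk, e⟩ := nProd_inv hc (F := K) L
  have h1 := diag_conj_mem hc Q hk (conj_nProd_uGen L.reverse h hg)
  have this : (nProd chevF4 K L)⁻¹ * g * nProd chevF4 K L =
      k * (nProd chevF4 K L.reverse * g * (nProd chevF4 K L.reverse)⁻¹) * k⁻¹ := by
    have e' : nProd chevF4 K L = (k * nProd chevF4 K L.reverse)⁻¹ := by rw [← e, inv_inv]
    rw [e]
    nth_rw 1 [e']
    group
  rw [this]
  exact h1

variable [Fintype K] {m : ℕ} {σ : MulAut ↥(chevF4.group K)}

/-- The fixed elements of a group of root elements. -/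
abbrev V (σ : MulAut ↥(chevF4.group K)) (P : ℕ → Prop) : Subgroup (GL chevF4.Idx K) :=
  uGen chevF4 K P ⊓ fixF σ

theorem V_mono {P Q : ℕ → Prop} (h : ∀ r, r < chevF4.nroots → P r → Q r) : V σ P ≤ V σ Q :=
  inf_le_inf_right _ (uGen_mono h)

theorem V_congr {P Q : ℕ → Prop} (h : ∀ r, r < chevF4.nroots → (P r ↔ Q r)) : V σ P = V σ Q :=
  le_antisymm (V_mono fun r hr => (h r hr).1) (V_mono fun r hr => (h r hr).2)

section
variable (hσ : IsSigma m σ)
include hσ

/-- A fixed element of a split group has fixed components. -/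
theorem fixed_components {P Q R : ℕ → Prop} (hP : ClosedPos chevF4 tb P) (hQ : ClosedPos chevF4 tb Q)
    (hR : ClosedPos chevF4 tb R) (hd : ∀ r, r < chevF4.nroots → Q r → R r → False)
    (hcov : ∀ r, r < chevF4.nroots → P r → Q r ∨ R r) (hQr : ∀ r < 48, Q r → Q (rho r))
    (hRr : ∀ r < 48, R r → R (rho r)) {g : GL chevF4.Idx K} (hg : g ∈ V σ P) :
    ∃ a ∈ V σ Q, ∃ b ∈ V σ R, g = a * b := by
  obtain ⟨a, ha, b, hb, rfl⟩ := uGen_split hc hcomm hP hcov hg.1
  have ga : a ∈ chevF4.group K := uGen_le_group _ ha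
  have gb : b ∈ chevF4.group K := uGen_le_group _ hb
  have e := (mem_fixF.1 hg.2).2
  rw [simg_mul ga gb] at e
  have sa := simg_mem_uGen hσ hQr ha
  have sb := simg_mem_uGen hσ hRr hb
  have e' : a⁻¹ * simg σ a = b * (simg σ b)⁻¹ := by
    rw [inv_mul_eq_iff_eq_mul, ← mul_assoc, ← e, mul_inv_cancel_right]
  have h1 := uGen_inf_disjoint hQ hR hd (mul_mem (inv_mem ha) sa) (e' ▸ mul_mem hb (inv_mem sb))
  have ea : simg σ a = a := (inv_mul_eq_one.1 h1).symm
  rw [ea] at e
  exact ⟨a, ⟨ha, mem_fixF.2 ⟨ga, ea⟩⟩, b, ⟨hb, mem_fixF.2 ⟨gb, mul_left_cancel e⟩⟩, rfl⟩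

/-- The number of fixed elements is multiplicative. -/
theorem card_split {P Q R : ℕ → Prop} (hP : ClosedPos chevF4 tb P) (hQ : ClosedPos chevF4 tb Q)
    (hR : ClosedPos chevF4 tb R) (hd : ∀ r, r < chevF4.nroots → Q r → R r → False)
    (hcov : ∀ r, r < chevF4.nroots → (P r ↔ Q r ∨ R r)) (hQr : ∀ r < 48, Q r → Q (rho r))
    (hRr : ∀ r < 48, R r → R (rho r)) :
    Nat.card (V σ P) = Nat.card (V σ Q) * Nat.card (V σ R) ∧
      (V σ Q ≤ G1 K m → V σ R ≤ G1 K m → V σ P ≤ G1 K m) := by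
  have hQP : V σ Q ≤ V σ P := V_mono fun r hr h => (hcov r hr).2 (Or.inl h)
  have hRP : V σ R ≤ V σ P := V_mono fun r hr h => (hcov r hr).2 (Or.inr h)
  constructor
  · rw [← Nat.card_prod]
    refine (Nat.card_congr (Equiv.ofBijective
      (fun p : V σ Q × V σ R => (⟨p.1.1 * p.2.1, mul_mem (hQP p.1.2) (hRP p.2.2)⟩ : V σ P))
      ⟨?_, ?_⟩)).symm
    · rintro ⟨a, b⟩ ⟨a', b'⟩ h
      have e : a.1 * b.1 = a'.1 * b'.1 := congrArg Subtype.val h
      have e' : a'.1⁻¹ * a.1 = b'.1 * b.1⁻¹ := by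
        rw [inv_mul_eq_iff_eq_mul, ← mul_assoc, ← e, mul_inv_cancel_right]
      have h1 := uGen_inf_disjoint hQ hR hd (mul_mem (inv_mem a'.2.1) a.2.1)
        (e' ▸ mul_mem b'.2.1 (inv_mem b.2.1))
      have ea : a'.1 = a.1 := inv_mul_eq_one.1 h1
      rw [ea] at e
      exact Prod.ext (Subtype.ext ea.symm) (Subtype.ext (mul_left_cancel e))
    · rintro ⟨g, hg⟩
      obtain ⟨a, ha, b, hb, rfl⟩ :=
        fixed_components hσ hP hQ hR hd (fun r hr => (hcov r hr).1) hQr hRr hg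
      exact ⟨(⟨a, ha⟩, ⟨b, hb⟩), rfl⟩
  · intro h1 h2 g hg
    obtain ⟨a, ha, b, hb, rfl⟩ :=
      fixed_components hσ hP hQ hR hd (fun r hr => (hcov r hr).1) hQr hRr hg
    exact mul_mem (h1 ha) (h2 hb)

theorem jRoot_list {s : Bool} : rootsFrom chevF4 (JRoot s) 0 =
    cond s [f4b, f4a, f4ab, f4aab] [f4p4, f4p1] := by
  have h1 : rootsFrom chevF4 (JRoot s) 0 =
      rootsFrom chevF4 (fun r => r ∈ cond s [f4b, f4a, f4ab, f4aab] [f4p4, f4p1]) 0 := by
    refine rootsFrom_congr fun r hr => ?_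
    obtain ⟨h1, h2⟩ := jl_roots ⟨r, hr⟩
    cases s
    · rw [h1]; simp [or_comm]
    · rw [h2]; simp [or_left_comm]
  rw [h1, rootsFrom, List.filter_congr (q := fun r =>
    List.elem r (cond s [f4b, f4a, f4ab, f4aab] [f4p4, f4p1])) (fun r _ => by simp)]
  cases s <;> decide +kernel

/-- The fixed elements of the two classes of simple roots. -/
theorem base_spec (s : Bool) : V σ (JRoot s) ≤ G1 K m ∧
    Nat.card (V σ (JRoot s)) = Fintype.card K ^ (cond s 2 1) := by
  have hcl : ClosedPos chevF4 tb (JRoot s) := closedPos_inv hc _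
  have hlist := jRoot_list hσ (s := s)
  cases s
  · simp only [cond_false] at hlist ⊢
    have hpq : (f4p1, f4p4) ∈ [(f4p1, f4p4), (f4m1, f4m4)] := by simp
    have hcomm' : ∀ x y : K, X f4p4 x * X f4p1 y = X f4p1 y * X f4p4 x := fun x y =>
      (X_comm (show (f4p4, f4p1) ∈ _ by decide) x y).eq
    have hprod : ∀ t : ℕ → K, uProd chevF4 K (rootsFrom chevF4 (JRoot false) 0) t =
        X f4p1 (t f4p1) * X f4p4 (t f4p4) := fun t => by
      rw [hlist, ← hcomm']; simp [uProd]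
    have hmem : ∀ x : K, X f4p1 (x ^ 2 ^ m) * X f4p4 x ∈ V σ (JRoot false) := fun x => by
      refine ⟨?_, pair_fixed hσ hpq x⟩
      have := mem_uGen_of_uProd hc (P := JRoot false) (F := K)
        (fun r => if r = f4p1 then x ^ 2 ^ m else x)
      rw [hprod, if_pos rfl, if_neg (by decide)] at this
      exact this
    have hform : ∀ g ∈ V σ (JRoot false), ∃ x : K, g = X f4p1 (x ^ 2 ^ m) * X f4p4 x := by
      rintro g ⟨h1, h2⟩
      obtain ⟨t, rfl⟩ := uGen_exists hc hcomm hcl h1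
      have e := (mem_fixF.1 h2).2
      rw [hprod, pair_sigma hσ hpq] at e
      have e' : uProd chevF4 K (rootsFrom chevF4 (JRoot false) 0)
          (fun r => if r = f4p1 then t f4p4 ^ 2 ^ m else t f4p1 ^ (2 * 2 ^ m)) =
          uProd chevF4 K (rootsFrom chevF4 (JRoot false) 0) t := by
        rw [hprod, hprod, if_pos rfl, if_neg (by decide)]; exact e
      have := uProd_inj hc hcl.1 0 e' f4p1 (by rw [hlist]; simp)
      rw [if_pos rfl] at this
      exact ⟨t f4p4, by rw [hprod, this]⟩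
    refine ⟨fun g hg => ?_, ?_⟩
    · obtain ⟨x, rfl⟩ := hform g hg
      exact (pairWord_mem hσ x).1
    · rw [pow_one, ← Nat.card_eq_fintype_card]
      refine (Nat.card_congr (Equiv.ofBijective
        (fun x : K => (⟨_, hmem x⟩ : V σ (JRoot false))) ⟨fun x y h => ?_, ?_⟩)).symm
      · have e := congrArg Subtype.val h
        have e' : uProd chevF4 K (rootsFrom chevF4 (JRoot false) 0)
            (fun r => if r = f4p1 then x ^ 2 ^ m else x) =
            uProd chevF4 K (rootsFrom chevF4 (JRoot false) 0)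
            (fun r => if r = f4p1 then y ^ 2 ^ m else y) := by
          rw [hprod, hprod]; simp only [if_neg (show f4p4 ≠ f4p1 by decide)]; exact e
        simpa [show f4p4 ≠ f4p1 by decide] using
          uProd_inj hc hcl.1 0 e' f4p4 (by rw [hlist]; simp)
      · rintro ⟨g, hg⟩
        obtain ⟨x, rfl⟩ := hform g hg
        exact ⟨x, rfl⟩
  · simp only [cond_true] at hlist ⊢
    have hq : (f4a, f4b, f4ab, f4aab) ∈ quads := by simp [quads]
    have hprod : ∀ t : ℕ → K, uProd chevF4 K (rootsFrom chevF4 (JRoot true) 0) t =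
        X f4b (t f4b) * X f4a (t f4a) * X f4ab (t f4ab) * X f4aab (t f4aab) := fun t => by
      rw [hlist]; simp [uProd, mul_assoc]
    let par : K → K → ℕ → K := fun x y r => if r = f4b then x else if r = f4a then x ^ 2 ^ m
      else if r = f4ab then y else x ^ (2 * 2 ^ m + 1) + y ^ (2 * 2 ^ m)
    have hpar : ∀ x y, uProd chevF4 K (rootsFrom chevF4 (JRoot true) 0) (par x y) =
        quadNF m f4a f4b f4ab f4aab x y := fun x y => by
      rw [hprod, quadNF]; rfl
    have hmem : ∀ x y : K, quadNF m f4a f4b f4ab f4aab x y ∈ V σ (JRoot true) := fun x y =>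
      ⟨hpar x y ▸ mem_uGen_of_uProd hc _, quadNF_fixed hσ hq x y⟩
    have hform : ∀ g ∈ V σ (JRoot true), ∃ x y : K, g = quadNF m f4a f4b f4ab f4aab x y := by
      rintro g ⟨h1, h2⟩
      obtain ⟨t, rfl⟩ := uGen_exists hc hcomm hcl h1
      have e := (mem_fixF.1 h2).2
      rw [hprod, quad_sigma hσ hq] at e
      let w : ℕ → K := fun r => if r = f4b then t f4a ^ (2 * 2 ^ m) else if r = f4a then
        t f4b ^ 2 ^ m else if r = f4ab then t f4b ^ 2 ^ m * t f4a ^ (2 * 2 ^ m) + t f4aab ^ 2 ^ m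
        else (t f4b ^ 2 ^ m) ^ 2 * t f4a ^ (2 * 2 ^ m) + t f4ab ^ (2 * 2 ^ m)
      have e' : uProd chevF4 K (rootsFrom chevF4 (JRoot true) 0) w =
          uProd chevF4 K (rootsFrom chevF4 (JRoot true) 0) t := by
        rw [hprod, hprod]; exact e
      have hi := uProd_inj hc hcl.1 0 e'
      rw [hlist] at hi
      have eb : t f4a ^ (2 * 2 ^ m) = t f4b := hi f4b (by simp)
      have ea : t f4b ^ 2 ^ m = t f4a := hi f4a (by simp)
      have ee : (t f4b ^ 2 ^ m) ^ 2 * t f4a ^ (2 * 2 ^ m) + t f4ab ^ (2 * 2 ^ m) = t f4aab :=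
        hi f4aab (by simp)
      refine ⟨t f4b, t f4ab, ?_⟩
      rw [eb, ← pow_mul, ← pow_succ, mul_comm (2 ^ m) 2] at ee
      rw [hprod, quadNF, ea, ee]
    refine ⟨fun g hg => ?_, ?_⟩
    · obtain ⟨x, y, rfl⟩ := hform g hg
      exact quadNF_mem hσ hq x y
    · rw [pow_two, ← Nat.card_eq_fintype_card, ← Nat.card_prod]
      refine (Nat.card_congr (Equiv.ofBijective
        (fun p : K × K => (⟨_, hmem p.1 p.2⟩ : V σ (JRoot true))) ⟨fun p p' h => ?_, ?_⟩)).symm
      · have e : uProd chevF4 K (rootsFrom chevF4 (JRoot true) 0) (par p.1 p.2) =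
            uProd chevF4 K (rootsFrom chevF4 (JRoot true) 0) (par p'.1 p'.2) := by
          rw [hpar, hpar]; exact congrArg Subtype.val h
        have hi := uProd_inj hc hcl.1 0 e
        rw [hlist] at hi
        exact Prod.ext (hi f4b (by simp)) (hi f4ab (by simp))
      · rintro ⟨g, hg⟩
        obtain ⟨x, y, rfl⟩ := hform g hg
        exact ⟨(x, y), rfl⟩

/-- The monomial element of an alternating product. -/
theorem nu_mem (s : Bool) : ∀ k, nProd chevF4 K (altW s k) ∈ G1 K m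
  | 0 => one_mem _
  | k + 1 => by
    rw [altW, nProd_append]
    exact mul_mem (nu_mem s k) (nJ_mem hσ _)

theorem nu_fixed (s : Bool) (k : ℕ) : nProd chevF4 K (altW s k) ∈ fixF σ :=
  G1_le_fix hσ (nu_mem hσ s k)

/-- The fixed elements of a class are conjugate to those of a class of simple roots. -/
theorem class_spec {s : Bool} {k : ℕ} (hk : k < 8) : V σ (SRoot s k) ≤ G1 K m ∧
    Nat.card (V σ (SRoot s k)) = Fintype.card K ^ (cond (sideAt s k) 2 1) := by
  set n := nProd chevF4 K (altW s k) with hn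
  have hnF := nu_fixed hσ s k
  have hup : ∀ g ∈ V σ (JRoot (sideAt s k)), n * g * n⁻¹ ∈ V σ (SRoot s k) := by
    rintro g ⟨h1, h2⟩
    refine Subgroup.mem_inf.2 ⟨conj_nProd_uGen _ (fun r hr hJ => ?_) h1, mul_mem (mul_mem hnF (h2 : g ∈ fixF σ)) (inv_mem hnF)⟩
    rw [sroot_iff hk (sigs_lt hc _ hr), (altW_commute s ⟨k, by omega⟩ ⟨r, hr⟩).2]
    exact hJ
  have hdown : ∀ g ∈ V σ (SRoot s k), n⁻¹ * g * n ∈ V σ (JRoot (sideAt s k)) := by
    rintro g ⟨h1, h2⟩
    exact Subgroup.mem_inf.2 ⟨conj_nProd_inv_uGen _ (fun r hr hS => (sroot_iff hk hr).1 hS) h1,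
      mul_mem (mul_mem (inv_mem hnF) (h2 : g ∈ fixF σ)) hnF⟩
  obtain ⟨hb1, hb2⟩ := base_spec hσ (sideAt s k)
  refine ⟨fun g hg => ?_, ?_⟩
  · have := mul_mem (mul_mem (nu_mem hσ s k) (hb1 (hdown g hg))) (inv_mem (nu_mem hσ s k))
    rwa [← hn, show n * (n⁻¹ * g * n) * n⁻¹ = g by group] at this
  · rw [← hb2]
    refine (Nat.card_congr (Equiv.ofBijective
      (fun g : V σ (JRoot (sideAt s k)) => (⟨_, hup g.1 g.2⟩ : V σ (SRoot s k)))
      ⟨fun a b h => ?_, ?_⟩)).symm
    · exact Subtype.ext (mul_left_cancel (mul_right_cancel (congrArg Subtype.val h)))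
    · rintro ⟨g, hg⟩
      exact ⟨⟨_, hdown g hg⟩, Subtype.ext (show n * (n⁻¹ * g * n) * n⁻¹ = g by group)⟩

end

/-- The exponent of `q` in the number of fixed elements made negative in the first `k` steps. -/
def dimI (s : Bool) : ℕ → ℕ
  | 0 => 0
  | k + 1 => dimI s k + cond (sideAt s k) 2 1

section
variable (hσ : IsSigma m σ)
include hσ

theorem iroot_spec (s : Bool) : ∀ k ≤ 8, V σ (IRoot s k) ≤ G1 K m ∧
    Nat.card (V σ (IRoot s k)) = Fintype.card K ^ dimI s k := by
  intro k hk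
  induction k with
  | zero =>
    have : V σ (IRoot s 0) = ⊥ := by
      refine eq_bot_iff.2 (inf_le_left.trans ?_)
      refine uGen_le_iff.2 fun r hr h => ?_
      exact absurd h.2 (Nat.not_lt.2 h.1)
    rw [this, Subgroup.card_bot]
    exact ⟨bot_le, rfl⟩
  | succ k ih =>
    obtain ⟨i1, i2⟩ := ih (by omega)
    obtain ⟨c1, c2⟩ := class_spec hσ (s := s) (k := k) (by omega)
    have h := card_split hσ (P := IRoot s (k + 1)) (Q := IRoot s k) (R := SRoot s k)
      (closedPos_inv hc _) (closedPos_inv hc _) (closedPos_sroot s k)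
      (fun r hr a b => absurd a.2 (Nat.not_lt.2 b.2.1))
      (fun r hr => iroot_split (by omega) hr) (fun r hr => iroot_rho (by omega) hr)
      (fun r hr => sroot_rho (by omega) hr)
    exact ⟨h.2 i1 c1, by rw [h.1, i2, c2, dimI, pow_add]⟩

theorem V_pos_eq (s : Bool) : V σ PosR = V σ (IRoot s 8) :=
  V_congr fun r hr => ⟨fun h => ⟨h, (longest s ⟨r, hr⟩ h).1⟩, fun h => h.1⟩

theorem V_pos_le : V σ PosR ≤ G1 K m := by
  rw [V_pos_eq hσ false]; exact (iroot_spec hσ false 8 le_rfl).1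

theorem card_V_pos : Nat.card (V σ PosR) = Fintype.card K ^ 12 := by
  rw [V_pos_eq hσ false, (iroot_spec hσ false 8 le_rfl).2]; rfl

/-- The unipotent group of 2F4. -/
theorem posU_inf_eq : chevF4.posUnipotent K ⊓ G1 K m = V σ PosR := by
  rw [posUnipotent_eq hc]
  exact le_antisymm (inf_le_inf_left _ (G1_le_fix hσ)) (le_inf inf_le_left (V_pos_le hσ))

end

end CfsgLib.ReeF4
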