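import Cfsg.Agent.Lib.Twisted.NOrb
import Cfsg.Agent.Lib.Twisted.Field
import Cfsg.Agent.Lib.Chev.Gen.ChkD4
import Cfsg.Agent.Lib.Chevalley.DiagramSym
import Cfsg.Prelude.Def_LieTwisted

/-!
The symmetry of D4 used for the twisted group, with its checks, and the twisted group as `twistGrp`.
-/

set_option autoImplicit false

namespace CfsgLib.Twisted.D4

open Cfsg.Lie CfsgLib.Chev CfsgLib.Chevalley

/-- The symmetry of D4. -/
def sym : TwistSym chevD4 := ⟨[2, 1, 3, 0], [3, 1, 0, 2], d4TriARho, d4TriARhoInv, d4TriASign, 3⟩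

/-- The heights of the roots of D4. -/
def hts : List ℤ := [-5, -4, -3, -3, -2, -1, -3, -2, -2, -1, -1, -1, 1, 1, 1, 2, 2, 3, 1, 2, 3, 3, 4, 5]

theorem sym_test : sym.test = true := by decide +kernel

theorem sym_nodeTest : sym.nodeTest hts = true := by decide +kernel

end CfsgLib.Twisted.D4
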