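import Cfsg.Agent.Lib.Twisted.NOrb
import Cfsg.Agent.Lib.Twisted.Field
import Cfsg.Agent.Lib.Chev.Gen.ChkE6
import Cfsg.Agent.Lib.Chevalley.DiagramSym
import Cfsg.Prelude.Def_LieTwisted

/-!
The symmetry of E6 used for the twisted group, with its checks, and the twisted group as `twistGrp`.
-/

set_option autoImplicit false

namespace CfsgLib.Twisted.E6

open Cfsg.Lie CfsgLib.Chev CfsgLib.Chevalley

/-- The symmetry of E6. -/
def sym : TwistSym chevE6 := ⟨[5, 1, 4, 3, 2, 0], [5, 1, 4, 3, 2, 0], e6FlipRho, e6FlipRhoInv, e6FlipSign, 2⟩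

/-- The heights of the roots of E6. -/
def hts : List ℤ := [-11, -10, -9, -8, -7, -8, -7, -6, -6, -5, -4, -5, -4, -3, -2, -1, -7, -6, -5, -5, -4, -3, -4, -3, -2, -1, -4, -3, -2, -1, -3, -2, -1, -2, -1, -1, 1, 1, 2, 1, 2, 3, 1, 2, 3, 4, 1, 2, 3, 4, 3, 4, 5, 5, 6, 7, 1, 2, 3, 4, 5, 4, 5, 6, 6, 7, 8, 7, 8, 9, 10, 11]

theorem sym_test : sym.test = true := by decide +kernel

theorem sym_nodeTest : sym.nodeTest hts = true := by decide +kernel

end CfsgLib.Twisted.E6
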