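import Cfsg.Agent.Lib.Twisted.E6Simple
import Cfsg.Agent.Lib.Twisted.TwoGenTools
import Cfsg.Prelude.Def_ChevAutomorphisms

/-!
The group `²E₆(q)` is generated by two elements.
-/

set_option autoImplicit false

namespace CfsgLib.Twisted.E6

open Cfsg.Lie CfsgLib.Chev CfsgLib.Chevalley

/-- The word for the Coxeter element. -/
def coxWord : List ℕ := [1, 3, 4, 5]

theorem word_lt : ∀ i ∈ coxWord, i < chevE6.rank := by decide +kernel

theorem gen_facts :
    chevE6.simple 4 = 37 ∧ sym.olen 37 = 2 ∧ sym.olen 36 = 2 ∧ sym.img 37 = 42 ∧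
    sym.wWord coxWord 37 = 36 ∧ sym.olen 1 = 1 ∧ sym.wWord coxWord 1 = 2 ∧ sym.olen 2 = 1 := by
  decide +kernel

theorem bound_facts : 37 < chevE6.nroots ∧ 1 < chevE6.nroots ∧ 2 < chevE6.nroots ∧ 4 < chevE6.rank := by
  decide +kernel

theorem pairing_facts :
    [chevE6.pairing 37 36, chevE6.pairing 42 36] = [-1, 0] ∧
    [chevE6.pairing 37 37, chevE6.pairing 42 37] = [2, 0] ∧
    [chevE6.pairing 37 1, chevE6.pairing 42 1] = [0, 0] ∧
    [chevE6.pairing 37 2, chevE6.pairing 42 2] = [-1, -1] := by decide +kernel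

theorem long_facts :
    sym.olen 0 = 1 ∧ sym.olen 53 = 1 ∧ sym.olen 8 = 1 ∧
    chevE6.commTerms 0 53 = [(8, 1, 1, 1)] ∧ 53 ≠ chevE6.neg 0 := by decide +kernel

theorem short_facts :
    sym.olen 9 = 2 ∧ sym.olen 71 = 1 ∧ sym.olen 54 = 2 ∧ sym.olen 39 = 1 ∧
    sym.img 9 = 19 ∧ sym.img 54 = 64 ∧ sym.img 39 = 39 ∧ sym.sgn 39 = 1 ∧
    71 ≠ chevE6.neg 9 ∧ 71 ≠ chevE6.neg 19 ∧ 54 ≠ chevE6.neg 19 ∧
    chevE6.commTerms 9 71 = [(54, 1, 1, 1)] ∧ chevE6.commTerms 19 71 = [(64, 1, 1, 1)] ∧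
    chevE6.commTerms 19 54 = [(39, -1, 1, 1)] ∧ 1 * sym.sgn 9 = sym.sgn 54 * 1 := by decide +kernel

theorem reach_long : ((sym.wWord coxWord)^[10] 2 = 0) ∧ ((sym.wWord coxWord)^[3] 2 = 53) ∧
    ((sym.wWord coxWord)^[4] 2 = 71) ∧ ((sym.wWord coxWord)^[3] 36 = 9) ∧
    ((sym.wWord coxWord)^[2] 8 = 39) := by decide +kernel

theorem reach_ok : sym.reachTest coxWord 12 [2, 8, 36, 54] = true := by decide +kernel

variable {K : Type*} [Field K] [Fintype K] {q : ℕ}

theorem two_generated (hq : IsPrimePow q) (hK : Fintype.card K = q ^ 2) :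
    ∃ a b : ↥(twistedE6 K q), Subgroup.closure ({a, b} : Set ↥(twistedE6 K q)) = ⊤ := by
  obtain ⟨φ, hφ⟩ := exists_frob hq two_ne_zero hK
  rw [twistedE6_eq hK φ hφ]
  obtain ⟨f1, f2, f3, f4, f5, f6, f7, f8⟩ := gen_facts
  obtain ⟨b1, b2, b3, b4⟩ := bound_facts
  obtain ⟨p1, p2, p3, p4⟩ := pairing_facts
  simp only [List.cons.injEq, and_true] at p1 p2 p3 p4
  obtain ⟨k, hk⟩ := IsCyclic.exists_generator (α := Kˣ)
  have hc := CfsgLib.Chev.E6.checked
  have hpar : ∀ r, sym.olen r = 2 → ∀ t : K, IsPar sym φ r t := fun r hr => par_full hK φ hφ r hr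
  have hex : ∀ r p₀ p₁, chevE6.pairing 37 r = p₀ → chevE6.pairing 42 r = p₁ →
      sym.expo q 37 r = p₀ + (q : ℤ) * p₁ :=
    fun r p₀ p₁ h0 h1 => expo_two f2 h0 (by rw [f4]; exact h1)
  have ea : sym.expo q 37 36 = -1 := by rw [hex 36 (-1) 0 p1.1 p1.2]; ring
  have ea' : sym.expo q 37 37 = 2 := by rw [hex 37 2 0 p2.1 p2.2]; ring
  have ec : sym.expo q 37 1 = 0 := by rw [hex 1 0 0 p3.1 p3.2]; ring
  have el : sym.expo q 37 2 = -(1 + (q : ℤ)) := by rw [hex 2 _ _ p4.1 p4.2]; ring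
  have hcard : 4 ≤ q ^ 2 := le_trans (by norm_num) (Nat.pow_le_pow_left hq.two_le 2)
  have hs : k ^ sym.expo q 37 36 ≠ 1 := by
    rw [ea]
    exact gen_zpow_ne_one hk (by norm_num) (by rw [hK, show (-1 : ℤ).natAbs = 1 from rfl]; omega)
  have hs' : k ^ sym.expo q 37 37 ≠ 1 := by
    rw [ea']
    exact gen_zpow_ne_one hk two_ne_zero (by rw [hK, show (2 : ℤ).natAbs = 2 from rfl]; omega)
  obtain ⟨g, hg, y, hy, h⟩ := two_gen_core hc sym_test φ sym_nodeTest hφ word_lt (i := 4) (a := 36)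
    (a' := 37) (c := 1) b4 (by rw [f1]; exact hpar 37 f2) (hpar 36 f3) b1 f5 b2 f6
    (k := k) (by rwa [f1]) (by rwa [f1]) (by rw [f1]; exact ec) (fun t => by
      rw [f1, ea]
      exact gen_short (e := (-1 : ℤ)) hk (fun t => ⟨t, 0, by simp⟩) (by norm_num) t)
  refine twoGenerated_of_le hg hy ?_
  set G := Subgroup.closure ({g, y} : Set (GL chevE6.Idx K))
  have hGfix : G ≤ fixedSub sym sym_test φ := by
    refine (Subgroup.closure_le _).2 ?_
    rintro x (rfl | rfl)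
    · exact twistGrp_le_fixed hc sym_test φ hg
    · exact twistGrp_le_fixed hc sym_test φ hy
  obtain ⟨hτ, hn, hx, hA⟩ := h G (Subgroup.subset_closure (Or.inl rfl)) (Subgroup.subset_closure (Or.inr rfl))
  rw [f1] at hτ
  obtain ⟨-, u, hu, hu0, huX⟩ := wPow_orbX hc sym_test φ sym_nodeTest word_lt hn b2 (isPar_one φ _)
    one_ne_zero hx 1
  rw [Function.iterate_one, f7] at hu huX
  have h2 : FullOrb sym_test φ G 2 := by
    have hτf := twistGrp_le_fixed hc sym_test φ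
      (tau_mem hc sym_test φ sym_nodeTest hφ b4 (by rw [f1]; exact hpar 37 f2) k)
    rw [f1] at hτf
    refine full_of_tau hc sym_test φ b1 hτf hτ b3 hu hu0 huX fun t ht => ?_
    rw [el]
    refine gen_long (q := q) (N := 1 + q) hk hq.one_lt ?_ ?_ ?_
    · rw [hK]
      zify [hq.one_lt.le, (by omega : 1 ≤ q ^ 2)]
      ring
    · rw [Int.natAbs_neg, show (1 + (q : ℤ)) = ((1 + q : ℕ) : ℤ) by push_cast; ring, Int.natAbs_natCast]
    · rw [IsPar, f8, Function.iterate_one, hφ] at ht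
      exact ht
  obtain ⟨l1, l2, l3, l4, l5⟩ := long_facts
  obtain ⟨s1, s2, s3, s4, s5, s6, s7, s8, s9, s10, s11, s12, s13, s14, s15⟩ := short_facts
  obtain ⟨r0, r53, r71, r9, r39⟩ := reach_long
  have hr : ∀ {s r : ℕ}, FullOrb sym_test φ G s → ∀ j, (sym.wWord coxWord)^[j] s = r →
      FullOrb sym_test φ G r :=
    fun h j e => full_reach hc sym_test φ sym_nodeTest sym_bnTest word_lt hn h j 0 e
  have h8 : FullOrb sym_test φ G 8 := full_long hc sym_test φ comm_one (hr h2 10 r0) (hr h2 3 r53)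
    (by decide) l5 l4 (Or.inl rfl) l1 l2 l3
  have h54 : FullOrb sym_test φ G 54 := full_short hc sym_test φ sym_nodeTest comm_one hGfix (hr hA 3 r9)
    (hr h2 4 r71) (hr h8 2 r39) s1 s2 s3 s4 (by decide) s9 (by rw [s5]; decide) (by rw [s5]; exact s10)
    (by rw [s5]; decide) (by rw [s5]; exact s11) s12 (by rw [s5, s6]; exact s13) (by rw [s5]; exact s14)
    (Or.inl rfl) s15 s7 s8
  exact twistGrp_le_of_reach hc sym_test φ sym_nodeTest sym_bnTest word_lt hn
    (fun s hs => by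
      simp only [List.mem_cons, List.not_mem_nil, or_false] at hs
      rcases hs with rfl | rfl | rfl | rfl
      · exact h2
      · exact h8
      · exact hA
      · exact h54) reach_ok

end CfsgLib.Twisted.E6
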