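import Cfsg.Agent.Lib.Twisted.F4TwoGen

/-!
`²F₄(q)`, `q ≥ 8`, is perfect: commutators of the torus with the root subgroups give all generators.
-/

set_option autoImplicit false
set_option linter.unusedSectionVars false
set_option maxRecDepth 4000

namespace CfsgLib.ReeF4

open Cfsg.Lie CfsgLib.Chev
open scoped commutatorElement

variable {K : Type*} [Field K] [Fintype K] {m : ℕ} {σ : MulAut ↥(chevF4.group K)}

theorem commutator_eq_top (hσ : IsSigma m σ) (hm : 1 ≤ m) : commutator ↥(G1 K m) = ⊤ := by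
  classical
  haveI := charP_two hσ.card
  set D := (commutator ↥(G1 K m)).map (G1 K m).subtype with hD
  have hcm : ∀ a ∈ G1 K m, ∀ b ∈ G1 K m, a * b * a⁻¹ * b⁻¹ ∈ D := fun a ha b hb =>
    ⟨⁅(⟨a, ha⟩ : ↥(G1 K m)), ⟨b, hb⟩⁆,
      Subgroup.commutator_mem_commutator (Subgroup.mem_top _) (Subgroup.mem_top _), by
        simp [commutatorElement_def]⟩
  have hconj : ∀ a ∈ G1 K m, ∀ b ∈ G1 K m, b ∈ D → a * b * a⁻¹ ∈ D := fun a ha b hb hbD => by
    have h := mul_mem (hcm a ha b hb) hbD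
    rwa [inv_mul_cancel_right] at h
  obtain ⟨ω, hω⟩ := IsCyclic.exists_generator (α := Kˣ)
  have hw1 : (ω : K) ≠ 1 := fun e => by
    have h1 : ∀ x : Kˣ, x = 1 := fun x => by
      obtain ⟨k, rfl⟩ := Subgroup.mem_zpowers_iff.1 (hω x)
      rw [show ω = 1 from Units.ext e, one_zpow]
    have := Fintype.card_le_one_iff_subsingleton.2 ⟨fun a b => (h1 a).trans (h1 b).symm⟩
    rw [Fintype.card_units, hσ.card] at this
    have : 2 ^ 3 ≤ 2 ^ (2 * m + 1) := Nat.pow_le_pow_right two_pos (by omega)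
    omega
  have c1 : (ω : K) ^ 2 + 1 ≠ 0 := fun e => hw1 (by
    have h := (sq_eq_sq_iff_eq_or_eq_neg (a := (ω : K)) (b := 1)).1
      (by linear_combination e + (-1 : K) * hσ.char2)
    exact h.elim id fun g => g.trans (neg_self hσ 1))
  have c2 : ((ω⁻¹ : Kˣ) : K) + 1 ≠ 0 := fun e => hw1 (by
    have h : ((ω⁻¹ : Kˣ) : K) = 1 := by linear_combination e + (-1 : K) * hσ.char2
    rw [Units.val_inv_eq_inv_val, inv_eq_one] at h
    exact h)
  have ht := tau_mem hσ ω
  have hP : ∀ a : K, pairX m a ∈ D := by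
    intro a
    obtain ⟨b, rfl⟩ : ∃ b, ((ω : K) ^ 2 + 1) * b = a := ⟨a / ((ω : K) ^ 2 + 1), mul_div_cancel₀ _ c1⟩
    have h := hcm _ ht _ (pairX_mem hσ b)
    rw [tau_pairX hσ] at h
    have hinv : (pairX m b)⁻¹ = pairX m b := inv_eq_of_mul_eq_one_right (by
      rw [pairX_add hσ, add_self hσ, pairX, zero_pow (pow_ne_zero _ two_ne_zero),
        elX_zero' (lt_check _ (by simp)), elX_zero' (lt_check _ (by simp)), one_mul])
    rwa [hinv, pairX_add hσ, show (ω : K) ^ 2 * b + b = ((ω : K) ^ 2 + 1) * b by ring] at h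
  have h00 : quadX m (0 : K) 0 = 1 := by
    have h0 := quadX_center_add hσ (0 : K) 0
    rw [add_zero] at h0
    exact mul_eq_left.1 h0
  have hQ' : ∀ a : K, ∃ u, quadX m a u ∈ D := by
    intro a
    obtain ⟨b, rfl⟩ : ∃ b, (((ω⁻¹ : Kˣ) : K) + 1) * b = a := ⟨a / (((ω⁻¹ : Kˣ) : K) + 1), mul_div_cancel₀ _ c2⟩
    have h := hcm _ ht _ (quadX_mem hσ b 0)
    rw [tau_quadX hσ, mul_zero] at h
    have hinv : (quadX m b 0)⁻¹ = quadX m b (b ^ 2 ^ m * b) := inv_eq_of_mul_eq_one_right (by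
      rw [quadX_mul hσ, add_self hσ, zero_add, add_self hσ, h00])
    rw [hinv, quadX_mul hσ, zero_add, ← add_one_mul] at h
    exact ⟨_, h⟩
  have hQ : ∀ a u : K, quadX m a u ∈ D := by
    have hc0 : ∀ u : K, quadX m 0 u ∈ D := by
      intro u
      obtain ⟨y, rfl⟩ := pow_succ_surj hσ u
      obtain ⟨v, hv⟩ := hQ' y
      have := mul_mem hv hv
      rwa [quadX_mul hσ, add_self hσ, add_self hσ, zero_add, ← pow_succ] at this
    intro a u
    obtain ⟨v, hv⟩ := hQ' a
    have := mul_mem hv (hc0 (v + u))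
    rwa [quadX_mul hσ, add_zero, mul_zero, add_zero, ← add_assoc, add_self hσ, zero_add] at this
  have hn := nu_mem hσ false 8
  have hle : G1 K m ≤ D := by
    obtain ⟨-, r1, r4, ra, rb, rab, raab⟩ := longest_check
    have hwm : ∀ r ∈ [f4p1, f4p4, f4m1, f4m4, f4a, f4b, f4ab, f4aab, f4ma, f4mb, f4mab, f4maab],
        ∀ a : K, ((X r a : GL chevF4.Idx K) : Matrix chevF4.Idx chevF4.Idx K) = _ := fun r hr a =>
      coe_elX hc K (lt_check _ hr) a
    refine (Subgroup.closure_le _).2 ?_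
    rintro g ⟨w, hw, hg⟩
    rcases hw with ⟨t, rfl | rfl⟩ | ⟨t, u, rfl | rfl⟩
    · have e : g = pairX m t := by
        ext1; rw [hg, pairX, Units.val_mul, hwm _ (by simp), hwm _ (by simp)]
        simp [ChevalleyDatum.wordMat, f4PairWord]
      rw [e]; exact hP t
    · have e : g = nProd chevF4 K (altW false 8) * pairX m t * (nProd chevF4 K (altW false 8))⁻¹ := by
        rw [pairX, show ∀ a b c : GL chevF4.Idx K, a * (b * c) * a⁻¹ = a * b * a⁻¹ * (a * c * a⁻¹) from
          fun a b c => by group, n0_conj hσ (lt_check _ (by simp)) r1, n0_conj hσ (lt_check _ (by simp)) r4]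
        ext1; rw [hg, Units.val_mul, hwm _ (by simp), hwm _ (by simp)]
        simp [ChevalleyDatum.wordMat, f4PairWord]
      rw [e]; exact hconj _ hn _ (pairX_mem hσ t) (hP t)
    · have e : g = quadX m t u := by
        rw [quadX, ← quad_word_eq hσ hq4 t u]
        ext1
        rw [hg, Units.val_mul, Units.val_mul, Units.val_mul, hwm _ (by simp), hwm _ (by simp),
          hwm _ (by simp), hwm _ (by simp)]
        simp [ChevalleyDatum.wordMat, b2ClassWord, mul_assoc]
      rw [e]; exact hQ t u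
    · have e : g = nProd chevF4 K (altW false 8) * quadX m t u * (nProd chevF4 K (altW false 8))⁻¹ := by
        rw [quadX, ← quad_word_eq hσ hq4 t u,
          show ∀ a b c d e : GL chevF4.Idx K, a * (b * c * d * e) * a⁻¹ =
            a * b * a⁻¹ * (a * c * a⁻¹) * (a * d * a⁻¹) * (a * e * a⁻¹) from fun a b c d e => by group,
          n0_conj hσ (lt_check _ (by simp)) ra, n0_conj hσ (lt_check _ (by simp)) rb,
          n0_conj hσ (lt_check _ (by simp)) rab, n0_conj hσ (lt_check _ (by simp)) raab]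
        ext1
        rw [hg, Units.val_mul, Units.val_mul, Units.val_mul, hwm _ (by simp), hwm _ (by simp),
          hwm _ (by simp), hwm _ (by simp)]
        simp [ChevalleyDatum.wordMat, b2ClassWord, mul_assoc]
      rw [e]; exact hconj _ hn _ (quadX_mem hσ t u) (hQ t u)
  refine (Subgroup.eq_top_iff' _).2 fun x => ?_
  obtain ⟨y, hy, e⟩ := hle x.2
  rwa [← show y = x from Subtype.ext e]

end CfsgLib.ReeF4
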