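import Cfsg.Agent.Lib.Twisted.F4U
import Cfsg.Agent.Lib.Twisted.TorusKer

/-!
The diagonal elements fixed by σ: their number and their membership in 2F4.
-/

set_option autoImplicit false
set_option linter.unusedSectionVars false
set_option maxRecDepth 4000

namespace CfsgLib.ReeF4

open Cfsg.Lie CfsgLib.Chev

variable {K : Type*} [Field K]

/-- The inverse of the Cartan matrix of F4. -/
def cmInv (i k : Fin chevF4.rank) : ℤ :=
  ([[2, 3, 4, 2], [3, 6, 8, 4], [2, 4, 6, 3], [1, 2, 3, 2]].getD i.val ([] : List ℤ)).getD k.val 0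

theorem cmInv_spec : ∀ i k : Fin chevF4.rank,
    ∑ j, cm chevF4 i j * cmInv j k = if i = k then ((1 : ℕ) : ℤ) else 0 := by decide +kernel

theorem node_facts : ∀ i : Fin chevF4.rank, rho (chevF4.simple i.val) = chevF4.simple (Fin.rev i).val := by
  decide +kernel

theorem hPar_injective : Function.Injective (hPar chevF4 K) := by
  refine (injective_iff_map_eq_one _).2 fun c h => ?_
  have := CfsgLib.Twisted.ker_pow_eq_one cmInv cmInv_spec h
  rwa [pow_one] at this

/-- The diagonal element of a family of parameters. -/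
noncomputable def hh (K : Type*) [Field K] : (Fin chevF4.rank → Kˣ) →* GL chevF4.Idx K :=
  (torus chevF4 tb K).comp (hPar chevF4 K)

theorem hh_injective : Function.Injective (hh K) :=
  (torus_injective hc).comp hPar_injective

theorem hh_mem (c : Fin chevF4.rank → Kˣ) : hh K c ∈ chevF4.diagonalSubgroup K :=
  (mem_diagonal hc).2 ⟨c, rfl⟩

theorem hh_mem_group (c : Fin chevF4.rank → Kˣ) : hh K c ∈ chevF4.group K :=
  diagonal_le_group hc (hh_mem c)

theorem four_single (c : Fin chevF4.rank → Kˣ) :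
    c = Pi.mulSingle (⟨0, by decide⟩ : Fin chevF4.rank) (c ⟨0, by decide⟩) *
        Pi.mulSingle (⟨1, by decide⟩ : Fin chevF4.rank) (c ⟨1, by decide⟩) *
        Pi.mulSingle (⟨2, by decide⟩ : Fin chevF4.rank) (c ⟨2, by decide⟩) *
        Pi.mulSingle (⟨3, by decide⟩ : Fin chevF4.rank) (c ⟨3, by decide⟩) := by
  funext j
  obtain ⟨j, hj⟩ := j
  have hj' : j < 4 := hj
  interval_cases j <;> simp

theorem hh_single (i : Fin chevF4.rank) (t : Kˣ) :
    hh K (Pi.mulSingle i t) = elH chevF4 K (chevF4.simple i.val) (t : K) := by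
  rw [elH_eq_torus hc (simple_lt hc i.2), corChar_eq_hPar hc, hh, MonoidHom.comp_apply]
  congr 2
  funext k
  rw [cv_simple hc i.2 k.2, Pi.mulSingle_apply]
  by_cases h : k = i
  · subst h; simp
  · rw [if_neg h, if_neg (fun e => h (Fin.ext e.symm)), zpow_zero]

theorem elH_neg_simple (i : Fin chevF4.rank) (t : Kˣ) :
    elH chevF4 K (chevF4.neg (chevF4.simple i.val)) (t : K) = (hh K (Pi.mulSingle i t))⁻¹ := by
  rw [elH_eq_torus hc (neg_lt hc (simple_lt hc i.2)), corChar_eq_hPar hc, ← map_inv, hh,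
    MonoidHom.comp_apply]
  congr 2
  funext k
  rw [(by decide +kernel : ∀ i k : Fin chevF4.rank,
    cv tb (chevF4.neg (chevF4.simple i.val)) k = if k = i then -1 else 0) i k, Pi.inv_apply,
    Pi.mulSingle_apply]
  split_ifs <;> simp

section
variable (h2 : (2 : K) = 0)
include h2

theorem conj_elX_one (L : List (Fin chevF4.rank)) {r : ℕ} (hr : r < chevF4.nroots) (t : K) :
    nProd chevF4 K L * X r t * (nProd chevF4 K L)⁻¹ = X (sigs chevF4 tb L r) t := by
  obtain ⟨c, h1, h⟩ := nProd_conj_elX hc (F := K) L hr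
  have : (c : K) = 1 := by
    rcases h1 with e | e <;> rw [e]
    linear_combination -h2
  rw [h, this, one_mul]

theorem conj_elH (L : List (Fin chevF4.rank)) {r : ℕ} (hr : r < chevF4.nroots) (t : K) :
    nProd chevF4 K L * elH chevF4 K r t * (nProd chevF4 K L)⁻¹ =
      elH chevF4 K (sigs chevF4 tb L r) t := by
  have hn : ∀ u : K, nProd chevF4 K L * elN chevF4 K r u * (nProd chevF4 K L)⁻¹ =
      elN chevF4 K (sigs chevF4 tb L r) u := fun u => by
    unfold elN
    rw [show ∀ n a b e : GL chevF4.Idx K, n * (a * b * e) * n⁻¹ =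
      (n * a * n⁻¹) * (n * b * n⁻¹) * (n * e * n⁻¹) from fun n a b e => by group]
    rw [conj_elX_one h2 L hr, conj_elX_one h2 L (neg_lt hc hr), sigs_neg hc L hr]
  unfold elH
  rw [show ∀ n a b : GL chevF4.Idx K, n * (a * b) * n⁻¹ = (n * a * n⁻¹) * (n * b * n⁻¹) from
    fun n a b => by group, hn, hn]

end

theorem jl_inverts : ∀ s : Bool, ∀ i : Fin chevF4.rank, i ∈ jl s →
    sigs chevF4 tb (jl s) (chevF4.simple i.val) = chevF4.neg (chevF4.simple i.val) := by
  decide +kernel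

/-- The action of σ on parameters. -/
def tauF (K : Type*) [Field K] (m : ℕ) : (Fin chevF4.rank → Kˣ) →* (Fin chevF4.rank → Kˣ) where
  toFun c j := c (Fin.rev j) ^ (rexp (chevF4.simple (Fin.rev j).val) * 2 ^ m)
  map_one' := by funext j; simp
  map_mul' a b := by funext j; simp [mul_pow]

/-- The orbit of nodes of a node. -/
def orbPair (s : Bool) : Fin chevF4.rank × Fin chevF4.rank :=
  cond s (⟨1, by decide⟩, ⟨2, by decide⟩) (⟨0, by decide⟩, ⟨3, by decide⟩)

theorem orbPair_mem : ∀ s : Bool, (orbPair s).1 ∈ jl s ∧ (orbPair s).2 ∈ jl s ∧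
    Fin.rev (orbPair s).1 = (orbPair s).2 ∧ (orbPair s).1 ≠ (orbPair s).2 := by decide +kernel

/-- A parameter supported on one orbit of nodes. -/
def orbC (s : Bool) (a b : Kˣ) : Fin chevF4.rank → Kˣ :=
  Pi.mulSingle (orbPair s).1 a * Pi.mulSingle (orbPair s).2 b

variable [Fintype K] {m : ℕ} {σ : MulAut ↥(chevF4.group K)}

section
variable (hσ : IsSigma m σ)
include hσ

theorem simg_elH {r : ℕ} (hr : r < chevF4.nroots) (t : K) :
    simg σ (elH chevF4 K r t) = elH chevF4 K (rho r) (phi m r t) := by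
  have hn : ∀ u : K, elN chevF4 K r u ∈ chevF4.group K := fun u => elN_mem_group hc hr u
  unfold elH
  rw [simg_mul (hn t) (hn _), simg_elN hσ hr, simg_elN hσ hr,
    show phi m r (-1 : K) = -1 by rw [neg_self hσ, phi, one_pow]]

theorem tauF_single (i : Fin chevF4.rank) (t : Kˣ) :
    tauF K m (Pi.mulSingle i t) =
      Pi.mulSingle (Fin.rev i) (t ^ (rexp (chevF4.simple i.val) * 2 ^ m)) := by
  funext j
  show (Pi.mulSingle i t : Fin chevF4.rank → Kˣ) (Fin.rev j) ^ _ = _
  by_cases h : Fin.rev j = i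
  · subst h; simp [Fin.rev_rev]
  · rw [Pi.mulSingle_eq_of_ne h, one_pow, Pi.mulSingle_eq_of_ne]
    rintro rfl
    exact h (Fin.rev_rev i)

theorem simg_hh (c : Fin chevF4.rank → Kˣ) : simg σ (hh K c) = hh K (tauF K m c) := by
  have key : ∀ (i : Fin chevF4.rank) (t : Kˣ),
      simg σ (hh K (Pi.mulSingle i t)) = hh K (tauF K m (Pi.mulSingle i t)) := fun i t => by
    have e : rho (chevF4.simple i.val) = chevF4.simple (Fin.rev i).val := node_facts i
    rw [hh_single, simg_elH hσ (simple_lt hc i.2), tauF_single hσ, hh_single, e, phi,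
      Units.val_pow_eq_pow_val]
  rw [four_single c]
  simp only [map_mul]
  rw [simg_mul (mul_mem (mul_mem (hh_mem_group _) (hh_mem_group _)) (hh_mem_group _))
      (hh_mem_group _), simg_mul (mul_mem (hh_mem_group _) (hh_mem_group _)) (hh_mem_group _),
    simg_mul (hh_mem_group _) (hh_mem_group _), key, key, key, key]

theorem hh_fixed_iff (c : Fin chevF4.rank → Kˣ) : hh K c ∈ fixF σ ↔ tauF K m c = c := by
  rw [mem_fixF, simg_hh hσ, and_iff_right (hh_mem_group c)]
  exact hh_injective.eq_iff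

/-- The generators lie in the fixed parts of the groups of simple roots and their negatives. -/
theorem gen_cases {g : GL chevF4.Idx K}
    (hg : ∃ w ∈ f4Words K (2 ^ m), (g : Matrix chevF4.Idx chevF4.Idx K) = chevF4.wordMat K w) :
    ∃ s : Bool, g ∈ V σ (JRoot s) ∨
      g ∈ V σ (fun r => JRoot s (sigs chevF4 tb (jl s) r)) := by
  have hF : g ∈ fixF σ := G1_le_fix hσ (Subgroup.subset_closure hg)
  obtain ⟨w, hw, e⟩ := hg
  have hlt : ∀ r ∈ [f4p1, f4p4, f4m1, f4m4, f4a, f4b, f4ab, f4aab, f4ma, f4mb, f4mab, f4maab],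
      r < chevF4.nroots := by decide +kernel
  have hP : ∀ s : Bool, ∀ r ∈ cond s [f4a, f4b, f4ab, f4aab] [f4p1, f4p4], JRoot s r := by
    unfold JRoot InvRoot; decide +kernel
  have hN : ∀ s : Bool, ∀ r ∈ cond s [f4ma, f4mb, f4mab, f4maab] [f4m1, f4m4],
      JRoot s (sigs chevF4 tb (jl s) r) := by unfold JRoot InvRoot; decide +kernel
  rcases hw with ⟨t, rfl | rfl⟩ | ⟨t, u, rfl | rfl⟩
  · refine ⟨false, Or.inl (Subgroup.mem_inf.2 ⟨?_, hF⟩)⟩
    have e' : g = X f4p1 (t ^ 2 ^ m) * X f4p4 t := by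
      ext1; rw [e, Units.val_mul, coe_elX hc K (hlt _ (by simp)), coe_elX hc K (hlt _ (by simp))]
      simp [ChevalleyDatum.wordMat, f4PairWord]
    rw [e']
    exact mul_mem (elX_mem_uGen (hlt f4p1 (by decide)) (hP false f4p1 (by decide)) _)
      (elX_mem_uGen (hlt f4p4 (by decide)) (hP false f4p4 (by decide)) _)
  · refine ⟨false, Or.inr (Subgroup.mem_inf.2 ⟨?_, hF⟩)⟩
    have e' : g = X f4m1 (t ^ 2 ^ m) * X f4m4 t := by
      ext1; rw [e, Units.val_mul, coe_elX hc K (hlt _ (by simp)), coe_elX hc K (hlt _ (by simp))]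
      simp [ChevalleyDatum.wordMat, f4PairWord]
    rw [e']
    exact mul_mem (elX_mem_uGen (hlt f4m1 (by decide)) (hN false f4m1 (by decide)) _)
      (elX_mem_uGen (hlt f4m4 (by decide)) (hN false f4m4 (by decide)) _)
  · refine ⟨true, Or.inl (Subgroup.mem_inf.2 ⟨?_, hF⟩)⟩
    have e' : g = X f4a (t ^ 2 ^ m) * X f4b t * X f4ab (t ^ (2 ^ m + 1) + u) *
        X f4aab (u ^ (2 * 2 ^ m)) := by
      ext1
      rw [e, Units.val_mul, Units.val_mul, Units.val_mul, coe_elX hc K (hlt _ (by simp)),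
        coe_elX hc K (hlt _ (by simp)), coe_elX hc K (hlt _ (by simp)), coe_elX hc K (hlt _ (by simp))]
      simp [ChevalleyDatum.wordMat, b2ClassWord, mul_assoc]
    rw [e']
    exact mul_mem (mul_mem (mul_mem (elX_mem_uGen (hlt f4a (by decide)) (hP true f4a (by decide)) _)
      (elX_mem_uGen (hlt f4b (by decide)) (hP true f4b (by decide)) _))
      (elX_mem_uGen (hlt f4ab (by decide)) (hP true f4ab (by decide)) _))
      (elX_mem_uGen (hlt f4aab (by decide)) (hP true f4aab (by decide)) _)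
  · refine ⟨true, Or.inr (Subgroup.mem_inf.2 ⟨?_, hF⟩)⟩
    have e' : g = X f4ma (t ^ 2 ^ m) * X f4mb t * X f4mab (t ^ (2 ^ m + 1) + u) *
        X f4maab (u ^ (2 * 2 ^ m)) := by
      ext1
      rw [e, Units.val_mul, Units.val_mul, Units.val_mul, coe_elX hc K (hlt _ (by simp)),
        coe_elX hc K (hlt _ (by simp)), coe_elX hc K (hlt _ (by simp)), coe_elX hc K (hlt _ (by simp))]
      simp [ChevalleyDatum.wordMat, b2ClassWord, mul_assoc]
    rw [e']
    exact mul_mem (mul_mem (mul_mem (elX_mem_uGen (hlt f4ma (by decide)) (hN true f4ma (by decide)) _)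
      (elX_mem_uGen (hlt f4mb (by decide)) (hN true f4mb (by decide)) _))
      (elX_mem_uGen (hlt f4mab (by decide)) (hN true f4mab (by decide)) _))
      (elX_mem_uGen (hlt f4maab (by decide)) (hN true f4maab (by decide)) _)

theorem V_neg_le (s : Bool) : V σ (fun r => JRoot s (sigs chevF4 tb (jl s) r)) ≤ G1 K m := by
  rintro g ⟨h1, h2⟩
  have hF : nJ K s ∈ fixF σ := nJ_fixed hσ s
  have h : nJ K s * g * (nJ K s)⁻¹ ∈ V σ (JRoot s) :=
    Subgroup.mem_inf.2 ⟨conj_nProd_uGen _ (fun r _ hr => hr) h1,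
      mul_mem (mul_mem hF (h2 : g ∈ fixF σ)) (inv_mem hF)⟩
  have := mul_mem (mul_mem (inv_mem (nJ_mem hσ s)) ((base_spec hσ s).1 h)) (nJ_mem hσ s)
  rwa [show (nJ K s)⁻¹ * (nJ K s * g * (nJ K s)⁻¹) * nJ K s = g by group] at this

/-- Fixed diagonal elements normalize 2F4. -/
theorem diag_normalizes {h : GL chevF4.Idx K} (hh : h ∈ chevF4.diagonalSubgroup K)
    (hf : h ∈ fixF σ) {g : GL chevF4.Idx K} (hg : g ∈ G1 K m) : h * g * h⁻¹ ∈ G1 K m := by
  have hle : G1 K m ≤ (G1 K m).comap (MulAut.conj h).toMonoidHom := by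
    refine (Subgroup.closure_le _).2 fun x hx => ?_
    show h * x * h⁻¹ ∈ G1 K m
    obtain ⟨s, ⟨hu, hF⟩ | ⟨hu, hF⟩⟩ := gen_cases hσ hx
    · exact (base_spec hσ s).1 (Subgroup.mem_inf.2
        ⟨diag_conj_mem hc _ hh hu, mul_mem (mul_mem hf (hF : x ∈ fixF σ)) (inv_mem hf)⟩)
    · exact V_neg_le hσ s (Subgroup.mem_inf.2
        ⟨diag_conj_mem hc _ hh hu, mul_mem (mul_mem hf (hF : x ∈ fixF σ)) (inv_mem hf)⟩)
  exact hle hg

theorem nJ_conj_single {s : Bool} {i : Fin chevF4.rank} (hi : i ∈ jl s) (t : Kˣ) :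
    nJ K s * hh K (Pi.mulSingle i t) * (nJ K s)⁻¹ = (hh K (Pi.mulSingle i t))⁻¹ := by
  rw [hh_single, conj_elH hσ.char2 _ (simple_lt hc i.2), jl_inverts s i hi, elH_neg_simple, hh_single]

theorem sqrt_mem {c : Fin chevF4.rank → Kˣ} (s : Bool) {a b : Kˣ} (hc' : c = orbC s a b)
    (hfix : tauF K m c = c) : hh K c ∈ G1 K m := by
  set N := 2 ^ (2 * m)
  have hq : ∀ u : Kˣ, (u ^ N) * (u ^ N) = u := fun u => by
    apply Units.ext
    rw [Units.val_mul, Units.val_pow_eq_pow_val, ← pow_add,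
      show N + N = Fintype.card K by rw [hσ.card, pow_succ]; ring]
    exact FiniteField.pow_card _
  set d := c ^ N with hd
  have hdd : d * d = c := funext fun j => hq (c j)
  have hdf : tauF K m d = d := by rw [hd, map_pow, hfix]
  have hh' : hh K d ∈ fixF σ := (hh_fixed_iff hσ d).2 hdf
  have h1 := mul_mem (diag_normalizes hσ (hh_mem d) hh' (nJ_mem hσ s)) (inv_mem (nJ_mem hσ s))
  have hinv : nJ K s * hh K d * (nJ K s)⁻¹ = (hh K d)⁻¹ := by
    obtain ⟨m1, m2, -, -⟩ := orbPair_mem s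
    have e : d = orbC s (a ^ N) (b ^ N) := by
      rw [hd, hc', orbC, orbC, mul_pow, ← Pi.mulSingle_pow, ← Pi.mulSingle_pow]
    rw [e, orbC, map_mul, show ∀ n x y : GL chevF4.Idx K, n * (x * y) * n⁻¹ =
      (n * x * n⁻¹) * (n * y * n⁻¹) from fun n x y => by group, nJ_conj_single hσ m1,
      nJ_conj_single hσ m2]; simp only [← map_inv, ← map_mul, mul_inv]
  have e2 : hh K d * nJ K s * (hh K d)⁻¹ * (nJ K s)⁻¹ = hh K c := by
    rw [mul_assoc (hh K d), mul_assoc (hh K d),
      show nJ K s * (hh K d)⁻¹ * (nJ K s)⁻¹ = (nJ K s * hh K d * (nJ K s)⁻¹)⁻¹ by group, hinv,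
      inv_inv, ← map_mul, hdd]
  rwa [e2] at h1

theorem fixed_param {c : Fin chevF4.rank → Kˣ} (hfix : tauF K m c = c) (s : Bool) :
    tauF K m (orbC s (c (orbPair s).1) (c (orbPair s).2)) =
      orbC s (c (orbPair s).1) (c (orbPair s).2) := by
  obtain ⟨-, -, hrev, -⟩ := orbPair_mem s
  have hrev' : Fin.rev (orbPair s).2 = (orbPair s).1 := by rw [← hrev, Fin.rev_rev]
  have e1 : c (orbPair s).1 ^ (rexp (chevF4.simple (orbPair s).1.val) * 2 ^ m) = c (orbPair s).2 := by
    have h := congrFun hfix (orbPair s).2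
    change c (Fin.rev (orbPair s).2) ^ _ = _ at h
    rwa [hrev'] at h
  have e2 : c (orbPair s).2 ^ (rexp (chevF4.simple (orbPair s).2.val) * 2 ^ m) = c (orbPair s).1 := by
    have h := congrFun hfix (orbPair s).1
    change c (Fin.rev (orbPair s).1) ^ _ = _ at h
    rwa [hrev] at h
  rw [orbC, map_mul, tauF_single hσ, tauF_single hσ, hrev, hrev', e1, e2, mul_comm]

theorem diag_le : chevF4.diagonalSubgroup K ⊓ fixF σ ≤ G1 K m := by
  rintro g ⟨hg, hf⟩
  obtain ⟨c, rfl⟩ := (mem_diagonal hc).1 hg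
  have hfix : tauF K m c = c := (hh_fixed_iff hσ c).1 hf
  have hsplit : c = orbC false (c (orbPair false).1) (c (orbPair false).2) *
      orbC true (c (orbPair true).1) (c (orbPair true).2) := by
    conv_lhs => rw [four_single c]
    simp only [orbC, orbPair, cond_true, cond_false]
    ac_rfl
  show hh K c ∈ G1 K m
  rw [hsplit, map_mul]
  exact mul_mem (sqrt_mem hσ false rfl (fixed_param hσ hfix false))
    (sqrt_mem hσ true rfl (fixed_param hσ hfix true))

theorem diag_inf_eq : chevF4.diagonalSubgroup K ⊓ G1 K m = chevF4.diagonalSubgroup K ⊓ fixF σ :=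
  le_antisymm (inf_le_inf_left _ (G1_le_fix hσ)) (le_inf inf_le_left (diag_le hσ))

theorem card_diag : Nat.card ↥(chevF4.diagonalSubgroup K ⊓ fixF σ) = (Fintype.card K - 1) ^ 2 := by
  classical
  have hpc : ∀ u : Kˣ, u ^ (2 * 2 ^ m * 2 ^ m) = u := fun u => Units.ext (by
    rw [Units.val_pow_eq_pow_val]; exact pow_cycle hσ (u : K))
  let mk : Kˣ × Kˣ → Fin chevF4.rank → Kˣ := fun p j =>
    if j.val = 0 then p.1 else if j.val = 1 then p.2
      else if j.val = 2 then p.2 ^ (2 * 2 ^ m) else p.1 ^ (2 * 2 ^ m)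
  have hre : ∀ j : Fin chevF4.rank, (Fin.rev j).val = 3 - j.val ∧
      rexp (chevF4.simple (Fin.rev j).val) = if 2 ≤ j.val then 2 else 1 := by decide +kernel
  have hmk : ∀ p, tauF K m (mk p) = mk p := fun p => by
    funext j
    show mk p (Fin.rev j) ^ _ = _
    obtain ⟨j, hj⟩ := j
    obtain ⟨h1, h2⟩ := hre ⟨j, hj⟩
    have hj' : j < 4 := hj
    rw [h2]
    simp only [mk, h1]
    interval_cases j <;> simp [← pow_mul, hpc]
  refine (Nat.card_congr (Equiv.ofBijective
    (fun p : Kˣ × Kˣ => (⟨hh K (mk p), hh_mem _, (hh_fixed_iff hσ _).2 (hmk p)⟩ :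
      ↥(chevF4.diagonalSubgroup K ⊓ fixF σ))) ⟨fun p p' h => ?_, ?_⟩)).symm.trans ?_
  · have e := hh_injective (congrArg Subtype.val h)
    exact Prod.ext (congrFun e ⟨0, by decide⟩) (congrFun e ⟨1, by decide⟩)
  · rintro ⟨g, hg, hf⟩
    obtain ⟨c, rfl⟩ := (mem_diagonal hc).1 hg
    have hfix : tauF K m c = c := (hh_fixed_iff hσ c).1 hf
    refine ⟨(c ⟨0, by decide⟩, c ⟨1, by decide⟩), Subtype.ext (congrArg (hh K) (funext fun j => ?_))⟩
    obtain ⟨j, hj⟩ := j
    have hj' : j < 4 := hj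
    have h := congrFun hfix ⟨j, hj⟩
    obtain ⟨h1, h2⟩ := hre ⟨j, hj⟩
    change c (Fin.rev ⟨j, hj⟩) ^ _ = _ at h
    rw [h2, show Fin.rev (⟨j, hj⟩ : Fin chevF4.rank) = ⟨3 - j, show 3 - j < 4 by omega⟩ from Fin.ext h1] at h
    interval_cases j <;> simp [mk] at h ⊢ <;> exact h
  · rw [Nat.card_prod, Nat.card_units, Nat.card_eq_fintype_card, pow_two]

end

end CfsgLib.ReeF4
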