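import Cfsg.Agent.Lib.Twisted.F4TwoGenBase
import Mathlib.GroupTheory.Nilpotent
import Mathlib.Algebra.Group.Subgroup.Order

/-!
`²F₄(q)` is generated by an element of a torus and one element of the big cell.
-/

set_option autoImplicit false
set_option linter.unusedSectionVars false
set_option maxRecDepth 4000

namespace CfsgLib.ReeF4

open Cfsg.Lie CfsgLib.Chev

variable {K : Type*} [Field K] [Fintype K] {m : ℕ} {σ : MulAut ↥(chevF4.group K)}

section
variable (hσ : IsSigma m σ)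
include hσ

theorem ab_a_comm (t u : K) : Commute (X f4ab t) (X f4a u) := by
  obtain ⟨h1, h2, h3, h4, h5⟩ := parity_check
  have h := elX_comm hc hcomm (F := K) (show f4ab < chevF4.nroots from h1)
    (show f4a < chevF4.nroots from h2) h3.symm (fun e => h4 (by
      rw [e]; exact (by decide +kernel : chevF4.neg (chevF4.neg f4ab) = f4ab).symm)) t u
  rw [wordGL, ChevalleyDatum.commWord] at h
  generalize hl : chevF4.commTerms f4ab f4a = l at h h5
  rw [List.prod_eq_one (l := _) ?_, mul_one] at h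
  · exact h.symm
  · intro g hg
    simp only [List.map_map, List.mem_map, Function.comp] at hg
    obtain ⟨⟨c1, c2, c3, c4⟩, hcm, rfl⟩ := hg
    obtain ⟨k1, k2⟩ := h5 _ hcm
    obtain ⟨d, hd⟩ : (2 : ℤ) ∣ c2 := Int.dvd_of_emod_eq_zero k2
    simp only [hd, Int.cast_mul, Int.cast_ofNat, hσ.char2, zero_mul, neg_zero, mul_zero]
    exact elX_zero hc K (show c1 < chevF4.nroots from k1)

theorem pairX_add (s t : K) : pairX m s * pairX m t = pairX m (s + t) := by
  haveI := charP_two hσ.card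
  have e : ∀ a b : K, Commute (X f4p4 a) (X f4p1 b) := fun a b => comm_list (by decide) a b
  rw [pairX, pairX, pairX, mul_assoc, ← mul_assoc (X f4p4 s), (e _ _).eq, mul_assoc (X f4p1 (t ^ 2 ^ m)),
    ← mul_assoc, elX_add hc K (lt_check _ (by simp)), elX_add hc K (lt_check _ (by simp)), add_pow_char_pow]

theorem quadX_mul (x u y v : K) : quadX m x u * quadX m y v = quadX m (x + y) (u + v + x ^ 2 ^ m * y) := by
  haveI := charP_two hσ.card
  haveI : Fact (Nat.Prime 2) := ⟨Nat.prime_two⟩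
  simp only [quadX, quadNF]
  set A := x ^ 2 ^ m with hA
  set B := y ^ 2 ^ m with hB
  set C := x ^ (2 * 2 ^ m + 1) + u ^ (2 * 2 ^ m)
  set D := y ^ (2 * 2 ^ m + 1) + v ^ (2 * 2 ^ m)
  have c1 : ∀ a b : K, Commute (X f4aab a) (X f4b b) := fun a b => comm_list (by decide) a b
  have c2 : ∀ a b : K, Commute (X f4aab a) (X f4a b) := fun a b => comm_list (by decide) a b
  have c3 : ∀ a b : K, Commute (X f4ab a) (X f4b b) := fun a b => comm_list (by decide) a b
  have c4 : ∀ a b : K, Commute (X f4ab a) (X f4a b) := fun a b => ab_a_comm hσ a b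
  have c5 : ∀ a b : K, Commute (X f4aab a) (X f4ab b) := fun a b =>
    (X_comm (show (f4ab, f4aab) ∈ _ by decide) b a).symm
  calc X f4b x * X f4a A * X f4ab u * X f4aab C * (X f4b y * X f4a B * X f4ab v * X f4aab D)
      = X f4b x * X f4a A * (X f4ab u * (X f4aab C * (X f4b y * (X f4a B * (X f4ab v * X f4aab D))))) := by
        simp only [mul_assoc]
    _ = X f4b x * X f4a A * (X f4b y * (X f4a B * (X f4ab u * X f4ab v * (X f4aab C * X f4aab D)))) := by
        rw [(c1 C y).left_comm, (c2 C B).left_comm, (c5 C v).left_comm, (c3 u y).left_comm, (c4 u B).left_comm]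
        simp only [mul_assoc]
    _ = X f4b x * (X f4a A * X f4b y) * (X f4a B * (X f4ab (u + v) * X f4aab (C + D))) := by
        rw [elX_add hc K (lt_check _ (by simp)), elX_add hc K (lt_check _ (by simp))]
        simp only [mul_assoc]
    _ = X f4b x * X f4b y * (X f4a A * X f4a B) * (X f4ab (A * y) * X f4ab (u + v) *
          (X f4aab (A ^ 2 * y) * X f4aab (C + D))) := by
        rw [quad_swap hσ hq4]
        simp only [mul_assoc]
        rw [(c2 (A ^ 2 * y) B).left_comm, (c4 (A * y) B).left_comm, (c5 (A ^ 2 * y) (u + v)).left_comm]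
    _ = X f4b (x + y) * X f4a (A + B) * X f4ab (A * y + (u + v)) * X f4aab (A ^ 2 * y + (C + D)) := by
        rw [elX_add hc K (lt_check _ (by simp)), elX_add hc K (lt_check _ (by simp)),
          elX_add hc K (lt_check _ (by simp)), elX_add hc K (lt_check _ (by simp))]
        simp only [mul_assoc]
    _ = _ := by
        have f1 : ∀ a b : K, (a + b) ^ (2 * 2 ^ m) = a ^ (2 * 2 ^ m) + b ^ (2 * 2 ^ m) := fun a b => by
          rw [← pow_succ' 2 m, add_pow_char_pow]
        have e1 : A + B = (x + y) ^ 2 ^ m := (add_pow_char_pow ..).symm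
        have e2 : A * y + (u + v) = u + v + x ^ 2 ^ m * y := by rw [hA]; ring
        have hz : (x ^ 2 ^ m) ^ (2 * 2 ^ m) = x := by
          rw [← pow_mul, mul_comm (2 ^ m)]
          exact pow_cycle hσ x
        have e3 : A ^ 2 * y + (C + D) = (x + y) ^ (2 * 2 ^ m + 1) +
            (u + v + x ^ 2 ^ m * y) ^ (2 * 2 ^ m) := by
          rw [pow_succ _ (2 * 2 ^ m), f1, f1, f1, mul_pow, hz, hA, ← pow_mul, mul_comm (2 ^ m) 2]
          simp only [C, D, pow_succ _ (2 * 2 ^ m)]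
          linear_combination (-(x * y ^ (2 * 2 ^ m))) * hσ.char2
        rw [e1, e2, e3]

theorem quadX_center_add (u v : K) : quadX m 0 u * quadX m 0 v = quadX m 0 (u + v) := by
  rw [quadX_mul hσ, zero_add, zero_pow (pow_ne_zero _ two_ne_zero), zero_mul, add_zero]

theorem quadX_sq (x : K) : quadX m x 0 * quadX m x 0 = quadX m 0 (x ^ (2 ^ m + 1)) := by
  rw [quadX_mul hσ, add_self hσ, zero_add, zero_add, ← pow_succ]

theorem quadX_split (x u : K) : quadX m x 0 * quadX m 0 u = quadX m x u := by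
  rw [quadX_mul hσ, add_zero, zero_add, mul_zero, add_zero]

omit hσ in
theorem torus_scale (t : Kˣ) {r : ℕ} (hr : r < chevF4.nroots) (x : K) :
    tau m t * X r x * (tau m t)⁻¹ =
      X r ((((t ^ 2 ^ m) ^ chevF4.cartan 0 r * t ^ chevF4.cartan 3 r : Kˣ) : K) * x) := by
  have h0 := chi_corChar_simple hc (⟨0, by decide⟩ : Fin chevF4.rank) hr (t ^ 2 ^ m)
  have h3 := chi_corChar_simple hc (⟨3, by decide⟩ : Fin chevF4.rank) hr t
  rw [tau, torus_conj_elX hc _ hr, tauChar, chi_mul, h0, h3]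

theorem tau_pairX (t : Kˣ) (x : K) :
    tau m t * pairX m x * (tau m t)⁻¹ = pairX m ((t : K) ^ 2 * x) := by
  obtain ⟨a1, a2, a3, a4, -⟩ := cartan_check
  rw [pairX, show ∀ a b c : GL chevF4.Idx K, a * (b * c) * a⁻¹ = a * b * a⁻¹ * (a * c * a⁻¹) from
    fun a b c => by group, torus_scale t (lt_check _ (by simp)), torus_scale t (lt_check _ (by simp)),
    a1, a2, a3, a4, pairX]
  congr 2
  · simp [zpow_two, mul_pow, ← pow_two, ← pow_mul, mul_comm 2]
  · simp [zpow_two, pow_two]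

theorem tau_quadX (t : Kˣ) (x u : K) : tau m t * quadX m x u * (tau m t)⁻¹ =
    quadX m ((t⁻¹ : Kˣ) * x) (((t⁻¹ : Kˣ) : K) ^ (2 ^ m + 1) * u) := by
  haveI := charP_two hσ.card
  obtain ⟨-, -, -, -, a1, a2, b1, b2, c1, c2, d1, d2⟩ := cartan_check
  simp only [quadX, quadNF]
  rw [show ∀ a b c d e : GL chevF4.Idx K, a * (b * c * d * e) * a⁻¹ =
      a * b * a⁻¹ * (a * c * a⁻¹) * (a * d * a⁻¹) * (a * e * a⁻¹) from fun a b c d e => by group,
    torus_scale t (lt_check _ (by simp)), torus_scale t (lt_check _ (by simp)),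
    torus_scale t (lt_check _ (by simp)), torus_scale t (lt_check _ (by simp)),
    a1, a2, b1, b2, c1, c2, d1, d2]
  set s : K := ((t⁻¹ : Kˣ) : K) with hs
  have h2 : ((t ^ 2 ^ m) ^ (-2 : ℤ) : Kˣ) = ((t⁻¹) ^ 2 ^ m) ^ 2 := by
    rw [zpow_neg, inv_pow, inv_pow]; rfl
  rw [h2]
  simp only [zpow_neg_one, ← inv_pow, zpow_zero, one_mul, mul_one, Units.val_mul, Units.val_pow_eq_pow_val, ← hs]
  have hz : (s ^ (2 ^ m + 1)) ^ (2 * 2 ^ m) = s ^ (2 * 2 ^ m + 1) := by
    rw [← pow_mul, add_mul, one_mul, pow_add, mul_comm (2 ^ m) (2 * 2 ^ m), pow_cycle hσ, ← pow_succ']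
  have e1 : (s ^ 2 ^ m) * (x ^ 2 ^ m) = (s * x) ^ 2 ^ m := (mul_pow _ _ _).symm
  have e2 : s ^ 2 ^ m * s * u = s ^ (2 ^ m + 1) * u := by rw [pow_succ]
  have e3 : (s ^ 2 ^ m) ^ 2 * s * (x ^ (2 * 2 ^ m + 1) + u ^ (2 * 2 ^ m)) =
      (s * x) ^ (2 * 2 ^ m + 1) + (s ^ (2 ^ m + 1) * u) ^ (2 * 2 ^ m) := by
    rw [mul_pow, mul_pow, hz, ← mul_add, ← pow_mul, mul_comm (2 ^ m) 2, ← pow_succ]
  rw [e1, e2, e3]

theorem pairX_mem (t : K) : pairX m t ∈ G1 K m := (pairWord_mem hσ t).1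

theorem quadX_mem (x u : K) : quadX m x u ∈ G1 K m := quadNF_mem hσ hq4 x u

theorem tau_mem (t : Kˣ) : tau m t ∈ G1 K m := by
  obtain ⟨s0, s3, n1, n4⟩ := simple_check
  have hn : ∀ r : ℕ, ∀ a : K, elN chevF4 K r a = X r a * X (chevF4.neg r) a⁻¹ * X r a := fun r a => by
    rw [elN, neg_self hσ]
  let P : K → GL chevF4.Idx K := fun a => X f4p1 (a ^ 2 ^ m) * X f4p4 a
  let M : K → GL chevF4.Idx K := fun a => X f4m1 (a ^ 2 ^ m) * X f4m4 a
  have key : ∀ a : K, P a * M a⁻¹ * P a = elN chevF4 K f4p1 (a ^ 2 ^ m) * elN chevF4 K f4p4 a := by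
    intro a
    rw [hn, hn, n1, n4]
    simp only [P, M, inv_pow]
    have e1 : ∀ c d : K, Commute (X f4p4 c) (X f4m1 d) := fun c d => comm_list (by decide) c d
    have e2 : ∀ c d : K, Commute (X f4p4 c) (X f4p1 d) := fun c d => comm_list (by decide) c d
    have e3 : ∀ c d : K, Commute (X f4m4 c) (X f4p1 d) := fun c d => comm_list (by decide) c d
    simp only [mul_assoc]
    rw [(e3 _ _).left_comm, (e1 _ _).left_comm, (e2 _ _).left_comm]
  have hcomm' : ∀ c d : K, Commute (elN chevF4 K f4p4 c) (elN chevF4 K f4p1 d) := by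
    intro c d
    rw [hn, hn, n1, n4]
    have e : ∀ r ∈ [f4p4, f4m4], ∀ u ∈ [f4p1, f4m1], ∀ c d : K, Commute (X r c) (X u d) := by
      intro r hr u hu c d
      refine comm_list ?_ c d
      fin_cases hr <;> fin_cases hu <;> decide
    have f1 : ∀ u ∈ [f4p1, f4m1], ∀ d : K, Commute (X f4p4 c * X f4m4 c⁻¹ * X f4p4 c) (X u d) := fun u hu d =>
      ((e _ (by simp) u hu _ _).mul_left (e _ (by simp) u hu _ _)).mul_left (e _ (by simp) u hu _ _)
    exact ((f1 _ (by simp) _).mul_right (f1 _ (by simp) _)).mul_right (f1 _ (by simp) _)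
  have hmem : ∀ a : K, elN chevF4 K f4p1 (a ^ 2 ^ m) * elN chevF4 K f4p4 a ∈ G1 K m := fun a => by
    rw [← key]
    exact mul_mem (mul_mem (pairWord_mem hσ a).1 (pairWord_mem hσ a⁻¹).2) (pairWord_mem hσ a).1
  have h := mul_mem (hmem (t : K)) (hmem 1)
  rw [one_pow, mul_assoc, ← mul_assoc (elN chevF4 K f4p4 (t : K)), (hcomm' _ _).eq, mul_assoc, ← mul_assoc] at h
  have e : ∀ r, r < chevF4.nroots → ∀ u : Kˣ,
      elN chevF4 K r (u : K) * elN chevF4 K r 1 = torus chevF4 tb K (corChar chevF4 tb r u) := fun r hr u => by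
    rw [← elH_eq_torus hc hr, elH, neg_self hσ]
  rw [← Units.val_pow_eq_pow_val, e _ (lt_check _ (by simp)), e _ (lt_check _ (by simp)), ← map_mul,
    ← s0, ← s3] at h
  exact h

omit hσ in
theorem n0_tau (t : Kˣ) : nProd chevF4 K (altW false 8) * tau m t * (nProd chevF4 K (altW false 8))⁻¹ =
    (tau m t)⁻¹ := by
  rw [tau, nProd_conj_torus hc, ← map_inv]
  congr 1
  funext j
  rw [Pi.inv_apply, ← zpow_one (reflChars _ _ j), ← chi_single, chi_reflChars', longest_check.1 j,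
    chi_neg, chi_single, zpow_one]

theorem n0_conj {r r' : ℕ} (hr : r < chevF4.nroots) (h : sigs chevF4 tb (altW false 8) r = r') (x : K) :
    nProd chevF4 K (altW false 8) * X r x * (nProd chevF4 K (altW false 8))⁻¹ = X r' x := by
  obtain ⟨c, hc1, e⟩ := nProd_conj_elX hc (F := K) (altW false 8) hr
  show nProd chevF4 K (altW false 8) * elX chevF4 K r x * _ = _
  rw [e, h]
  rcases hc1 with g | g <;> rw [g]
  · rw [one_mul]
  · rw [neg_self hσ, one_mul]

theorem genU_le : genU K m ≤ V σ PosR := by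
  refine (Subgroup.closure_le _).2 ?_
  have hm : ∀ r ∈ [f4p1, f4p4, f4a, f4b, f4ab, f4aab], ∀ x : K, X r x ∈ uGen chevF4 K PosR := by
    intro r hr x
    have h : ∀ r ∈ [f4p1, f4p4, f4a, f4b, f4ab, f4aab], r < 48 ∧ 24 ≤ r := by decide
    exact elX_mem_uGen (h r hr).1 (posR_iff.2 (h r hr).2) x
  rintro g (⟨t, rfl⟩ | ⟨t, u, rfl⟩)
  · exact ⟨mul_mem (hm _ (by simp) _) (hm _ (by simp) _), pair_fixed hσ (by simp) t⟩
  · exact ⟨mul_mem (mul_mem (mul_mem (hm _ (by simp) _) (hm _ (by simp) _)) (hm _ (by simp) _))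
      (hm _ (by simp) _), quadNF_fixed hσ hq4 t u⟩

theorem genU_isPGroup : IsPGroup 2 ↥(genU K m) := by
  haveI : Fact (Nat.Prime 2) := ⟨Nat.prime_two⟩
  exact (IsPGroup.of_card (p := 2) (n := (2 * m + 1) * 12)
    (by rw [card_V_pos hσ, hσ.card, ← pow_mul])).to_le (genU_le hσ)

theorem pow_succ_surj (u : K) : ∃ x : K, x ^ (2 ^ m + 1) = u := by
  classical
  by_cases hu : u = 0
  · exact ⟨0, by rw [hu, zero_pow (Nat.succ_ne_zero _)]⟩
  have hco : (Nat.card Kˣ).Coprime (2 ^ m + 1) := by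
    refine Nat.coprime_of_dvd fun p hp h1 h2 => hp.not_dvd_one ?_
    rw [Nat.card_eq_fintype_card, Fintype.card_units, hσ.card] at h1
    obtain ⟨s, hs⟩ : ∃ s, 2 ^ m = s + 1 := ⟨_, (Nat.sub_add_cancel Nat.one_le_two_pow).symm⟩
    have e : 2 ^ (2 * m + 1) - 1 = 2 * (s + 2) * s + 1 := by
      rw [pow_succ, two_mul m, pow_add, hs, show (s + 1) * (s + 1) * 2 = 2 * (s + 2) * s + 1 + 1 by ring,
        Nat.add_sub_cancel]
    rw [e] at h1
    rw [hs] at h2
    exact (Nat.dvd_add_right (Dvd.dvd.mul_right (Dvd.dvd.mul_left h2 2) s)).1 h1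
  refine ⟨((powCoprime hco).symm (Units.mk0 u hu) : Kˣ), ?_⟩
  rw [← Units.val_pow_eq_pow_val, ← powCoprime_apply hco, Equiv.apply_symm_apply, Units.val_mk0]

/-- the classes of the generators modulo squares fill the quotient -/
theorem fill (hm : 1 ≤ m) (S : K → K → Prop) (hadd : ∀ a b a' b', S a b → S a' b' → S (a + a') (b + b'))
    {ω : Kˣ} (hω : ∀ x : Kˣ, x ∈ Subgroup.zpowers ω)
    (hinv : ∀ a b, S a b → S ((ω : K) ^ 2 * a) (((ω⁻¹ : Kˣ) : K) * b))
    {c d : K} (hc0 : c ≠ 0) (hd0 : d ≠ 0) (hcd : S c d) : ∀ a b, S a b := by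
  classical
  haveI := charP_two hσ.card
  have hpow : ∀ (y : Kˣ) a b, S a b → S ((y : K) ^ 2 * a) (((y⁻¹ : Kˣ) : K) * b) := by
    intro y a b h
    obtain ⟨k, rfl⟩ := Submonoid.mem_powers_iff _ _ |>.1 (mem_powers_iff_mem_zpowers.2 (hω y))
    induction k with
    | zero => simpa using h
    | succ k ih =>
      have := hinv _ _ ih
      convert this using 1
      · simp [pow_succ, mul_pow]; ring
      · simp [pow_succ]; ring
  have h0 : S 0 0 := by
    have := hadd _ _ _ _ hcd hcd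
    rwa [add_self hσ, add_self hσ] at this
  -- an element with one coordinate
  obtain ⟨e, he0, he⟩ : ∃ e : K, e ≠ 0 ∧ S e 0 := by
    have hq : 8 ≤ Fintype.card K := by
      rw [hσ.card]
      calc 8 = 2 ^ 3 := by norm_num
        _ ≤ _ := Nat.pow_le_pow_right two_pos (by omega)
    have hone : (ω : K) ≠ 1 := fun e => by
      have h1 : ∀ x : Kˣ, x = 1 := fun x => by
        obtain ⟨k, rfl⟩ := Subgroup.mem_zpowers_iff.1 (hω x)
        rw [show ω = 1 from Units.ext e, one_zpow]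
      have := Fintype.card_le_one_iff_subsingleton.2 ⟨fun a b => (h1 a).trans (h1 b).symm⟩
      rw [Fintype.card_units] at this
      omega
    set w : K := (ω : K) with hw
    have hs0 : 1 + w ≠ 0 := fun e => hone (by
      calc w = 1 + (1 + w) := by rw [← add_assoc, add_self hσ, zero_add]
        _ = 1 := by rw [e, add_zero])
    set z := Units.mk0 _ hs0
    have h1 := hadd _ _ _ _ (hadd _ _ _ _ hcd (hpow ω⁻¹ _ _ hcd)) (hpow z⁻¹ _ _ hcd)
    rw [inv_inv, inv_inv, Units.val_mk0] at h1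
    rw [show d + w * d + (1 + w) * d = 0 by linear_combination (d + w * d) * hσ.char2] at h1
    refine ⟨_, fun h => ?_, h1⟩
    rw [show c + ((ω⁻¹ : Kˣ) : K) ^ 2 * c + ((z⁻¹ : Kˣ) : K) ^ 2 * c =
      (1 + ((ω⁻¹ : Kˣ) : K) + ((z⁻¹ : Kˣ) : K)) ^ 2 * c by
        rw [CharTwo.add_sq, CharTwo.add_sq, one_pow]; ring] at h
    have h' := eq_zero_of_pow_eq_zero ((mul_eq_zero.1 h).resolve_right hc0)
    rw [Units.val_inv_eq_inv_val, Units.val_inv_eq_inv_val, Units.val_mk0, ← hw] at h'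
    have hw0 : w ≠ 0 := ω.ne_zero
    have hq3 : w * w + w + 1 = 0 := by
      field_simp at h'
      linear_combination h' + (-w) * hσ.char2
    have h3 : ω ^ 3 = 1 := Units.ext (by
      rw [Units.val_pow_eq_pow_val, Units.val_one, ← hw]
      linear_combination (w - 1) * hq3)
    have := Nat.le_of_dvd (by norm_num) (orderOf_dvd_of_pow_eq_one h3)
    rw [orderOf_eq_card_of_forall_mem_zpowers hω, Nat.card_eq_fintype_card, Fintype.card_units] at this
    omega
  have hleft : ∀ a, S a 0 := by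
    intro a
    by_cases ha : a = 0
    · rw [ha]; exact h0
    obtain ⟨y, hy⟩ := (frobeniusEquiv K 2).surjective (a / e)
    rw [frobeniusEquiv_apply, frobenius_def] at hy
    have hy0 : y ≠ 0 := fun h => by
      rw [h, zero_pow two_ne_zero] at hy
      exact div_ne_zero ha he0 hy.symm
    have := hpow (Units.mk0 y hy0) _ _ he
    rwa [Units.val_mk0, hy, div_mul_cancel₀ _ he0, mul_zero] at this
  intro a b
  by_cases hb : b = 0
  · rw [hb]; exact hleft a
  have h1 := hpow (Units.mk0 (b / d) (div_ne_zero hb hd0))⁻¹ _ _ hcd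
  rw [inv_inv, Units.val_mk0, div_mul_cancel₀ _ hd0] at h1
  set a' := (((Units.mk0 (b / d) (div_ne_zero hb hd0))⁻¹ : Kˣ) : K) ^ 2 * c
  have := hadd _ _ _ _ h1 (hleft (a' + a))
  rwa [← add_assoc, add_self hσ, zero_add, add_zero] at this

theorem genU_conj (t : Kˣ) {g : GL chevF4.Idx K} (hg : g ∈ genU K m) :
    tau m t * g * (tau m t)⁻¹ ∈ genU K m := by
  have hle : genU K m ≤ (genU K m).comap (MulAut.conj (tau m t)).toMonoidHom := by
    refine (Subgroup.closure_le _).2 ?_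
    rintro x (⟨a, rfl⟩ | ⟨a, b, rfl⟩)
    · show tau m t * pairX m a * (tau m t)⁻¹ ∈ genU K m
      rw [tau_pairX hσ]
      exact Subgroup.subset_closure (Or.inl ⟨_, rfl⟩)
    · show tau m t * quadX m a b * (tau m t)⁻¹ ∈ genU K m
      rw [tau_quadX hσ]
      exact Subgroup.subset_closure (Or.inr ⟨_, _, rfl⟩)
  exact hle hg

theorem two_generated (hm : 1 ≤ m) {ω : Kˣ} (hω : ∀ x : Kˣ, x ∈ Subgroup.zpowers ω) :
    G1 K m ≤ Subgroup.closure
      {tau m ω, pairX m 1 * quadX m 1 0 * nProd chevF4 K (altW false 8)} := by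
  classical
  haveI := charP_two hσ.card
  set n0 := nProd chevF4 K (altW false 8)
  set x := pairX m (1 : K) * quadX m 1 0
  set H := Subgroup.closure {tau m ω, x * n0}
  have hh : tau m ω ∈ H := Subgroup.subset_closure (Or.inl rfl)
  have hxn : x * n0 ∈ H := Subgroup.subset_closure (Or.inr rfl)
  have hP : ∀ a : K, pairX m a ∈ genU K m := fun a => Subgroup.subset_closure (Or.inl ⟨a, rfl⟩)
  have hQ : ∀ a b : K, quadX m a b ∈ genU K m := fun a b => Subgroup.subset_closure (Or.inr ⟨a, b, rfl⟩)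
  have hxU : x ∈ genU K m := mul_mem (hP 1) (hQ 1 0)
  set H0 := H.subgroupOf (genU K m)
  let h : ↥(genU K m) →* ↥(genU K m) :=
    { toFun := fun g => ⟨tau m ω * g * (tau m ω)⁻¹, genU_conj hσ ω g.2⟩
      map_one' := Subtype.ext (by simp)
      map_mul' := fun a b => Subtype.ext (by simp [mul_assoc]) }
  let N : Subgroup ↥(genU K m) := Subgroup.closure {g | ∃ y, y * y = g}
  set W := H0 ⊔ N
  have hsq : ∀ y, y * y ∈ W := fun y => Subgroup.mem_sup_right (Subgroup.subset_closure ⟨y, rfl⟩)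
  have hcom : ∀ a b : ↥(genU K m), a * b * a⁻¹ * b⁻¹ ∈ W := fun a b => by
    rw [show a * b * a⁻¹ * b⁻¹ = a * a * (a⁻¹ * b * (a⁻¹ * b)) * (b⁻¹ * b⁻¹) by group]
    exact mul_mem (mul_mem (hsq _) (hsq _)) (hsq _)
  have hWinv : ∀ g ∈ W, h g ∈ W := by
    have hle : W ≤ W.comap h := by
      refine sup_le (fun g hg => ?_) ((Subgroup.closure_le _).2 ?_)
      · exact Subgroup.mem_sup_left (show tau m ω * (g : GL chevF4.Idx K) * (tau m ω)⁻¹ ∈ H from
          mul_mem (mul_mem hh hg) (inv_mem hh))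
      · rintro _ ⟨y, rfl⟩
        show h (y * y) ∈ W
        rw [map_mul]
        exact hsq _
    exact fun g hg => hle hg
  let P : K → ↥(genU K m) := fun a => ⟨pairX m a, hP a⟩
  let Q : K → K → ↥(genU K m) := fun a b => ⟨quadX m a b, hQ a b⟩
  have hQ0 : ∀ u, Q 0 u ∈ W := fun u => by
    obtain ⟨y, rfl⟩ := pow_succ_surj hσ u
    rw [show Q 0 (y ^ (2 ^ m + 1)) = Q y 0 * Q y 0 from Subtype.ext (quadX_sq hσ y).symm]
    exact hsq _
  have hswap : ∀ (a : K) (q : ↥(genU K m)) (a' : K) (q' : ↥(genU K m)),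
      P a * q ∈ W → P a' * q' ∈ W → P (a + a') * (q * q') ∈ W := by
    intro a q a' q' h1 h2
    have e : P (a + a') * (q * q') =
        (P a * (P a' * q * (P a')⁻¹ * q⁻¹) * (P a)⁻¹ * (P a' * q * (P a')⁻¹ * q⁻¹)⁻¹) *
          (P a' * q * (P a')⁻¹ * q⁻¹) * (P a * q) * (P a' * q') := by
      rw [show P (a + a') = P a * P a' from Subtype.ext (pairX_add hσ a a').symm]
      group
    rw [e]
    exact mul_mem (mul_mem (mul_mem (hcom _ _) (hcom _ _)) h1) h2
  let S : K → K → Prop := fun a b => P a * Q b 0 ∈ W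
  have hadd : ∀ a b a' b', S a b → S a' b' → S (a + a') (b + b') := by
    intro a b a' b' h1 h2
    have h3 := mul_mem (hswap a _ a' _ h1 h2) (hQ0 (b ^ 2 ^ m * b'))
    show P (a + a') * Q (b + b') 0 ∈ W
    rwa [show Q (b + b') 0 = Q b 0 * Q b' 0 * Q 0 (b ^ 2 ^ m * b') from Subtype.ext (by
      show quadX m (b + b') 0 = quadX m b 0 * quadX m b' 0 * quadX m 0 (b ^ 2 ^ m * b')
      rw [quadX_mul hσ, quadX_mul hσ, add_zero, mul_zero, add_zero, zero_add, zero_add, add_self hσ]),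
      ← mul_assoc]
  have hinv : ∀ a b, S a b → S ((ω : K) ^ 2 * a) (((ω⁻¹ : Kˣ) : K) * b) := by
    intro a b h1
    have e : h (P a * Q b 0) = P ((ω : K) ^ 2 * a) * Q (((ω⁻¹ : Kˣ) : K) * b) 0 := by
      rw [map_mul]
      refine congrArg₂ (· * ·) (Subtype.ext (tau_pairX hσ ω a)) (Subtype.ext ?_)
      show tau m ω * quadX m b 0 * (tau m ω)⁻¹ = _
      rw [tau_quadX hσ, mul_zero]
    show P _ * Q _ 0 ∈ W
    rw [← e]
    exact hWinv _ h1
  -- the first element of U in the subgroup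
  have hz : x * ((tau m ω)⁻¹ * x⁻¹ * tau m ω) ∈ H := by
    have := mul_mem (mul_mem (mul_mem hxn hh) (inv_mem hxn)) hh
    rwa [show x * n0 * tau m ω * (x * n0)⁻¹ * tau m ω =
      x * (n0 * tau m ω * n0⁻¹) * x⁻¹ * tau m ω by group, n0_tau,
      show x * (tau m ω)⁻¹ * x⁻¹ * tau m ω = x * ((tau m ω)⁻¹ * x⁻¹ * tau m ω) by group] at this
  have htinv : (tau m ω)⁻¹ = tau m ω⁻¹ := by
    rw [tau, tau, ← map_inv]
    congr 1
    rw [tauChar, tauChar, inv_pow, corChar_inv, corChar_inv, mul_inv]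
  set y : K := (((ω⁻¹ : Kˣ)) : K) ^ 2
  have hcd : S (1 + y) (1 + (ω : K)) := by
    set g2 : ↥(genU K m) := P y * Q (ω : K) 0
    have hg2 : tau m ω⁻¹ * x * (tau m ω⁻¹)⁻¹ = (g2 : GL chevF4.Idx K) := by
      rw [show tau m ω⁻¹ * x * (tau m ω⁻¹)⁻¹ =
        tau m ω⁻¹ * pairX m 1 * (tau m ω⁻¹)⁻¹ * (tau m ω⁻¹ * quadX m 1 0 * (tau m ω⁻¹)⁻¹) by
          simp only [x]; group, tau_pairX hσ, tau_quadX hσ, inv_inv, mul_zero, mul_one, mul_one]
      rfl
    have hmem : (P 1 * Q 1 0) * g2⁻¹ ∈ W := by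
      refine Subgroup.mem_sup_left ?_
      show x * ((g2 : GL chevF4.Idx K))⁻¹ ∈ H
      rw [← hg2, ← htinv, show ((tau m ω)⁻¹ * x * (tau m ω)⁻¹⁻¹)⁻¹ = (tau m ω)⁻¹ * x⁻¹ * tau m ω by group]
      exact hz
    have hmem' : P 1 * Q 1 0 * g2 ∈ W := by
      have := mul_mem hmem (hsq g2)
      rwa [mul_assoc (P 1 * Q 1 0) g2⁻¹, inv_mul_cancel_left] at this
    show P (1 + y) * Q (1 + (ω : K)) 0 ∈ W
    have h4 : P (1 + y) * (Q 1 0 * Q (ω : K) 0) ∈ W := by
      have e : P (1 + y) * (Q 1 0 * Q (ω : K) 0) =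
          (P 1 * (P y * Q 1 0 * (P y)⁻¹ * (Q 1 0)⁻¹) * (P 1)⁻¹ * (P y * Q 1 0 * (P y)⁻¹ * (Q 1 0)⁻¹)⁻¹) *
            (P y * Q 1 0 * (P y)⁻¹ * (Q 1 0)⁻¹) * (P 1 * Q 1 0 * g2) := by
        rw [show P (1 + y) = P 1 * P y from Subtype.ext (pairX_add hσ 1 y).symm]
        simp only [g2]
        group
      rw [e]
      exact mul_mem (mul_mem (hcom _ _) (hcom _ _)) hmem'
    have h5 := mul_mem h4 (hQ0 ((1 : K) * (ω : K)))
    rwa [show Q 1 0 * Q (ω : K) 0 = Q (1 + (ω : K)) ((1 : K) * (ω : K)) from Subtype.ext (by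
      show quadX m 1 0 * quadX m (ω : K) 0 = _
      rw [quadX_mul hσ, add_zero, zero_add, one_pow]), mul_assoc,
      show Q (1 + (ω : K)) ((1 : K) * (ω : K)) * Q 0 ((1 : K) * (ω : K)) = Q (1 + (ω : K)) 0 from Subtype.ext (by
        show quadX m (1 + (ω : K)) ((1 : K) * (ω : K)) * quadX m 0 ((1 : K) * (ω : K)) = quadX m (1 + (ω : K)) 0
        rw [quadX_mul hσ, add_zero, mul_zero, add_zero, add_self hσ])] at h5
  have hq : 8 ≤ Fintype.card K := by
    rw [hσ.card]
    calc 8 = 2 ^ 3 := by norm_num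
      _ ≤ _ := Nat.pow_le_pow_right two_pos (by omega)
  have hone : (ω : K) ≠ 1 := fun e => by
    have h1 : ∀ x : Kˣ, x = 1 := fun x => by
      obtain ⟨k, rfl⟩ := Subgroup.mem_zpowers_iff.1 (hω x)
      rw [show ω = 1 from Units.ext e, one_zpow]
    have := Fintype.card_le_one_iff_subsingleton.2 ⟨fun a b => (h1 a).trans (h1 b).symm⟩
    rw [Fintype.card_units] at this
    omega
  have hall := fill hσ hm S hadd hω hinv (c := 1 + y) (d := 1 + (ω : K))
    (fun e => hone (by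
      have h1 : (((ω⁻¹ : Kˣ)) : K) ^ 2 = 1 ^ 2 := by
        rw [one_pow]; linear_combination e + (-1 : K) * hσ.char2
      have h2 : ((ω⁻¹ : Kˣ) : K) = 1 := (sq_eq_sq_iff_eq_or_eq_neg.1 h1).elim id (fun g => g.trans (neg_self hσ 1))
      rwa [Units.val_inv_eq_inv_val, inv_eq_one] at h2))
    (fun e => hone (by linear_combination e + (-1 : K) * hσ.char2)) hcd
  have hgen : ∀ g : ↥(genU K m), g ∈ W := by
    have hle : genU K m ≤ W.map (genU K m).subtype := by
      refine (Subgroup.closure_le _).2 ?_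
      rintro g (⟨a, rfl⟩ | ⟨a, b, rfl⟩)
      · refine ⟨P a, ?_, rfl⟩
        have := hall a 0
        rwa [show S a 0 = (P a * Q 0 0 ∈ W) from rfl, Subgroup.mul_mem_cancel_right _ (hQ0 0)] at this
      · refine ⟨Q a b, ?_, rfl⟩
        have h1 := mul_mem (hall 0 a) (hQ0 b)
        rwa [mul_assoc, show Q a 0 * Q 0 b = Q a b from Subtype.ext (quadX_split hσ a b),
          show P 0 = 1 from Subtype.ext (by
            show pairX m (0 : K) = 1
            rw [pairX, zero_pow (pow_ne_zero _ two_ne_zero), elX_zero' (lt_check _ (by simp)),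
              elX_zero' (lt_check _ (by simp)), one_mul]), one_mul] at h1
    intro g
    obtain ⟨w, hw, e⟩ := hle g.2
    rwa [← show w = g from Subtype.ext e]
  haveI : Fact (Nat.Prime 2) := ⟨Nat.prime_two⟩
  haveI : Group.IsNilpotent ↥(genU K m) := (genU_isPGroup hσ).isNilpotent
  have hH0 : H0 = ⊤ := by
    rcases eq_top_or_exists_le_coatom H0 with h0 | ⟨M, hM, hle⟩
    · exact h0
    exfalso
    haveI := Subgroup.NormalizerCondition.normal_of_coatom M Group.normalizerCondition_of_isNilpotent hM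
    obtain ⟨g, hg⟩ : ∃ g, g ∉ M := by
      by_contra hne
      push Not at hne
      exact hM.1 (Subgroup.eq_top_iff' M |>.2 hne)
    have hidx : M.index = 2 := by
      obtain ⟨k, hk⟩ := (IsPGroup.iff_card.1 ((genU_isPGroup hσ).to_quotient M))
      have hone : (M.index = 1 → False) := fun e => hM.1 (Subgroup.index_eq_one.1 e)
      rw [Subgroup.index_eq_card] at hone ⊢
      rcases k with _ | _ | k
      · exact absurd (by simpa using hk) hone
      · simpa using hk
      · exfalso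
        obtain ⟨v, hv⟩ : ∃ v : ↥(genU K m) ⧸ M, orderOf v = 2 :=
          exists_prime_orderOf_dvd_card' 2 (hk ▸ dvd_pow_self 2 (Nat.succ_ne_zero _))
        obtain ⟨z, rfl⟩ := QuotientGroup.mk_surjective v
        have hne : (Subgroup.zpowers (QuotientGroup.mk z : ↥(genU K m) ⧸ M)) ≠ ⊤ := fun e => by
          have h2 := congrArg (fun S : Subgroup (↥(genU K m) ⧸ M) => Nat.card S) e
          simp only [Nat.card_zpowers, Subgroup.card_top] at h2
          rw [hv, hk] at h2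
          have : 4 ≤ 2 ^ (k + 1 + 1) := by
            rw [pow_succ, pow_succ, mul_assoc]
            exact Nat.le_mul_of_pos_left 4 (pow_pos two_pos _)
          omega
        refine hne (Subgroup.comap_injective (QuotientGroup.mk'_surjective M) ?_)
        rw [Subgroup.comap_top]
        refine hM.2 _ (lt_of_le_of_ne (fun w hw => ?_) fun e => ?_)
        · show QuotientGroup.mk' M w ∈ Subgroup.zpowers (QuotientGroup.mk z : ↥(genU K m) ⧸ M)
          rw [show QuotientGroup.mk' M w = 1 from (QuotientGroup.eq_one_iff w).2 hw]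
          exact one_mem _
        · have hzM : z ∈ M := by
            rw [e]
            exact Subgroup.mem_zpowers (QuotientGroup.mk z : ↥(genU K m) ⧸ M)
          rw [(QuotientGroup.eq_one_iff z).2 hzM, orderOf_one] at hv
          omega
    have hNM : W ≤ M := sup_le hle ((Subgroup.closure_le _).2 fun _ ⟨y, e⟩ => e ▸
      Subgroup.mul_self_mem_of_index_two hidx y)
    exact hg (hNM (hgen g))
  have hUH : genU K m ≤ H := fun g hg => show (⟨g, hg⟩ : ↥(genU K m)) ∈ H0 from hH0 ▸ Subgroup.mem_top _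
  have hn : n0 ∈ H := by
    have := mul_mem (inv_mem (hUH hxU)) hxn
    rwa [inv_mul_cancel_left] at this
  obtain ⟨-, r1, r4, ra, rb, rab, raab⟩ := longest_check
  have hconj : ∀ g ∈ H, n0 * g * n0⁻¹ ∈ H := fun g hg => mul_mem (mul_mem hn hg) (inv_mem hn)
  have hwm : ∀ r ∈ [f4p1, f4p4, f4m1, f4m4, f4a, f4b, f4ab, f4aab, f4ma, f4mb, f4mab, f4maab],
      ∀ a : K, ((X r a : GL chevF4.Idx K) : Matrix chevF4.Idx chevF4.Idx K) = _ := fun r hr a =>
    coe_elX hc K (lt_check _ hr) a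
  refine (Subgroup.closure_le _).2 ?_
  rintro g ⟨w, hw, hg⟩
  rcases hw with ⟨t, rfl | rfl⟩ | ⟨t, u, rfl | rfl⟩
  · have e : g = pairX m t := by
      ext1; rw [hg, pairX, Units.val_mul, hwm _ (by simp), hwm _ (by simp)]
      simp [ChevalleyDatum.wordMat, f4PairWord]
    rw [e]; exact hUH (hP t)
  · have e : g = n0 * pairX m t * n0⁻¹ := by
      rw [pairX, show ∀ a b c : GL chevF4.Idx K, a * (b * c) * a⁻¹ = a * b * a⁻¹ * (a * c * a⁻¹) from
        fun a b c => by group, n0_conj hσ (lt_check _ (by simp)) r1, n0_conj hσ (lt_check _ (by simp)) r4]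
      ext1; rw [hg, Units.val_mul, hwm _ (by simp), hwm _ (by simp)]
      simp [ChevalleyDatum.wordMat, f4PairWord]
    rw [e]; exact hconj _ (hUH (hP t))
  · have e : g = quadX m t u := by
      rw [quadX, ← quad_word_eq hσ hq4 t u]
      ext1
      rw [hg, Units.val_mul, Units.val_mul, Units.val_mul, hwm _ (by simp), hwm _ (by simp),
        hwm _ (by simp), hwm _ (by simp)]
      simp [ChevalleyDatum.wordMat, b2ClassWord, mul_assoc]
    rw [e]; exact hUH (hQ t u)
  · have e : g = n0 * quadX m t u * n0⁻¹ := by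
      rw [quadX, ← quad_word_eq hσ hq4 t u,
        show ∀ a b c d e : GL chevF4.Idx K, a * (b * c * d * e) * a⁻¹ =
          a * b * a⁻¹ * (a * c * a⁻¹) * (a * d * a⁻¹) * (a * e * a⁻¹) from fun a b c d e => by group,
        n0_conj hσ (lt_check _ (by simp)) ra, n0_conj hσ (lt_check _ (by simp)) rb,
        n0_conj hσ (lt_check _ (by simp)) rab, n0_conj hσ (lt_check _ (by simp)) raab]
      ext1
      rw [hg, Units.val_mul, Units.val_mul, Units.val_mul, hwm _ (by simp), hwm _ (by simp),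
        hwm _ (by simp), hwm _ (by simp)]
      simp [ChevalleyDatum.wordMat, b2ClassWord, mul_assoc]
    rw [e]; exact hconj _ (hUH (hQ t u))

end
end CfsgLib.ReeF4
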