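import Cfsg.Agent.Lib.Twisted.F4U
import Mathlib.GroupTheory.Frattini

/-!
Tables for two generators of `²F₄(q)`.
-/

set_option autoImplicit false
set_option linter.unusedSectionVars false
set_option maxRecDepth 4000

namespace CfsgLib.ReeF4

open Cfsg.Lie CfsgLib.Chev

variable {K : Type*} [Field K] [Fintype K] {m : ℕ} {σ : MulAut ↥(chevF4.group K)}

/-- The element of the pair class. -/
noncomputable def pairX (m : ℕ) (t : K) : GL chevF4.Idx K := X f4p1 (t ^ 2 ^ m) * X f4p4 t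

/-- The element of the quadruple class. -/
noncomputable def quadX (m : ℕ) (t u : K) : GL chevF4.Idx K := quadNF m f4a f4b f4ab f4aab t u

/-- The character of the torus element. -/
noncomputable def tauChar (m : ℕ) (t : Kˣ) : Fin chevF4.rank → Kˣ :=
  corChar chevF4 tb (chevF4.simple 0) (t ^ 2 ^ m) * corChar chevF4 tb (chevF4.simple 3) t

/-- The torus element. -/
noncomputable def tau (m : ℕ) (t : Kˣ) : GL chevF4.Idx K := torus chevF4 tb K (tauChar m t)

/-- The unipotent generators. -/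
noncomputable def genU (K : Type*) [Field K] (m : ℕ) : Subgroup (GL chevF4.Idx K) :=
  Subgroup.closure ({g | ∃ t : K, g = pairX m t} ∪ {g | ∃ t u : K, g = quadX m t u})

theorem hq4 : (f4a, f4b, f4ab, f4aab) ∈ quads := by simp [quads]

theorem simple_check : chevF4.simple 0 = f4p1 ∧ chevF4.simple 3 = f4p4 ∧ chevF4.neg f4p1 = f4m1 ∧
    chevF4.neg f4p4 = f4m4 := by decide +kernel

theorem lt_check : ∀ r ∈ [f4p1, f4p4, f4m1, f4m4, f4a, f4b, f4ab, f4aab, f4ma, f4mb, f4mab, f4maab],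
    r < chevF4.nroots := by decide +kernel

theorem comm_check : ∀ p ∈ ([(33, 23), (23, 33), (24, 14), (14, 24), (33, 24), (24, 33), (14, 23), (23, 14),
    (28, 25), (25, 28), (30, 25), (25, 30), (30, 27), (27, 30)] : List (ℕ × ℕ)),
    p.1 < 48 ∧ p.2 < 48 ∧ p.2 ≠ chevF4.neg p.1 ∧ chevF4.chainEntry p.1 p.2 = [] := by decide +kernel

theorem comm_list {r s : ℕ} (h : (r, s) ∈ ([(33, 23), (23, 33), (24, 14), (14, 24), (33, 24), (24, 33), (14, 23),
    (23, 14), (28, 25), (25, 28), (30, 25), (25, 30), (30, 27), (27, 30)] : List (ℕ × ℕ))) (t u : K) :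
    Commute (X r t) (X s u) := by
  obtain ⟨h1, h2, h3, h4⟩ := comm_check _ h
  exact CfsgLib.Twisted.commute_elX hc h1 h2 h3 h4 t u

theorem parity_check : f4ab < 48 ∧ f4a < 48 ∧ f4ab ≠ f4a ∧ f4ab ≠ chevF4.neg f4a ∧
    ∀ c ∈ chevF4.commTerms f4ab f4a, c.1 < 48 ∧ c.2.1 % 2 = 0 := by decide +kernel

theorem cartan_check : chevF4.cartan 0 f4p1 = 2 ∧ chevF4.cartan 3 f4p1 = 0 ∧ chevF4.cartan 0 f4p4 = 0 ∧
    chevF4.cartan 3 f4p4 = 2 ∧ chevF4.cartan 0 f4a = -1 ∧ chevF4.cartan 3 f4a = 0 ∧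
    chevF4.cartan 0 f4b = 0 ∧ chevF4.cartan 3 f4b = -1 ∧ chevF4.cartan 0 f4ab = -1 ∧
    chevF4.cartan 3 f4ab = -1 ∧ chevF4.cartan 0 f4aab = -2 ∧ chevF4.cartan 3 f4aab = -1 := by
  decide +kernel

theorem longest_check : (∀ j : Fin chevF4.rank, refls chevF4 (altW false 8).reverse (Pi.single j 1) =
      -Pi.single j 1) ∧
    sigs chevF4 tb (altW false 8) f4p1 = f4m1 ∧ sigs chevF4 tb (altW false 8) f4p4 = f4m4 ∧
    sigs chevF4 tb (altW false 8) f4a = f4ma ∧ sigs chevF4 tb (altW false 8) f4b = f4mb ∧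
    sigs chevF4 tb (altW false 8) f4ab = f4mab ∧ sigs chevF4 tb (altW false 8) f4aab = f4maab := by
  decide +kernel

theorem chi_reflChars' (L : List (Fin chevF4.rank)) : ∀ (χ : Fin chevF4.rank → Kˣ) (v : Fin chevF4.rank → ℤ),
    chi (reflChars L χ) v = chi χ (refls chevF4 L.reverse v) := by
  induction L with
  | nil => intro χ v; rfl
  | cons i L ih =>
    intro χ v
    show chi (reflChar i (reflChars L χ)) v = _
    rw [chi_reflChar, ih]
    congr 1
    simp [refls, List.foldr_append]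

end CfsgLib.ReeF4
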