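import Cfsg.Agent.Lib.Chev.CommCheck
import Cfsg.Agent.Lib.Chev.Comm
import Cfsg.Agent.Lib.Twisted.F4Sigma

/-!
Identities between words in the `x_r(1)` over a field of characteristic two, checked on the tables
modulo two.
-/

set_option autoImplicit false
set_option linter.unusedSectionVars false

namespace CfsgLib.ReeF4

open Cfsg.Lie CfsgLib.Chev
open scoped Matrix

/-- Reduction of a sparse vector to the indices with odd coefficient. -/
noncomputable def oddVec (N : ℕ) (L : List (ℕ × ℤ)) : List (ℕ × ℤ) :=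
  ((List.range N).filter fun j => !(Nat.beq ((coeffAt L j).natAbs % 2) 0)).map fun j => (j, 1)

/-- Applying a word to a sparse vector, reducing modulo two after every letter. -/
noncomputable def oddWord (D : ChevalleyDatum) (T : Tabs) (w : List ℕ) (L : List (ℕ × ℤ)) :
    List (ℕ × ℤ) :=
  List.rec (motive := fun _ => List (ℕ × ℤ)) L
    (fun r _ ih => oddVec (dimN D) (xApplyC D T r 1 ih)) w

/-- Two words act alike modulo two. -/
noncomputable def wordEqTest (D : ChevalleyDatum) (T : Tabs) (v w : List ℕ) : Bool :=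
  (allList (fun r => Nat.blt r D.nroots) v && allList (fun r => Nat.blt r D.nroots) w) &&
  allNat (dimN D) fun a => allNat (dimN D) fun j =>
    Nat.beq ((coeffAt (oddWord D T v [(a, 1)]) j).natAbs % 2)
      ((coeffAt (oddWord D T w [(a, 1)]) j).natAbs % 2)

variable {D : ChevalleyDatum} {T : Tabs} {K : Type*} [Field K]

theorem cast_parity (h2 : (2 : K) = 0) {a b : ℤ} (h : a.natAbs % 2 = b.natAbs % 2) :
    (a : K) = (b : K) := by
  have hd : (2 : ℤ) ∣ a - b := by omega
  obtain ⟨c, hc⟩ := hd
  rw [← sub_eq_zero, ← Int.cast_sub, hc, Int.cast_mul, Int.cast_ofNat, h2, zero_mul]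

theorem coeffAt_oddVec (N : ℕ) (L : List (ℕ × ℤ)) {j : ℕ} (hj : j < N) :
    coeffAt (oddVec N L) j = if (coeffAt L j).natAbs % 2 = 0 then 0 else 1 := by
  have key : ∀ M : List ℕ, M.Nodup → ∀ j, coeffAt (M.map fun i => (i, (1 : ℤ))) j =
      if j ∈ M then 1 else 0 := by
    intro M hM j
    induction M with
    | nil => simp
    | cons i M ih =>
      rw [List.nodup_cons] at hM
      rw [List.map_cons, coeffAt_cons, ih hM.2]
      by_cases h : i = j
      · subst h; simp [hM.1]
      · simp [h, Ne.symm h]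
  rw [oddVec, key _ (List.nodup_range.filter _)]
  by_cases h : (coeffAt L j).natAbs % 2 = 0 <;> simp [hj, h]

section
variable (hc : Checked D T) (h2 : (2 : K) = 0)
include hc h2

theorem vecOf_oddWord {w : List ℕ} (hw : ∀ r ∈ w, r < D.nroots) {L : List (ℕ × ℤ)}
    (hL : CfsgLib.Chev.Good D L) :
    CfsgLib.Chev.Good D (oddWord D T w L) ∧ (fun x => ((vecOf D (oddWord D T w L) x : ℤ) : K)) =
      (w.map fun r => ((elX D K r 1 : GL D.Idx K) : Matrix D.Idx D.Idx K)).prod *ᵥ
        fun x => ((vecOf D L x : ℤ) : K) := by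
  induction w with
  | nil => exact ⟨hL, by simp [oddWord]⟩
  | cons r l ih =>
    rw [List.forall_mem_cons] at hw
    obtain ⟨g, e⟩ := ih hw.2
    have g' : CfsgLib.Chev.Good D (oddWord D T (r :: l) L) := by
      intro p hp
      obtain ⟨j, hj, rfl⟩ := List.mem_map.1 hp
      exact List.mem_range.1 (List.mem_filter.1 hj).1
    refine ⟨g', ?_⟩
    have hone : (xTab D T ℤ r 1).map (Int.castRingHom K) =
        ((elX D K r 1 : GL D.Idx K) : Matrix D.Idx D.Idx K) := by
      rw [coe_elX hc K hw.1, xMat_eq hc K hw.1]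
      ext x y
      simp [xTab, Matrix.one_apply, apply_ite (Int.cast : ℤ → K)]
    rw [List.map_cons, List.prod_cons, ← Matrix.mulVec_mulVec, ← e, ← hone]
    funext x
    show ((coeffAt (oddVec (dimN D) (xApplyC D T r 1 (oddWord D T l L))) (cd D x) : ℤ) : K) = _
    rw [coeffAt_oddVec _ _ (show cd D x < dimN D from cd_lt x)]
    have hx := congrFun (vecOf_xApplyC (D := D) (T := T) (p := r) 1 g) x
    refine Eq.trans (cast_parity h2 (b := coeffAt (xApplyC D T r 1 (oddWord D T l L)) (cd D x)) ?_) ?_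
    · by_cases h : (coeffAt (xApplyC D T r 1 (oddWord D T l L)) (cd D x)).natAbs % 2 = 0 <;>
        simp [h]; omega
    · rw [show coeffAt _ (cd D x) = vecOf D (xApplyC D T r 1 (oddWord D T l L)) x from rfl, hx]
      exact (Int.castRingHom K).map_mulVec _ _ x

/-- Words agreeing modulo two agree over K. -/
theorem word_eq_of_test {v w : List ℕ} (h : wordEqTest D T v w = true) :
    (v.map fun r => elX D K r (1 : K)).prod = (w.map fun r => elX D K r (1 : K)).prod := by
  simp only [wordEqTest, Bool.and_eq_true, allList_iff, Nat.blt_eq, allNat_iff] at h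
  obtain ⟨⟨hv, hw⟩, h⟩ := h
  apply Units.ext
  rw [← Units.coeHom_apply, ← Units.coeHom_apply, map_list_prod, map_list_prod, List.map_map, List.map_map]
  ext x y
  have g0 : CfsgLib.Chev.Good D [(cd D y, (1 : ℤ))] := fun q hq => by
    simp at hq; subst hq; exact cd_lt y
  have e1 := congrFun (vecOf_oddWord hc h2 hv g0).2 x
  have e2 := congrFun (vecOf_oddWord hc h2 hw g0).2 x
  have hs : (fun z => ((vecOf D [(cd D y, 1)] z : ℤ) : K)) = Pi.single y 1 := by
    funext z; rw [vecOf_single, Pi.single_apply, Pi.single_apply]; split_ifs <;> simp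
  rw [hs, Matrix.mulVec_single_one, Matrix.col_apply] at e1 e2
  refine e1.symm.trans (Eq.trans (cast_parity h2 ?_) e2)
  exact Nat.eq_of_beq_eq_true (h (cd D y) (cd_lt y) (cd D x) (cd_lt x))

end

/-- The letters of `n_r(1)` in characteristic two. -/
def nLetters (D : ChevalleyDatum) (i : ℕ) : List ℕ := [D.simple i, D.neg (D.simple i), D.simple i]

set_option maxRecDepth 4000 in
theorem word_checks :
    wordEqTest chevF4 tb (nLetters chevF4 0 ++ nLetters chevF4 3)
      ([f4p1, f4p4] ++ [f4m1, f4m4] ++ [f4p1, f4p4]) = true ∧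
    wordEqTest chevF4 tb (nLetters chevF4 3 ++ nLetters chevF4 0)
      (nLetters chevF4 0 ++ nLetters chevF4 3) = true ∧
    wordEqTest chevF4 tb
      (nLetters chevF4 1 ++ nLetters chevF4 2 ++ nLetters chevF4 1 ++ nLetters chevF4 2)
      ([f4a, f4b, f4ab] ++ [f4mab, f4maab] ++ [f4a, f4b, f4aab]) = true ∧
    wordEqTest chevF4 tb
      (nLetters chevF4 2 ++ nLetters chevF4 1 ++ nLetters chevF4 2 ++ nLetters chevF4 1)
      (nLetters chevF4 1 ++ nLetters chevF4 2 ++ nLetters chevF4 1 ++ nLetters chevF4 2) = true := by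
  decide +kernel

end CfsgLib.ReeF4
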