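import Cfsg.Agent.Lib.Twisted.Sigma

/-!
The elements `n_J` of the orbits of fundamental roots, their action on the orbit products, and the
twisted group as the group generated by the orbit products of the fundamental roots and their
negatives, which then contains all orbit products.
-/

set_option autoImplicit false

namespace CfsgLib.Twisted

open Cfsg.Lie CfsgLib.Chev CfsgLib.Chevalley

variable {D : ChevalleyDatum} {T : Tabs} (S : TwistSym D)

/-- The `k`-th image of a node. -/
def TwistSym.nodeIter : ℕ → ℕ → ℕ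
  | 0, i => i
  | k + 1, i => S.node (TwistSym.nodeIter k i)

/-- The product of the first `n` reflections of the orbit of the node `i`. -/
def TwistSym.wK : ℕ → ℕ → ℕ → ℕ
  | 0, _, s => s
  | n + 1, i, s => TwistSym.wK n i (D.reflectRoot (S.nodeIter n i) s)

/-- The reflection of the orbit of the node `i`. -/
def TwistSym.wO (i s : ℕ) : ℕ := S.wK (S.olen (D.simple i)) i s

/-- The height of a root. -/
def rootHt (H : List ℤ) (r : ℕ) : ℤ := H.getD r 0

/-- The test for the orbit reflections: they commute with the symmetry, are involutions, the roots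
of an orbit of nodes are strongly orthogonal, and every positive root can be lowered to a
fundamental one. -/
def TwistSym.nodeTest (H : List ℤ) : Bool :=
  (List.range D.rank).all (fun i =>
    (List.range D.nroots).all (fun s => decide (S.wO i (S.img s) = S.img (S.wO i s) ∧
      S.wO i (S.wO i s) = s ∧ S.wO i (D.neg s) = D.neg (S.wO i s))) &&
    decide (S.wO i (D.simple i) = D.neg (D.simple i)) &&
    (List.range (S.olen (D.simple i))).all fun k => decide (k = 0 ∨
      (D.neg (S.imgIter k (D.simple i)) ≠ D.neg (D.simple i) ∧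
      D.chainEntry (D.simple i) (D.neg (S.imgIter k (D.simple i))) = [] ∧
      D.chainEntry (D.neg (D.simple i)) (S.imgIter k (D.simple i)) = []))) &&
  (List.range D.nroots).all (fun r => decide (r < D.nroots / 2) ||
    (List.range D.rank).any fun i => decide (r = D.simple i) ||
      decide (D.nroots / 2 ≤ S.wO i r ∧ 0 ≤ rootHt H (S.wO i r) ∧
        rootHt H (S.wO i r) < rootHt H r))

variable {S} {H : List ℤ}

section
variable (hN : S.nodeTest H = true)
include hN

theorem TwistSym.wO_spec {i s : ℕ} (hi : i < D.rank) (hs : s < D.nroots) :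
    S.wO i (S.img s) = S.img (S.wO i s) ∧ S.wO i (S.wO i s) = s ∧
      S.wO i (D.neg s) = D.neg (S.wO i s) := by
  simp only [TwistSym.nodeTest, Bool.and_eq_true, List.all_eq_true, List.mem_range,
    decide_eq_true_eq] at hN
  exact (hN.1 i hi).1.1 s hs

theorem TwistSym.wO_simple {i : ℕ} (hi : i < D.rank) :
    S.wO i (D.simple i) = D.neg (D.simple i) := by
  simp only [TwistSym.nodeTest, Bool.and_eq_true, List.all_eq_true, List.mem_range,
    decide_eq_true_eq] at hN
  exact (hN.1 i hi).1.2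

theorem TwistSym.node_orth {i k : ℕ} (hi : i < D.rank) (hk : k < S.olen (D.simple i))
    (h0 : k ≠ 0) : D.neg (S.imgIter k (D.simple i)) ≠ D.neg (D.simple i) ∧
      D.chainEntry (D.simple i) (D.neg (S.imgIter k (D.simple i))) = [] ∧
      D.chainEntry (D.neg (D.simple i)) (S.imgIter k (D.simple i)) = [] := by
  simp only [TwistSym.nodeTest, Bool.and_eq_true, List.all_eq_true, List.mem_range,
    decide_eq_true_eq] at hN
  exact ((hN.1 i hi).2 k hk).resolve_left h0

theorem TwistSym.reach {r : ℕ} (hr : r < D.nroots) (hp : D.nroots / 2 ≤ r) :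
    ∃ i < D.rank, r = D.simple i ∨ (D.nroots / 2 ≤ S.wO i r ∧ 0 ≤ rootHt H (S.wO i r) ∧
        rootHt H (S.wO i r) < rootHt H r) := by
  simp only [TwistSym.nodeTest, Bool.and_eq_true, List.all_eq_true, List.mem_range,
    decide_eq_true_eq, List.any_eq_true, Bool.or_eq_true] at hN
  exact (hN.2 r hr).resolve_left (by omega)

end

variable {K : Type*} [Field K]

/-- The element `n_J` of the orbit of the node `i`. -/
noncomputable def nOrb (hS : S.test = true) (φ : K ≃+* K) (i : ℕ) : GL D.Idx K :=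
  orbProd (⇑(twistSigma S hS φ)) (S.olen (D.simple i)) (elN D K (D.simple i) 1)

/-- The group generated by the orbit products of the fundamental roots and their negatives. -/
noncomputable def twistGrp (hS : S.test = true) (φ : K ≃+* K) : Subgroup (GL D.Idx K) :=
  Subgroup.closure {g | ∃ i < D.rank, ∃ r, (r = D.simple i ∨ r = D.neg (D.simple i)) ∧
    ∃ t, IsPar S φ r t ∧ g = orbX hS φ r t}

theorem orbX_simple_mem {hS : S.test = true} {φ : K ≃+* K} {i : ℕ} (hi : i < D.rank) {t : K}
    (ht : IsPar S φ (D.simple i) t) : orbX hS φ (D.simple i) t ∈ twistGrp hS φ :=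
  Subgroup.subset_closure ⟨i, hi, _, Or.inl rfl, t, ht, rfl⟩

theorem orbX_neg_simple_mem {hS : S.test = true} {φ : K ≃+* K} {i : ℕ} (hi : i < D.rank) {t : K}
    (ht : IsPar S φ (D.neg (D.simple i)) t) :
    orbX hS φ (D.neg (D.simple i)) t ∈ twistGrp hS φ :=
  Subgroup.subset_closure ⟨i, hi, _, Or.inr rfl, t, ht, rfl⟩

theorem TwistSym.olen_cases (S : TwistSym D) (r : ℕ) :
    (S.img r = r ∧ S.olen r = 1) ∨ (S.img r ≠ r ∧ S.olen r = S.d) := by
  unfold TwistSym.olen
  split_ifs with h
  · exact Or.inl ⟨h, rfl⟩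
  · exact Or.inr ⟨h, rfl⟩

section
variable (hc : Checked D T) (hS : S.test = true) (φ : K ≃+* K)
include hc hS

theorem TwistSym.imgIter_simple {i : ℕ} (hi : i < D.rank) (k : ℕ) :
    S.nodeIter k i < D.rank ∧ S.imgIter k (D.simple i) = D.simple (S.nodeIter k i) ∧
      S.imgIter k (D.neg (D.simple i)) = D.neg (D.simple (S.nodeIter k i)) ∧
      S.sgnIter k (D.simple i) = 1 ∧ S.sgnIter k (D.neg (D.simple i)) = 1 := by
  induction k with
  | zero => exact ⟨hi, rfl, rfl, rfl, rfl⟩
  | succ k ih =>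
    obtain ⟨h0, h1, h2, h3, h4⟩ := ih
    obtain ⟨g1, g2, g3, g4⟩ := TwistSym.simple_spec hS h0
    exact ⟨TwistSym.node_lt hS h0, by rw [TwistSym.imgIter, h1, g1]; rfl,
      by rw [TwistSym.imgIter, h2, g2]; rfl, by rw [TwistSym.sgnIter, h1, g3, h3, mul_one],
      by rw [TwistSym.sgnIter, h2, g4, h4, mul_one]⟩

theorem TwistSym.olen_neg {r : ℕ} (hr : r < D.nroots) : S.olen (D.neg r) = S.olen r := by
  have hn := neg_lt hc hr
  have h : S.img (D.neg r) = D.neg r ↔ S.img r = r := by
    rw [← TwistSym.neg_img hS hr]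
    refine ⟨fun h => ?_, fun h => by rw [h]⟩
    rw [← neg_neg_root hc (TwistSym.img_lt hS hr), h, neg_neg_root hc hr]
  unfold TwistSym.olen
  exact if_congr h rfl rfl

theorem TwistSym.olen_img {r : ℕ} (hr : r < D.nroots) : S.olen (S.img r) = S.olen r := by
  unfold TwistSym.olen
  exact if_congr ⟨fun h => TwistSym.img_inj hS (TwistSym.img_lt hS hr) hr h,
    fun h => by rw [h, h]⟩ rfl rfl

theorem iter_elN_simple {i : ℕ} (hi : i < D.rank) (k : ℕ) :
    (⇑(twistSigma S hS φ))^[k] (elN D K (D.simple i) 1) = elN D K (D.simple (S.nodeIter k i)) 1 := by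
  have hp := simple_lt hc hi
  obtain ⟨-, h1, h2, h3, h4⟩ := TwistSym.imgIter_simple hc hS hi k
  rw [elN, iterate_map_mul, iterate_map_mul, twistSigma_iter_elX hc hS φ hp,
    twistSigma_iter_elX hc hS φ (neg_lt hc hp), h1, h2, h3, h4]
  simp [elN, iterate_map_neg, iterate_map_one]

theorem commute_node_mixed (hN : S.nodeTest H = true) {i : ℕ} (hi : i < D.rank) (a b : K)
    {j k : ℕ} (hj : j < S.olen (D.simple i)) (hk : k < S.olen (D.simple i)) (hjk : j ≠ k) :
    Commute ((⇑(twistSigma S hS φ))^[j] (elX D K (D.simple i) a))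
      ((⇑(twistSigma S hS φ))^[k] (elX D K (D.neg (D.simple i)) b)) := by
  have hp := simple_lt hc hi
  rcases lt_or_gt_of_ne hjk with h | h
  · obtain ⟨m, rfl⟩ := Nat.exists_eq_add_of_le h.le
    rw [Function.iterate_add_apply]
    show _ * _ = _ * _
    obtain ⟨o1, o2, -⟩ := TwistSym.node_orth hN hi (k := m) (by omega) (by omega)
    obtain ⟨hlt, h1, h2, -⟩ := TwistSym.imgIter_simple hc hS hi m
    rw [← iterate_map_mul, ← iterate_map_mul, twistSigma_iter_elX hc hS φ (neg_lt hc hp), h2, ← h1,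
      (commute_elX hc hp (neg_lt hc (TwistSym.imgIter_lt hS hp m)) o1 o2 _ _).eq]
  · obtain ⟨m, rfl⟩ := Nat.exists_eq_add_of_le h.le
    rw [Function.iterate_add_apply]
    show _ * _ = _ * _
    obtain ⟨o1, -, o3⟩ := TwistSym.node_orth hN hi (k := m) (by omega) (by omega)
    have hlt := TwistSym.imgIter_lt hS hp m
    rw [← iterate_map_mul, ← iterate_map_mul, twistSigma_iter_elX hc hS φ hp,
      ← (commute_elX hc (neg_lt hc hp) hlt
        (fun e => o1 (by rw [e, neg_neg_root hc hp])) o3 _ _).eq]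

theorem nOrb_eq (hN : S.nodeTest H = true) {i : ℕ} (hi : i < D.rank) :
    nOrb hS φ i = orbX hS φ (D.simple i) 1 * orbX hS φ (D.neg (D.simple i)) (-1) *
      orbX hS φ (D.simple i) 1 := by
  have hp := simple_lt hc hi
  rw [nOrb, elN, inv_one, orbX, orbX, TwistSym.olen_neg hc hS hp]
  rw [show (⇑(twistSigma S hS φ)) = ⇑(twistSigma S hS φ).toMonoidHom from rfl]
  rw [orbProd_mul, orbProd_mul]
  · exact fun j k hj hk hjk => commute_node_mixed hc hS φ hN hi 1 (-1) hj hk hjk
  · intro j k hj hk hjk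
    rw [iterate_map_mul]
    exact (commute_iter_elX hc hS φ hp 1 1 hj hk).mul_left
      ((commute_node_mixed hc hS φ hN hi 1 (-1) hk hj (Ne.symm hjk)).symm)

theorem nOrb_mem (hN : S.nodeTest H = true) {i : ℕ} (hi : i < D.rank) :
    nOrb hS φ i ∈ twistGrp hS φ := by
  rw [nOrb_eq hc hS φ hN hi]
  have h1 : IsPar S φ (D.simple i) (1 : K) := isPar_one φ _
  have h2 : IsPar S φ (D.neg (D.simple i)) (-1 : K) := by simp [IsPar, iterate_map_neg, iterate_map_one]
  exact mul_mem (mul_mem (orbX_simple_mem hi h1) (orbX_neg_simple_mem hi h2)) (orbX_simple_mem hi h1)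

theorem nOrb_fixed (hN : S.nodeTest H = true) {i : ℕ} (hi : i < D.rank) :
    nOrb hS φ i ∈ fixedSub S hS φ := by
  have hp := simple_lt hc hi
  rw [nOrb_eq hc hS φ hN hi]
  have h1 : IsPar S φ (D.simple i) (1 : K) := isPar_one φ _
  have h2 : IsPar S φ (D.neg (D.simple i)) (-1 : K) := by simp [IsPar, iterate_map_neg, iterate_map_one]
  exact mul_mem (mul_mem (orbX_fixed hc hS φ hp h1) (orbX_fixed hc hS φ (neg_lt hc hp) h2))
    (orbX_fixed hc hS φ hp h1)

theorem twistGrp_le_fixed : twistGrp hS φ ≤ fixedSub S hS φ := by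
  refine (Subgroup.closure_le _).mpr ?_
  rintro g ⟨i, hi, r, hr, t, ht, rfl⟩
  refine orbX_fixed hc hS φ ?_ ht
  rcases hr with rfl | rfl
  · exact simple_lt hc hi
  · exact neg_lt hc (simple_lt hc hi)

theorem iter_fixed {g : GL D.Idx K} (hg : g ∈ fixedSub S hS φ) (k : ℕ) :
    (⇑(twistSigma S hS φ))^[k] g = g :=
  Function.iterate_fixed (mem_fixedSub.mp hg) k

theorem conj_orbX {g : GL D.Idx K} (hg : g ∈ fixedSub S hS φ) {r r' : ℕ} {t t' : K}
    (h : g * elX D K r t * g⁻¹ = elX D K r' t') (hl : S.olen r' = S.olen r) :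
    g * orbX hS φ r t * g⁻¹ = orbX hS φ r' t' := by
  rw [orbX, orbX, hl, ← h]
  generalize S.olen r = n
  induction n with
  | zero => simp [orbProd]
  | succ n ih =>
    rw [orbProd_succ, orbProd_succ, ← ih, iterate_map_mul, iterate_map_mul, iter_fixed hc hS φ hg,
      iter_fixed hc hS φ (inv_mem hg)]
    simp only [mul_assoc, inv_mul_cancel_left]

theorem elX_injective {r : ℕ} (hr : r < D.nroots) : Function.Injective (elX D K r) := by
  intro a b h
  have : elX D K r (a - b) = 1 := by
    rw [sub_eq_add_neg, ← elX_add hc K hr, h, elX_add hc K hr, add_neg_cancel, elX_zero hc K hr]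
  exact sub_eq_zero.mp ((elX_eq_one_iff hc hr _).mp this)

theorem isPar_conj {g : GL D.Idx K} (hg : g ∈ fixedSub S hS φ) {r r' : ℕ} (hr : r < D.nroots)
    (hr' : r' < D.nroots) {t t' : K} (h : g * elX D K r t * g⁻¹ = elX D K r' t')
    (hl : S.olen r' = S.olen r) (ht : IsPar S φ r t) : IsPar S φ r' t' := by
  have := iter_olen_elX hc hS φ hr' t'
  rw [← h, hl, iterate_map_mul, iterate_map_mul, iter_fixed hc hS φ hg,
    iter_fixed hc hS φ (inv_mem hg), iter_olen_elX hc hS φ hr, ht, h] at this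
  show (⇑φ)^[S.olen r'] t' = t'
  rw [hl]
  exact (elX_injective hc hS hr' this).symm

theorem orbX_img {r : ℕ} (hr : r < D.nroots) {t : K} (ht : IsPar S φ r t) :
    orbX hS φ (S.img r) ((S.sgn r : ℤ) * φ t) = orbX hS φ r t := by
  have hf := mem_fixedSub.mp (orbX_fixed hc hS φ hr ht)
  conv_rhs => rw [← hf]
  rw [orbX, orbX, TwistSym.olen_img hc hS hr, ← twistSigma_elX hc hS φ hr]
  generalize S.olen r = n
  induction n with
  | zero => simp [orbProd]
  | succ n ih =>
    rw [orbProd_succ, orbProd_succ, map_mul, ← ih,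
      ← Function.iterate_succ_apply' (⇑(twistSigma S hS φ)),
      ← Function.iterate_succ_apply (⇑(twistSigma S hS φ))]

theorem wK_conj (n : ℕ) {i : ℕ} (hi : i < D.rank) {s : ℕ} (hs : s < D.nroots) (t : K) :
    S.wK n i s < D.nroots ∧ ∃ e : ℤ, (e = 1 ∨ e = -1) ∧
      orbProd (⇑(twistSigma S hS φ)) n (elN D K (D.simple i) 1) * elX D K s t *
        (orbProd (⇑(twistSigma S hS φ)) n (elN D K (D.simple i) 1))⁻¹ =
      elX D K (S.wK n i s) ((e : K) * t) := by
  induction n generalizing s t with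
  | zero => exact ⟨hs, 1, Or.inl rfl, by simp [orbProd, TwistSym.wK]⟩
  | succ n ih =>
    obtain ⟨hlt, -⟩ := TwistSym.imgIter_simple hc hS hi n
    have hu := sig_lt hc ⟨_, hlt⟩ hs
    rw [TwistSym.wK, show D.reflectRoot (S.nodeIter n i) s = _ from reflectRoot_eq hc ⟨_, hlt⟩ hs]
    obtain ⟨h1, e, he, h2⟩ := ih hu ((eta D T (⟨_, hlt⟩ : Fin D.rank) s : K) * t)
    refine ⟨h1, e * eta D T (⟨_, hlt⟩ : Fin D.rank) s, ?_, ?_⟩
    · rcases he with rfl | rfl <;> rcases (eta_spec hc ⟨_, hlt⟩ hs).1 with h | h <;> rw [h] <;>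
        norm_num
    · rw [show ((e * eta D T (⟨_, hlt⟩ : Fin D.rank) s : ℤ) : K) * t =
        (e : K) * ((eta D T (⟨_, hlt⟩ : Fin D.rank) s : K) * t) by push_cast; ring,
        ← h2, ← nOne_conj_elX hc ⟨_, hlt⟩ hs t, orbProd_succ,
        iter_elN_simple hc hS φ hi n]
      simp only [mul_inv_rev, mul_assoc]

/-- `n_J` carries the orbit product at `s` to that at `w_J s`. -/
theorem nOrb_conj (hN : S.nodeTest H = true) {i : ℕ} (hi : i < D.rank) {s : ℕ} (hs : s < D.nroots)
    {t : K} (ht : IsPar S φ s t) : S.wO i s < D.nroots ∧ S.olen (S.wO i s) = S.olen s ∧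
      ∃ e : ℤ, (e = 1 ∨ e = -1) ∧ IsPar S φ (S.wO i s) ((e : K) * t) ∧
        nOrb hS φ i * orbX hS φ s t * (nOrb hS φ i)⁻¹ = orbX hS φ (S.wO i s) ((e : K) * t) := by
  obtain ⟨h1, e, he, h2⟩ := wK_conj hc hS φ (S.olen (D.simple i)) hi hs t
  have hl : S.olen (S.wO i s) = S.olen s := by
    have hcomm := (TwistSym.wO_spec hN hi hs).1
    have hinv := (TwistSym.wO_spec hN hi hs).2.1
    unfold TwistSym.olen
    refine if_congr ⟨fun h => ?_, fun h => ?_⟩ rfl rfl
    · rw [← hcomm] at h
      have h' := congrArg (S.wO i) h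
      rwa [(TwistSym.wO_spec hN hi (TwistSym.img_lt hS hs)).2.1, hinv] at h'
    · rw [← hcomm, h]
  have hg := nOrb_fixed hc hS φ hN hi
  exact ⟨h1, hl, e, he, isPar_conj hc hS φ hg hs h1 h2 hl ht, conj_orbX hc hS φ hg h2 hl⟩

theorem wO_lt {i : ℕ} (hi : i < D.rank) {s : ℕ} (hs : s < D.nroots) : S.wO i s < D.nroots :=
  by
  unfold TwistSym.wO
  generalize S.olen (D.simple i) = n
  induction n generalizing s with
  | zero => exact hs
  | succ n ih =>
    have hlt := (TwistSym.imgIter_simple hc hS hi n).1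
    rw [TwistSym.wK, show D.reflectRoot (S.nodeIter n i) s = _ from reflectRoot_eq hc ⟨_, hlt⟩ hs]
    exact ih (sig_lt hc ⟨_, hlt⟩ hs)

omit hc hS in
theorem isPar_signed {r : ℕ} {t : K} {e : ℤ} (ht : IsPar S φ r t) :
    IsPar S φ r ((e : K) * t) := by
  simp only [IsPar] at ht ⊢
  rw [iterate_map_mul, ht]
  congr 1
  exact Function.iterate_fixed (map_intCast φ e) _

/-- Every orbit product lies in the twisted group. -/
theorem orbX_mem (hN : S.nodeTest H = true) {r : ℕ} (hr : r < D.nroots) {t : K}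
    (ht : IsPar S φ r t) : orbX hS φ r t ∈ twistGrp hS φ := by
  have key : ∀ (n : ℕ) (r : ℕ), r < D.nroots → D.nroots / 2 ≤ r → 0 ≤ rootHt H r →
      rootHt H r ≤ n → (∀ t, IsPar S φ r t → orbX hS φ r t ∈ twistGrp hS φ) ∧
        (∀ t, IsPar S φ (D.neg r) t → orbX hS φ (D.neg r) t ∈ twistGrp hS φ) := by
    intro n
    induction n using Nat.strong_induction_on with
    | _ n ih =>
      intro r hr hp h0 hn
      obtain ⟨i, hi, rfl | ⟨hp', h0', hlt⟩⟩ := TwistSym.reach hN hr hp
      · exact ⟨fun t ht => orbX_simple_mem hi ht, fun t ht => orbX_neg_simple_mem hi ht⟩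
      have hu := wO_lt hc hS hi hr
      obtain ⟨k1, k2⟩ := ih (rootHt H (S.wO i r)).toNat (by omega) _ hu hp' h0' (by omega)
      have hm := nOrb_mem hc hS φ hN hi
      have hinv := (TwistSym.wO_spec hN hi hr).2.1
      have conv : ∀ s, s < D.nroots → (∀ t, IsPar S φ (S.wO i s) t →
          orbX hS φ (S.wO i s) t ∈ twistGrp hS φ) →
          ∀ t, IsPar S φ s t → orbX hS φ s t ∈ twistGrp hS φ := by
        intro s hs hmem t ht
        obtain ⟨-, -, e, -, hp2, heq⟩ := nOrb_conj hc hS φ hN hi hs ht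
        have := hmem _ hp2
        rw [← heq, Subgroup.mul_mem_cancel_right _ (inv_mem hm),
          Subgroup.mul_mem_cancel_left _ hm] at this
        exact this
      refine ⟨conv r hr k1, conv _ (neg_lt hc hr) ?_⟩
      rw [(TwistSym.wO_spec hN hi hr).2.2]
      exact k2
  by_cases hp : D.nroots / 2 ≤ r
  · by_cases h0 : 0 ≤ rootHt H r
    · exact (key (rootHt H r).toNat r hr hp h0 (by omega)).1 t ht
    · obtain ⟨i, hi, rfl | ⟨-, h0', hlt⟩⟩ := TwistSym.reach hN hr hp
      · exact orbX_simple_mem hi ht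
      · omega
  · have hn := neg_lt hc hr
    have hp' : D.nroots / 2 ≤ D.neg r := by
      have := neg_eq hc hr; have := nroots_eq_two_mul hc; omega
    by_cases h0 : 0 ≤ rootHt H (D.neg r)
    · have := (key (rootHt H (D.neg r)).toNat _ hn hp' h0 (by omega)).2 t
        (by rwa [neg_neg_root hc hr])
      rwa [neg_neg_root hc hr] at this
    · obtain ⟨i, hi, h | ⟨-, h0', hlt⟩⟩ := TwistSym.reach hN hn hp'
      · have h' : r = D.neg (D.simple i) := by rw [← h, neg_neg_root hc hr]
        subst h'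
        exact orbX_neg_simple_mem hi ht
      · omega

end

end CfsgLib.Twisted
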