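import Cfsg.Agent.Lib.Chev.Unipotent
import Cfsg.Agent.Lib.Twisted.NOrb

/-!
The height filtration of the positive unipotent subgroup: the leading coefficients of an element at
a height are additive, and an element whose leading coefficients vanish lies in the next term.
-/

set_option autoImplicit false
set_option linter.unusedSectionVars false

namespace CfsgLib.Twisted

open Cfsg.Lie CfsgLib.Chev

variable {D : ChevalleyDatum} {T : Tabs}

/-- The height functional. -/
def htLin (D : ChevalleyDatum) (v : Fin D.rank → ℤ) : ℤ := ∑ j, v j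

theorem htLin_add (v w : Fin D.rank → ℤ) : htLin D (v + w) = htLin D v + htLin D w := by
  simp [htLin, Finset.sum_add_distrib]

theorem htLin_smul (c : ℤ) (v : Fin D.rank → ℤ) : htLin D (c • v) = c * htLin D v := by
  simp [htLin, Finset.mul_sum]

theorem htLin_zero : htLin D 0 = 0 := by simp [htLin]

theorem htLin_neg (v : Fin D.rank → ℤ) : htLin D (-v) = -htLin D v := by simp [htLin]

/-- The height of a root. -/
noncomputable def hgt (D : ChevalleyDatum) (T : Tabs) (r : ℕ) : ℤ := htLin D (rv D T r)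

/-- Positive roots have positive height. -/
def HtPos (D : ChevalleyDatum) (T : Tabs) : Prop :=
  ∀ r < D.nroots, D.nroots / 2 ≤ r → 1 ≤ hgt D T r

/-- The height of a root as computed by the kernel. -/
noncomputable def hgtC (D : ChevalleyDatum) (T : Tabs) (r : ℕ) : ℤ :=
  ((List.range D.rank).map fun j => wt D T r j).sum

theorem hgt_eq_hgtC (r : ℕ) : hgt D T r = hgtC D T r := by
  rw [hgtC, ← List.sum_toFinset _ List.nodup_range, List.toFinset_range, Finset.sum_range]
  rfl

/-- The roots of height at least `h`. -/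
def highSet (D : ChevalleyDatum) (T : Tabs) (h : ℤ) (r : ℕ) : Prop :=
  D.nroots / 2 ≤ r ∧ h ≤ hgt D T r

/-- The term of the filtration. -/
def highU (D : ChevalleyDatum) (T : Tabs) (F : Type*) [Field F] (h : ℤ) : Subgroup (GL D.Idx F) :=
  uGen D F (highSet D T h)

variable {F : Type*} [Field F]

/-- The coefficient of an element read off at the root `r`. -/
noncomputable def lead (g : GL D.Idx F) (r : ℕ) (j : Fin D.rank) : F :=
  if h : D.neg r < D.nroots then (g : Matrix D.Idx D.Idx F) (Sum.inl j) (Sum.inr ⟨D.neg r, h⟩) else 0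

section
variable (hc : Checked D T)
include hc

theorem closedPos_highSet (hH : HtPos D T) (h : ℤ) : ClosedPos D T (highSet D T h) := by
  refine ⟨fun r _ hr => hr.1, fun r s v hr hs h1 h2 hv => ⟨?_, ?_⟩⟩
  · exact (closedPos_pos hc).2 r s v hr hs h1.1 h2.1 hv
  · obtain ⟨-, i, j, hi, hj, e⟩ := hv
    have e1 := hH r hr h1.1
    have e2 := hH s hs h2.1
    have e3 : hgt D T v = (i : ℤ) * hgt D T r + (j : ℤ) * hgt D T s := by
      simp only [hgt, e, htLin_add, htLin_smul]
    have hi' : (1 : ℤ) ≤ (i : ℤ) := by exact_mod_cast hi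
    have hj' : (1 : ℤ) ≤ (j : ℤ) := by exact_mod_cast hj
    have := h1.2
    nlinarith

theorem raises_highU {h : ℤ} (h0 : 0 ≤ h) {g : GL D.Idx F} (hg : g ∈ highU D T F h) :
    Raises D T (htLin D) h (g : Matrix D.Idx D.Idx F) :=
  raises_uGen hc htLin_add htLin_smul h0 (fun _ _ hr => hr.2) hg

theorem lead_mul {h : ℤ} (h1 : 1 ≤ h) {g g' : GL D.Idx F} (hg : g ∈ highU D T F h)
    (hg' : g' ∈ highU D T F h) {r : ℕ} (hr : r < D.nroots) (hh : hgt D T r = h) (j : Fin D.rank) :
    lead (g * g') r j = lead g r j + lead g' r j := by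
  have hM := raises_highU hc (by omega) hg
  have hN := raises_highU hc (by omega) hg'
  simp only [lead, dif_pos (neg_lt hc hr), Units.val_mul, Matrix.mul_apply]
  set y : D.Idx := Sum.inr ⟨D.neg r, neg_lt hc hr⟩ with hy
  have hy' : htLin D (wI D T y) = -h := by rw [hy, wI_inr, rv_neg hc hr, htLin_neg, ← hh]; rfl
  have hx' : htLin D (wI D T (Sum.inl j : D.Idx)) = 0 := by rw [wI_inl, htLin_zero]
  have hxy : (Sum.inl j : D.Idx) ≠ y := by simp [hy]
  rw [Finset.sum_eq_add (Sum.inl j) y hxy]
  · have e1 : (g : Matrix D.Idx D.Idx F) (Sum.inl j) (Sum.inl j) = 1 := by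
      by_contra hne
      have := hM (Sum.inl j) (Sum.inl j) (by rwa [Matrix.one_apply_eq])
      omega
    have e2 : (g' : Matrix D.Idx D.Idx F) y y = 1 := by
      by_contra hne
      have := hN y y (by rwa [Matrix.one_apply_eq])
      omega
    rw [e1, e2, one_mul, mul_one, add_comm]
  · intro z _ hz
    by_contra hne
    have g1 := hM (Sum.inl j) z (by rw [Matrix.one_apply_ne hz.1.symm]; exact left_ne_zero_of_mul hne)
    have g2 := hN z y (by rw [Matrix.one_apply_ne hz.2]; exact right_ne_zero_of_mul hne)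
    omega
  · simp
  · simp

theorem lead_one {r : ℕ} (hr : r < D.nroots) (j : Fin D.rank) : lead (1 : GL D.Idx F) r j = 0 := by
  simp [lead, dif_pos (neg_lt hc hr)]

theorem lead_list_prod {h : ℤ} (h1 : 1 ≤ h) (L : List (GL D.Idx F))
    (hL : ∀ g ∈ L, g ∈ highU D T F h) {r : ℕ} (hr : r < D.nroots) (hh : hgt D T r = h)
    (j : Fin D.rank) : lead L.prod r j = (L.map fun g => lead g r j).sum := by
  induction L with
  | nil => simp [lead_one hc hr]
  | cons g L ih =>
    rw [List.forall_mem_cons] at hL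
    rw [List.prod_cons, List.map_cons, List.sum_cons,
      lead_mul hc h1 hL.1 (Subgroup.list_prod_mem _ hL.2) hr hh, ih hL.2]

theorem lead_elX (hH : HtPos D T) {r s : ℕ} (hr : r < D.nroots) (hrp : D.nroots / 2 ≤ r)
    (hs : s < D.nroots) (hsp : D.nroots / 2 ≤ s) (hle : hgt D T s ≤ hgt D T r) (t : F)
    (j : Fin D.rank) :
    lead (elX D F r t) s j = if r = s then (cv T s j : F) * t else 0 := by
  simp only [lead, dif_pos (neg_lt hc hs)]
  split_ifs with e
  · subst e
    have := coord_eq hc hr hrp t (one_mem (uGen D F fun a => r < a)) j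
    rwa [mul_one] at this
  · rw [coe_elX hc F hr, xMat_eq hc F hr]
    have hz : ∀ k, k = 1 ∨ k = 2 ∨ k = 3 →
        tabMat D T k r (Sum.inl j) (Sum.inr ⟨D.neg s, neg_lt hc hs⟩) = 0 := by
      intro k hk
      by_contra hne
      have hw := weight_spec hc hk (by omega) hne
      rw [wI_inl, wI_inr, rv_neg hc hs] at hw
      have hw' : (k : ℤ) • rv D T r = rv D T s := by
        have := congrArg (fun v => v + rv D T s) hw
        simpa [neg_add_cancel_comm] using this.symm
      have h3 : (k : ℤ) * hgt D T r = hgt D T s := by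
        rw [hgt, hgt, ← hw', htLin_smul]
      have hk1 : k = 1 := by
        have := hH r hr hrp
        rcases hk with rfl | rfl | rfl
        · rfl
        · exfalso; push_cast at h3; omega
        · exfalso; push_cast at h3; omega
      subst hk1
      exact e (rv_inj hc hr hs (by simpa using hw'))
    simp [xTab, hz 1 (Or.inl rfl), hz 2 (Or.inr (Or.inl rfl)), hz 3 (Or.inr (Or.inr rfl))]

theorem elX_mem_highU {r : ℕ} (hr : r < D.nroots) (hrp : D.nroots / 2 ≤ r) {h : ℤ}
    (hle : h ≤ hgt D T r) (t : F) : elX D F r t ∈ highU D T F h :=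
  elX_mem_uGen hr (P := highSet D T h) ⟨hrp, hle⟩ t

theorem highU_mono {h h' : ℤ} (hle : h ≤ h') : highU D T F h' ≤ highU D T F h :=
  uGen_mono fun _ _ hr => ⟨hr.1, hle.trans hr.2⟩

theorem highU_one (hH : HtPos D T) : highU D T F 1 = D.posUnipotent F := by
  rw [posUnipotent_eq hc, highU]
  exact uGen_congr fun r hr => ⟨fun h => h.1, fun h => ⟨h, hH r hr h⟩⟩

/-- Zero is the only element of the filtration above all heights. -/
theorem highU_top {h : ℤ} (hb : ∀ r < D.nroots, hgt D T r < h) : highU D T F h = ⊥ := by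
  rw [eq_bot_iff, highU, uGen_le_iff]
  intro r hr hs
  have := hb r hr
  have := hs.2
  omega

variable (hcomm : CommOne D T)
include hcomm

/-- An element of the filtration is determined modulo the next term by its coefficients. -/
theorem exists_coords (hH : HtPos D T) {h : ℤ} (h1 : 1 ≤ h) {g : GL D.Idx F}
    (hg : g ∈ highU D T F h) : ∃ t : ℕ → F,
      g = uProd D F (rootsFrom D (highSet D T h) 0) t ∧
      ∀ r < D.nroots, D.nroots / 2 ≤ r → hgt D T r = h →
        ∀ j, lead g r j = (cv T r j : F) * t r := by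
  obtain ⟨t, rfl⟩ := uGen_exists hc hcomm (closedPos_highSet hc hH h) hg
  refine ⟨t, rfl, fun r hr hrp hh j => ?_⟩
  rw [uProd, lead_list_prod hc h1 _ ?_ hr hh, List.map_map]
  · have hnd : (rootsFrom D (highSet D T h) 0).Nodup := (List.nodup_range' ..).filter _
    rw [← List.sum_toFinset _ hnd, Finset.sum_eq_single r]
    · simp only [Function.comp_apply, lead_elX hc hH hr hrp hr hrp le_rfl, if_true]
    · intro s hs hne
      rw [List.mem_toFinset, mem_rootsFrom] at hs
      simp only [Function.comp_apply,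
        lead_elX hc hH hs.2.1 hs.2.2.1 hr hrp (by have := hs.2.2.2; omega), if_neg hne]
    · intro hnot
      exact absurd (List.mem_toFinset.2 (mem_rootsFrom.2 ⟨Nat.zero_le _, hr, hrp, hh.ge⟩)) hnot
  · intro g hg
    obtain ⟨s, hs, rfl⟩ := List.mem_map.1 hg
    obtain ⟨-, h2, h3⟩ := mem_rootsFrom.1 hs
    exact elX_mem_highU hc h2 h3.1 h3.2 _

/-- Vanishing coefficients push an element into the next term. -/
theorem mem_highU_succ (hH : HtPos D T) {h : ℤ} (h1 : 1 ≤ h) {g : GL D.Idx F}
    (hg : g ∈ highU D T F h)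
    (hz : ∀ r < D.nroots, D.nroots / 2 ≤ r → hgt D T r = h → ∀ j, lead g r j = 0) :
    g ∈ highU D T F (h + 1) := by
  obtain ⟨t, rfl, ht⟩ := exists_coords hc hcomm hH h1 hg
  refine Subgroup.list_prod_mem _ fun x hx => ?_
  obtain ⟨r, hr, rfl⟩ := List.mem_map.1 hx
  obtain ⟨-, h2, h3⟩ := mem_rootsFrom.1 hr
  by_cases hh : hgt D T r = h
  · obtain ⟨j, hj⟩ := exists_cv_ne_zero hc F h2
    have := hz r h2 h3.1 hh j
    rw [ht r h2 h3.1 hh j, mul_eq_zero] at this
    rw [this.resolve_left hj, elX_zero hc F h2]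
    exact one_mem _
  · exact elX_mem_highU hc h2 h3.1 (by have := h3.2; omega) _

end

end CfsgLib.Twisted
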