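import Cfsg.Agent.Lib.Twisted.Commute
import Cfsg.Agent.Lib.Chevalley.FieldMap
import Cfsg.Agent.Lib.Chevalley.SignPerm

/-!
The endomorphism `σ` (diagram symmetry composed with a field automorphism), the subgroup it fixes,
and the fixed products over orbits of roots.
-/

set_option autoImplicit false

namespace CfsgLib.Twisted

open Cfsg.Lie CfsgLib.Chev CfsgLib.Chevalley

/-- A symmetry of the tables of a datum, with its inverse and its order. -/
structure TwistSym (D : ChevalleyDatum) where
  π : List ℕ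
  π' : List ℕ
  ρ : List ℕ
  ρ' : List ℕ
  ε : List ℤ
  d : ℕ

variable {D : ChevalleyDatum} (S : TwistSym D)

/-- The image of a node. -/
def TwistSym.node (i : ℕ) : ℕ := S.π.getD i 0

/-- The image of a root. -/
def TwistSym.img (r : ℕ) : ℕ := S.ρ.getD r 0

/-- The sign at a root. -/
def TwistSym.sgn (r : ℕ) : ℤ := S.ε.getD r 0

/-- The image of a root under the `k`-th power. -/
def TwistSym.imgIter : ℕ → ℕ → ℕ
  | 0, r => r
  | k + 1, r => S.img (TwistSym.imgIter k r)

/-- The sign of the `k`-th power at a root. -/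
def TwistSym.sgnIter : ℕ → ℕ → ℤ
  | 0, _ => 1
  | k + 1, r => S.sgn (S.imgIter k r) * TwistSym.sgnIter k r

/-- The length of the orbit of a root. -/
def TwistSym.olen (r : ℕ) : ℕ := if S.img r = r then 1 else S.d

/-- The test: a symmetry of order `d`, trivial signs on the fundamental roots and on whole orbits,
orbits of length 1 or `d` whose roots commute, positivity preserved. -/
def TwistSym.test : Bool :=
  symTest D S.π S.π' S.ρ S.ρ' S.ε &&
  decide (0 < S.d) &&
  (List.range D.nroots).all (fun r =>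
    decide (S.imgIter S.d r = r ∧ S.sgnIter (S.olen r) r = 1 ∧
      (D.nroots / 2 ≤ r ↔ D.nroots / 2 ≤ S.img r)) &&
    (List.range (S.olen r)).all fun k => decide (k = 0 ∨
      (S.imgIter k r ≠ r ∧ S.imgIter k r ≠ D.neg r ∧ D.chainEntry r (S.imgIter k r) = []))) &&
  (List.range D.rank).all (fun i => decide (S.img (D.simple i) = D.simple (S.node i) ∧
    S.img (D.neg (D.simple i)) = D.neg (D.simple (S.node i)) ∧
    S.sgn (D.simple i) = 1 ∧ S.sgn (D.neg (D.simple i)) = 1))

section
variable {S} (hS : S.test = true)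
include hS

theorem TwistSym.symOK : symTest D S.π S.π' S.ρ S.ρ' S.ε = true := by
  simp only [TwistSym.test, Bool.and_eq_true] at hS
  exact hS.1.1.1

theorem TwistSym.d_pos : 0 < S.d := by
  simp only [TwistSym.test, Bool.and_eq_true, decide_eq_true_eq] at hS
  exact hS.1.1.2

theorem TwistSym.img_lt {r : ℕ} (hr : r < D.nroots) : S.img r < D.nroots :=
  (symTest_root (TwistSym.symOK hS) r hr).1

theorem TwistSym.imgIter_lt {r : ℕ} (hr : r < D.nroots) (k : ℕ) : S.imgIter k r < D.nroots := by
  induction k with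
  | zero => exact hr
  | succ k ih => exact TwistSym.img_lt hS ih

theorem TwistSym.img_inj {r s : ℕ} (hr : r < D.nroots) (hs : s < D.nroots)
    (h : S.img r = S.img s) : r = s := by
  rw [← (symTest_root (TwistSym.symOK hS) r hr).2.2.1,
    ← (symTest_root (TwistSym.symOK hS) s hs).2.2.1]
  exact congrArg (fun a => S.ρ'.getD a 0) h

theorem TwistSym.neg_img {r : ℕ} (hr : r < D.nroots) : D.neg (S.img r) = S.img (D.neg r) :=
  (symTest_sign (TwistSym.symOK hS) r hr).2.2.1

theorem TwistSym.sgn_neg {r : ℕ} (hr : r < D.nroots) : S.sgn (D.neg r) = S.sgn r :=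
  (symTest_sign (TwistSym.symOK hS) r hr).2.2.2

theorem TwistSym.orbit_spec {r : ℕ} (hr : r < D.nroots) : S.imgIter S.d r = r ∧
    S.sgnIter (S.olen r) r = 1 ∧ (D.nroots / 2 ≤ r ↔ D.nroots / 2 ≤ S.img r) ∧
    ∀ k < S.olen r, k ≠ 0 → S.imgIter k r ≠ r ∧ S.imgIter k r ≠ D.neg r ∧
      D.chainEntry r (S.imgIter k r) = [] := by
  simp only [TwistSym.test, Bool.and_eq_true, decide_eq_true_eq, List.all_eq_true,
    List.mem_range] at hS
  obtain ⟨⟨a, b, c⟩, e⟩ := hS.1.2 r hr
  exact ⟨a, b, c, fun k hk h0 => (e k hk).resolve_left h0⟩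

theorem TwistSym.simple_spec {i : ℕ} (hi : i < D.rank) :
    S.img (D.simple i) = D.simple (S.node i) ∧
    S.img (D.neg (D.simple i)) = D.neg (D.simple (S.node i)) ∧
    S.sgn (D.simple i) = 1 ∧ S.sgn (D.neg (D.simple i)) = 1 := by
  simp only [TwistSym.test, Bool.and_eq_true, decide_eq_true_eq, List.all_eq_true,
    List.mem_range] at hS
  exact hS.2 i hi

theorem TwistSym.node_lt {i : ℕ} (hi : i < D.rank) : S.node i < D.rank :=
  (symTest_node (TwistSym.symOK hS) i hi).1

theorem TwistSym.imgIter_olen {r : ℕ} (hr : r < D.nroots) : S.imgIter (S.olen r) r = r := by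
  unfold TwistSym.olen
  split_ifs with h
  · exact h
  · exact (TwistSym.orbit_spec hS hr).1

end

variable {K : Type*} [Field K]

/-- The endomorphism `σ` of the general linear group. -/
noncomputable def twistSigma (hS : S.test = true) (φ : K ≃+* K) : GL D.Idx K ≃* GL D.Idx K :=
  (glFieldEquiv D.Idx φ).trans (symGL (TwistSym.symOK hS))

/-- The subgroup fixed by `σ`. -/
noncomputable def fixedSub (hS : S.test = true) (φ : K ≃+* K) : Subgroup (GL D.Idx K) where
  carrier := {g | twistSigma S hS φ g = g}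
  mul_mem' := fun {a b} ha hb => by
    show twistSigma S hS φ (a * b) = a * b
    rw [map_mul, show twistSigma S hS φ a = a from ha, show twistSigma S hS φ b = b from hb]
  one_mem' := map_one _
  inv_mem' := fun {a} ha => by
    show twistSigma S hS φ a⁻¹ = a⁻¹
    rw [map_inv, show twistSigma S hS φ a = a from ha]

variable {S}

theorem mem_fixedSub {hS : S.test = true} {φ : K ≃+* K} {g : GL D.Idx K} :
    g ∈ fixedSub S hS φ ↔ twistSigma S hS φ g = g := Iff.rfl

variable {T : Tabs}

theorem twistSigma_elX (hc : Checked D T) (hS : S.test = true) (φ : K ≃+* K) {r : ℕ}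
    (hr : r < D.nroots) (t : K) :
    twistSigma S hS φ (elX D K r t) = elX D K (S.img r) ((S.sgn r : ℤ) * φ t) := by
  apply Units.ext
  rw [coe_elX hc K (TwistSym.img_lt hS hr)]
  refine Eq.trans ?_ (symConj_x (TwistSym.symOK hS) r hr (φ t))
  show symConj (TwistSym.symOK hS) ((glFieldEquiv D.Idx φ (elX D K r t) : GL D.Idx K) : Matrix _ _ K) = _
  rw [glFieldEquiv_coe, coe_elX hc K hr]
  exact congrArg _ (x_map_ringHom D φ.toRingHom r t)

theorem twistSigma_iter_elX (hc : Checked D T) (hS : S.test = true) (φ : K ≃+* K) {r : ℕ}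
    (hr : r < D.nroots) (k : ℕ) (t : K) :
    (⇑(twistSigma S hS φ))^[k] (elX D K r t) =
      elX D K (S.imgIter k r) ((S.sgnIter k r : ℤ) * (⇑φ)^[k] t) := by
  induction k with
  | zero => simp [TwistSym.imgIter, TwistSym.sgnIter]
  | succ k ih =>
    rw [Function.iterate_succ_apply', ih, twistSigma_elX hc hS φ (TwistSym.imgIter_lt hS hr k),
      Function.iterate_succ_apply', map_mul, map_intCast, ← mul_assoc, ← Int.cast_mul]
    rfl

/-- The product over the orbit of an element under a monoid endomorphism. -/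
def orbProd {G : Type*} [Monoid G] (f : G → G) (n : ℕ) (g : G) : G :=
  ((List.range n).map fun k => f^[k] g).prod

theorem orbProd_succ {G : Type*} [Monoid G] (f : G → G) (n : ℕ) (g : G) :
    orbProd f (n + 1) g = orbProd f n g * f^[n] g := by
  simp [orbProd, List.range_succ]

theorem orbProd_one {G : Type*} [Monoid G] (f : G → G) (g : G) : orbProd f 1 g = g := by
  simp [orbProd]

theorem commute_orbProd {G : Type*} [Monoid G] (f : G → G) (n : ℕ) (g h : G)
    (hc : ∀ k < n, Commute h (f^[k] g)) : Commute h (orbProd f n g) := by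
  induction n with
  | zero => simp [orbProd]
  | succ n ih =>
    rw [orbProd_succ]
    exact (ih fun k hk => hc k (by omega)).mul_right (hc n (by omega))

/-- Commuting factors can be regrouped. -/
theorem orbProd_mul {G : Type*} [Monoid G] (f : G →* G) (n : ℕ) (g h : G)
    (hc : ∀ j k, j < n → k < n → j ≠ k → Commute ((⇑f)^[j] g) ((⇑f)^[k] h)) :
    orbProd f n (g * h) = orbProd f n g * orbProd f n h := by
  induction n with
  | zero => simp [orbProd]
  | succ n ih =>
    rw [orbProd_succ, orbProd_succ, orbProd_succ,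
      ih fun j k hj hk => hc j k (by omega) (by omega), iterate_map_mul]
    have : Commute ((⇑f)^[n] g) (orbProd f n h) :=
      commute_orbProd f n h _ fun k hk => hc n k (by omega) (by omega) (by omega)
    rw [mul_assoc, ← mul_assoc (orbProd (⇑f) n h), ← this.eq]
    simp only [mul_assoc]

theorem map_orbProd {G : Type*} [Monoid G] (f : G →* G) (n : ℕ) (g : G) (hn : (⇑f)^[n] g = g)
    (hc : ∀ k < n, Commute g ((⇑f)^[k] g)) : f (orbProd f n g) = orbProd f n g := by
  rcases Nat.eq_zero_or_pos n with rfl | hpos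
  · simp [orbProd]
  obtain ⟨m, rfl⟩ : ∃ m, n = m + 1 := ⟨n - 1, by omega⟩
  have h1 : ∀ j, orbProd f (j + 1) g = g * f (orbProd f j g) := by
    intro j
    induction j with
    | zero => simp [orbProd]
    | succ j ih =>
      rw [orbProd_succ _ (j + 1)]
      conv_lhs => rw [ih]
      rw [orbProd_succ, map_mul, mul_assoc, Function.iterate_succ_apply']
  conv_lhs => rw [orbProd_succ, map_mul, ← Function.iterate_succ_apply' (⇑f), hn]
  rw [h1]
  have : Commute g (f (orbProd f m g)) := by
    have key : ∀ j ≤ m, Commute g (f (orbProd f j g)) := by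
      intro j hj
      induction j with
      | zero => simp [orbProd]
      | succ j ih =>
        rw [orbProd_succ, map_mul, ← Function.iterate_succ_apply' (⇑f)]
        exact (ih (by omega)).mul_right (hc (j + 1) (by omega))
    exact key m le_rfl
  exact this.eq.symm

/-- `x_R(t)`: the product over the orbit of `r` of the images of `x_r(t)`. -/
noncomputable def orbX (hS : S.test = true) (φ : K ≃+* K) (r : ℕ) (t : K) : GL D.Idx K :=
  orbProd (⇑(twistSigma S hS φ)) (S.olen r) (elX D K r t)

/-- The admissible parameters at a root: those for which `x_R(t)` is fixed. -/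
def IsPar (S : TwistSym D) (φ : K ≃+* K) (r : ℕ) (t : K) : Prop := (⇑φ)^[S.olen r] t = t

theorem isPar_zero (φ : K ≃+* K) (r : ℕ) : IsPar S φ r 0 := by
  simp [IsPar]

theorem isPar_one (φ : K ≃+* K) (r : ℕ) : IsPar S φ r 1 := by
  simp [IsPar]

section
variable (hc : Checked D T) (hS : S.test = true) (φ : K ≃+* K) {r : ℕ} (hr : r < D.nroots)
include hc hr

theorem iter_olen_elX (t : K) :
    (⇑(twistSigma S hS φ))^[S.olen r] (elX D K r t) = elX D K r ((⇑φ)^[S.olen r] t) := by
  rw [twistSigma_iter_elX hc hS φ hr, TwistSym.imgIter_olen hS hr,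
    (TwistSym.orbit_spec hS hr).2.1, Int.cast_one, one_mul]

theorem commute_iter_elX (t u : K) {j k : ℕ} (hj : j < S.olen r) (hk : k < S.olen r) :
    Commute ((⇑(twistSigma S hS φ))^[j] (elX D K r t))
      ((⇑(twistSigma S hS φ))^[k] (elX D K r u)) := by
  have base : ∀ (k : ℕ) (a b : K), k < S.olen r →
      Commute (elX D K r a) ((⇑(twistSigma S hS φ))^[k] (elX D K r b)) := by
    intro k a b hk
    rw [twistSigma_iter_elX hc hS φ hr]
    by_cases h0 : k = 0
    · subst h0
      show elX D K r a * elX D K r _ = elX D K r _ * elX D K r a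
      rw [elX_add hc K hr, elX_add hc K hr, add_comm]
    · obtain ⟨-, h2, h3⟩ := (TwistSym.orbit_spec hS hr).2.2.2 k hk h0
      exact commute_elX hc hr (TwistSym.imgIter_lt hS hr k) h2 h3 _ _
  rcases le_total j k with h | h
  · obtain ⟨m, rfl⟩ := Nat.exists_eq_add_of_le h
    rw [Function.iterate_add_apply]
    show _ * _ = _ * _
    rw [← iterate_map_mul, ← iterate_map_mul, (base m t u (by omega)).eq]
  · obtain ⟨m, rfl⟩ := Nat.exists_eq_add_of_le h
    rw [Function.iterate_add_apply]
    show _ * _ = _ * _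
    rw [← iterate_map_mul, ← iterate_map_mul, (base m u t (by omega)).eq]

theorem orbX_add (t u : K) : orbX hS φ r t * orbX hS φ r u = orbX hS φ r (t + u) := by
  rw [orbX, orbX, orbX, ← elX_add hc K hr]
  exact (orbProd_mul (twistSigma S hS φ).toMonoidHom _ _ _
    fun j k hj hk _ => commute_iter_elX hc hS φ hr t u hj hk).symm

theorem orbX_zero : orbX hS φ r 0 = 1 := by
  have h := orbX_add hc hS φ hr (0 : K) 0
  rwa [add_zero, mul_eq_left] at h

theorem orbX_inv (t : K) : (orbX hS φ r t)⁻¹ = orbX hS φ r (-t) := by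
  rw [inv_eq_iff_mul_eq_one, orbX_add hc hS φ hr, add_neg_cancel, orbX_zero hc hS φ hr]

theorem orbX_fixed {t : K} (ht : IsPar S φ r t) : orbX hS φ r t ∈ fixedSub S hS φ := by
  rw [mem_fixedSub, orbX]
  refine map_orbProd (twistSigma S hS φ).toMonoidHom _ _ ?_
    fun k hk => commute_iter_elX hc hS φ hr t t (j := 0) (by omega) hk
  show (⇑(twistSigma S hS φ))^[S.olen r] _ = _
  rw [iter_olen_elX hc hS φ hr, ht]

end

end CfsgLib.Twisted
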